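import Mathlib
import Cfsg.Agent.H493.CC.CoxD
import Cfsg.Agent.H519.LieRank
import Cfsg.Agent.AutOrth.Main
import Cfsg.Agent.Nodes.WittInst
import Cfsg.Agent.H40.PV.Ell
import Cfsg.Agent.H116.RatB0.RowRgd
import Cfsg.Agent.H145.BR.RowZ
import Cfsg.Agent.Nodes.RGDLib
import Cfsg.Agent.H53.HC.Asm
import Cfsg.Agent.Nodes.Comb
import Cfsg.Agent.H965.XZ.IdxD
import Cfsg.Agent.H965.XZ.Walk
import Cfsg.Agent.H963.XZ.Bt_m3
import Cfsg.Agent.H107.NB.OrthTor_m3
import Cfsg.Agent.FastGrp
import Cfsg.Agent.Prune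
set_option linter.all false

section
prune_inst 0x7fbcfef92bb8b1dfdfff7e7fa7f8cffdd9f81fffa4dff9fbffe06bff0bbf030009c5fbad6de090fe0ed6421410287843f97eca3fe06bdc7ffffd5ff41ffbee0fb5e7350851d48c340f3c2ffe03f0778a7f3fffffffffffffffffffffffffffbeffbdffffffff

-- part: H79/XZ/Lam
section
set_option linter.all false
open scoped Cfsg.Agent.FastGrp

/-!
# S4791 + S4927, own characteristic: the invariant `Lam` (helper79)

`Lam p t = {k | ∃ u ≠ 1, u ^ p = 1, t u t⁻¹ = u ^ k}` is invariant under all automorphisms.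

* `Lam_map`, `Lam_of_lift` : isomorphisms, central quotients of exponent 2;
* `eig_of_lam` : `t` diagonalizable on `V` in characteristic `p`, `k ∈ Lam t`: an eigenvector `v` of `t`, eigenvalue `μ`,
  with `u v - v` an eigenvector for `k μ`.
-/

set_option autoImplicit false

namespace Cfsg.Agent.H79.XZ

section group

variable {S S' : Type*} [Group S] [Group S'] {p : ℕ}

/-- the exponents of `t` on elements of order `p` -/
def Lam (p : ℕ) {S : Type*} [Group S] (t : S) : Set ℕ :=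
  {k | ∃ u : S, u ≠ 1 ∧ u ^ p = 1 ∧ t * u * t⁻¹ = u ^ k}

theorem Lam_map_le (σ : S ≃* S') (t : S) : Lam p t ⊆ Lam p (σ t) := by
  rintro k ⟨u, h1, h2, h3⟩
  refine ⟨σ u, ?_, ?_, ?_⟩
  · exact (MulEquiv.map_ne_one_iff σ).2 h1
  · rw [← map_pow, h2, map_one]
  · rw [← map_inv, ← map_mul, ← map_mul, h3, map_pow]

theorem Lam_map (σ : S ≃* S') (t : S) : Lam p (σ t) = Lam p t := by
  refine le_antisymm ?_ (Lam_map_le σ t)
  have := Lam_map_le (p := p) σ.symm (σ t)
  rwa [MulEquiv.symm_apply_apply] at this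

theorem eq_one_of_two_odd (hp : Odd p) {z : S} (h2 : z ^ 2 = 1) (h : z ^ p = 1) : z = 1 := by
  obtain ⟨m, rfl⟩ := hp
  rwa [pow_succ, pow_mul, h2, one_pow, one_mul] at h

theorem Lam_of_lift (π : S →* S') (hπ : Function.Surjective π) (hc : π.ker ≤ Subgroup.center S)
    (h2 : ∀ z ∈ π.ker, z ^ 2 = 1) (hp : Odd p) (t : S) : Lam p (π t) = Lam p t := by
  apply le_antisymm
  · rintro k ⟨u', h1, hup, htu⟩
    obtain ⟨u, rfl⟩ := hπ u'
    -- normalise the lift
    have hz : u ^ p ∈ π.ker := by rw [MonoidHom.mem_ker, map_pow, hup]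
    have hzc := Subgroup.mem_center_iff.1 (hc hz)
    have hz2 := h2 _ hz
    set z := u ^ p with hzdef
    have hzz : z * z = 1 := by rw [← pow_two, hz2]
    have hzp : z ^ p = z := by
      obtain ⟨m, rfl⟩ := hp
      rw [pow_succ, pow_mul, hz2, one_pow, one_mul]
    have hcomm : Commute u z := hzc u
    have hu1 : (u * z) ^ p = 1 := by rw [hcomm.mul_pow, ← hzdef, hzp, hzz]
    have hπz : π z = 1 := hz
    refine ⟨u * z, ?_, hu1, ?_⟩
    · intro h
      apply h1
      have := congrArg π h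
      rwa [map_mul, hπz, mul_one, map_one] at this
    · -- the discrepancy is central of exponent 2
      set w := t * (u * z) * t⁻¹ * ((u * z) ^ k)⁻¹ with hw
      have hwk : w ∈ π.ker := by
        rw [MonoidHom.mem_ker, hw]
        simp only [map_mul, map_inv, map_pow, hπz, mul_one]
        rw [htu, mul_inv_cancel]
      have hwc := Subgroup.mem_center_iff.1 (hc hwk)
      have e1 : t * (u * z) * t⁻¹ = w * (u * z) ^ k := by rw [hw]; group
      have e2 : (t * (u * z) * t⁻¹) ^ p = 1 := by rw [conj_pow, hu1, mul_one, mul_inv_cancel]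
      have e3 : Commute w ((u * z) ^ k) := (hwc _).symm
      rw [e1, e3.mul_pow, ← pow_mul, mul_comm k p, pow_mul, hu1, one_pow, mul_one] at e2
      rw [e1, eq_one_of_two_odd hp (h2 w hwk) e2, one_mul]
  · rintro k ⟨u, h1, hup, htu⟩
    refine ⟨π u, ?_, ?_, ?_⟩
    · intro h
      exact h1 (eq_one_of_two_odd hp (h2 u h) hup)
    · rw [← map_pow, hup, map_one]
    · rw [← map_inv, ← map_mul, ← map_mul, htu, map_pow]

end group

section lin

open Module

variable {F V : Type*} [Field F] [AddCommGroup V] [Module F V] {p : ℕ}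

theorem pow_fix {u : V ≃ₗ[F] V} {y : V} (h : u y = y) (k : ℕ) : (u ^ k) y = y := by
  induction k with
  | zero => rfl
  | succ k ih =>
    rw [pow_succ]
    show (u ^ k) (u y) = y
    rw [h, ih]

theorem pow_two_step {u : V ≃ₗ[F] V} {x : V} (h : u (u x - x) = u x - x) (k : ℕ) :
    (u ^ k) x = x + (k : F) • (u x - x) := by
  induction k with
  | zero => simp
  | succ k ih =>
    have h1 : (u ^ (k + 1)) x = u ((u ^ k) x) := by rw [pow_succ']; rfl
    rw [h1, ih, map_add, map_smul, h, Nat.cast_succ, add_smul, one_smul]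
    abel

/-- **the eigenvector** -/
theorem eig_of_lam [FiniteDimensional F V] [CharP F p] [Fact p.Prime] {t u : V ≃ₗ[F] V} {k : ℕ} (h1 : u ≠ 1)
    (hup : u ^ p = 1) (htu : t * u * t⁻¹ = u ^ k) (hd : ⨆ μ, Module.End.eigenspace (t : Module.End F V) μ = ⊤) :
    ∃ (μ : F) (v : V), t v = μ • v ∧ u v ≠ v ∧ u (u v - v) = u v - v ∧ t (u v - v) = ((k : F) * μ) • (u v - v) := by
  have htu' : ∀ x, t (u x) = (u ^ k) (t x) := by
    intro x
    have e : t * u = u ^ k * t := by rw [← htu, inv_mul_cancel_right]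
    exact congrArg (fun f : V ≃ₗ[F] V => f x) e
  have htu'' : ∀ x, u (t⁻¹ x) = t⁻¹ ((u ^ k) x) := by
    intro x
    have e : u * t⁻¹ = t⁻¹ * u ^ k := by rw [← htu]; group
    exact congrArg (fun f : V ≃ₗ[F] V => f x) e
  -- `K = ker (u - 1)²`
  let N : Module.End F V := (u : V →ₗ[F] V) - 1
  have hN : ∀ x, N x = u x - x := fun _ => rfl
  let K : Submodule F V := LinearMap.ker (N * N)
  have hK : ∀ x, x ∈ K ↔ u (u x - x) = u x - x := by
    intro x
    rw [LinearMap.mem_ker, Module.End.mul_apply, hN, hN, sub_eq_zero]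
  have hinv : ∀ x ∈ K, t⁻¹ x ∈ K := by
    intro x hx
    rw [hK] at hx ⊢
    have h3 : u ((k : F) • (u x - x)) = (k : F) • (u x - x) := by rw [map_smul, hx]
    have h2 : u (t⁻¹ x) - t⁻¹ x = t⁻¹ ((k : F) • (u x - x)) := by
      rw [htu'', pow_two_step hx, map_add, add_sub_cancel_left]
    rw [h2, htu'', pow_fix h3]
  have hmap : K.map (t⁻¹ : V ≃ₗ[F] V).toLinearMap = K := by
    apply Submodule.eq_of_le_of_finrank_eq
    · rintro _ ⟨x, hx, rfl⟩
      exact hinv x hx
    · exact LinearEquiv.finrank_map_eq (t⁻¹ : V ≃ₗ[F] V) K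
  have htK : ∀ x ∈ K, (t : Module.End F V) x ∈ K := by
    intro x hx
    rw [← hmap] at hx
    obtain ⟨y, hy, rfl⟩ := hx
    have : (t : Module.End F V) (((t⁻¹ : V ≃ₗ[F] V) : V →ₗ[F] V) y) = y := by
      show t (t⁻¹ y) = y
      have e : t * t⁻¹ = 1 := mul_inv_cancel t
      exact congrArg (fun f : V ≃ₗ[F] V => f y) e
    rw [this]
    exact hy
  -- `K` is not contained in `ker (u - 1)`
  have hNp : N ^ p = 0 := by
    have h2 : N ^ p = (u : Module.End F V) ^ p - 1 ^ p := by
      have h4 : ((Polynomial.X : Polynomial F) - 1) ^ p = Polynomial.X ^ p - 1 ^ p := sub_pow_char _ _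
      have h5 := congrArg (Polynomial.aeval (u : Module.End F V)) h4
      rw [map_pow, map_sub, map_sub, map_pow, map_pow, Polynomial.aeval_X, map_one] at h5
      exact h5
    have h3 : (u : Module.End F V) ^ p = 1 := by
      ext x
      have : ∀ n : ℕ, ((u : Module.End F V) ^ n) x = (u ^ n) x := by
        intro n
        induction n with
        | zero => rfl
        | succ n ih => rw [pow_succ', pow_succ', Module.End.mul_apply, ih]; rfl
      rw [this, hup]
      rfl
    rw [h2, h3, one_pow, sub_self]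
  have hN0 : N ≠ 0 := by
    intro h
    apply h1
    ext x
    have := hN x
    rw [h, LinearMap.zero_apply] at this
    exact (sub_eq_zero.1 this.symm)
  have hnle : ¬ K ≤ LinearMap.ker N := by
    intro hle
    -- then `N^r = 0` implies `N^(r-1) = 0`
    have key : ∀ r, N ^ (r + 1) = 0 → N = 0 := by
      intro r
      induction r with
      | zero => intro h; rwa [zero_add, pow_one] at h
      | succ r ih =>
        intro h
        apply ih
        ext x
        have h3 : (N ^ r) x ∈ K := by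
          rw [LinearMap.mem_ker, ← Module.End.mul_apply, ← pow_two, ← pow_add, add_comm 2 r]
          show (N ^ (r + 1 + 1)) x = 0
          rw [h]
          rfl
        have h4 := hle h3
        rw [LinearMap.mem_ker, ← Module.End.mul_apply, ← pow_succ'] at h4
        rw [h4]
        rfl
    apply hN0
    have hp : p = (p - 1) + 1 := (Nat.succ_pred_eq_of_pos (Fact.out : p.Prime).pos).symm
    rw [hp] at hNp
    exact key _ hNp
  have hsup : K = ⨆ μ, K ⊓ Module.End.eigenspace (t : Module.End F V) μ := by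
    have := Submodule.inf_iSup_genEigenspace (p := K) (f := (t : Module.End F V)) htK 1
    have hd' : ⨆ μ, Module.End.genEigenspace (t : Module.End F V) μ 1 = ⊤ := hd
    rw [hd', inf_top_eq] at this
    exact this
  obtain ⟨μ, hμ⟩ : ∃ μ, ¬ K ⊓ Module.End.eigenspace (t : Module.End F V) μ ≤ LinearMap.ker N := by
    by_contra hcon
    push Not at hcon
    apply hnle
    rw [hsup]
    exact iSup_le hcon
  obtain ⟨v, ⟨hvK, hvμ⟩, hvN⟩ := Set.not_subset.1 hμ
  have h4 : t v = μ • v := Module.End.mem_eigenspace_iff.1 hvμ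
  have h5 : u v ≠ v := by
    intro h
    apply hvN
    show v ∈ LinearMap.ker N
    rw [LinearMap.mem_ker, hN, h, sub_self]
  have h6 := (hK v).1 hvK
  refine ⟨μ, v, h4, h5, h6, ?_⟩
  rw [map_sub, htu', h4, map_smul, pow_two_step h6, ← smul_sub, add_sub_cancel_left, smul_smul, mul_comm]

end lin

end Cfsg.Agent.H79.XZ
end

-- part: H636/LIN/Alt
section
set_option linter.all false
open scoped Cfsg.Agent.FastGrp

-- part: H636/LIN/Chains
section
/-!
# Alternating sums over chains (helper636, for S4791 / S4927)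

* `Ech s` : the sum of `(-1) ^ |c|` over all chains `c ⊆ s`;
* `Ech_eq` : `Ech s = 1 - ∑ x ∈ s, Ech (above x)` for an upper set `s`;
-/

set_option autoImplicit false
set_option linter.unusedSectionVars false

namespace Cfsg.Agent.H636.LIN

open Finset

variable {α : Type*} [Fintype α] [DecidableEq α] [PartialOrder α] [DecidableLE α] [DecidableLT α]

/-- the chains in `s` -/
def chs (s : Finset α) : Finset (Finset α) := s.powerset.filter fun c => ∀ x ∈ c, ∀ y ∈ c, x ≤ y ∨ y ≤ x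

theorem mem_chs {s c : Finset α} : c ∈ chs s ↔ c ⊆ s ∧ ∀ x ∈ c, ∀ y ∈ c, x ≤ y ∨ y ≤ x := by
  unfold chs
  rw [mem_filter, mem_powerset]

/-- the alternating number of chains -/
def Ech (s : Finset α) : ℤ := ∑ c ∈ chs s, (-1) ^ c.card

theorem exists_min {c : Finset α} (hc : ∀ x ∈ c, ∀ y ∈ c, x ≤ y ∨ y ≤ x) (hne : c.Nonempty) : ∃ x ∈ c, ∀ y ∈ c, x ≤ y := by
  obtain ⟨x, hx, hmin⟩ := c.exists_minimal hne
  refine ⟨x, hx, fun y hy => ?_⟩
  rcases hc x hx y hy with h | h
  · exact h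
  · exact hmin hy h

/-- chains are sorted by their smallest element -/
theorem Ech_eq (s : Finset α) (hs : ∀ x ∈ s, ∀ y, x < y → y ∈ s) :
    Ech s = 1 - ∑ x ∈ s, Ech (univ.filter fun y => x < y) := by
  have h1 : chs s = insert ∅ (s.biUnion fun x => (chs (univ.filter fun y => x < y)).image (insert x)) := by
    ext c
    rw [mem_insert, mem_biUnion]
    constructor
    · intro hc
      rw [mem_chs] at hc
      rcases c.eq_empty_or_nonempty with h | h
      · exact Or.inl h
      · right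
        obtain ⟨x, hx, hmin⟩ := exists_min hc.2 h
        refine ⟨x, hc.1 hx, ?_⟩
        rw [mem_image]
        refine ⟨c.erase x, ?_, insert_erase hx⟩
        rw [mem_chs]
        refine ⟨fun y hy => ?_, fun y hy z hz => hc.2 y (mem_of_mem_erase hy) z (mem_of_mem_erase hz)⟩
        rw [mem_filter]
        exact ⟨mem_univ _, lt_of_le_of_ne (hmin y (mem_of_mem_erase hy)) (ne_of_mem_erase hy).symm⟩
    · rintro (rfl | ⟨x, hx, hc⟩)
      · rw [mem_chs]
        exact ⟨empty_subset _, fun y hy => absurd hy (notMem_empty _)⟩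
      · obtain ⟨c', hc', rfl⟩ := mem_image.1 hc
        rw [mem_chs] at hc' ⊢
        constructor
        · intro y hy
          rcases mem_insert.1 hy with rfl | hy
          · exact hx
          · exact hs x hx y (mem_filter.1 (hc'.1 hy)).2
        · intro y hy z hz
          rcases mem_insert.1 hy with h1 | h1 <;> rcases mem_insert.1 hz with h2 | h2
          · exact Or.inl (h1.trans h2.symm).le
          · rw [h1]
            exact Or.inl (mem_filter.1 (hc'.1 h2)).2.le
          · rw [h2]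
            exact Or.inr (mem_filter.1 (hc'.1 h1)).2.le
          · exact hc'.2 y h1 z h2
  have hno : ∀ x, ∀ c ∈ chs (univ.filter fun y : α => x < y), x ∉ c := by
    intro x c hc hx
    exact lt_irrefl x (mem_filter.1 ((mem_chs.1 hc).1 hx)).2
  unfold Ech
  rw [h1, sum_insert, card_empty, pow_zero, sum_biUnion, sub_eq_add_neg, ← sum_neg_distrib]
  · congr 1
    refine sum_congr rfl fun x _ => ?_
    rw [sum_image, ← sum_neg_distrib]
    · refine sum_congr rfl fun c hc => ?_
      rw [card_insert_of_notMem (hno x c hc), pow_succ]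
      ring
    · intro c hc c' hc' e
      rw [← erase_insert (hno x c hc), ← erase_insert (hno x c' hc')]
      exact congrArg (fun c => c.erase x) e
  · intro x _ y _ hxy
    rw [Function.onFun, disjoint_left]
    intro c hc hc'
    obtain ⟨d, hd, rfl⟩ := mem_image.1 hc
    obtain ⟨d', hd', e⟩ := mem_image.1 hc'
    have h2 : x ∈ insert y d' := by rw [e]; exact mem_insert_self _ _
    have h3 : y ∈ insert x d := by rw [← e]; exact mem_insert_self _ _
    rcases mem_insert.1 h2 with h4 | h4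
    · exact hxy h4
    · rcases mem_insert.1 h3 with h5 | h5
      · exact hxy h5.symm
      · exact lt_asymm (mem_filter.1 ((mem_chs.1 hd').1 h4)).2 (mem_filter.1 ((mem_chs.1 hd).1 h5)).2
  · rw [mem_biUnion]
    rintro ⟨x, _, hx⟩
    obtain ⟨d, _, e⟩ := mem_image.1 hx
    exact insert_ne_empty _ _ e

/-- if `e` satisfies the recursion then it is the alternating number of chains above `x` -/
theorem Ech_above (e : α → ℤ) (he : ∀ x, ∑ y ∈ univ.filter (fun y => x ≤ y), e y = 1) (x : α) :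
    Ech (univ.filter fun y => x < y) = e x := by
  have hwf : WellFounded (fun x y : α => y < x) := (Finite.wellFounded_of_trans_of_irrefl (fun x y : α => y < x))
  refine hwf.induction (C := fun x => Ech (univ.filter fun y => x < y) = e x) x ?_
  intro x ih
  have h1 := Ech_eq (univ.filter fun y => x < y) (by
    intro y hy z hz
    rw [mem_filter] at hy ⊢
    exact ⟨mem_univ _, hy.2.trans hz⟩)
  rw [h1, sum_congr rfl fun y hy => ih y (mem_filter.1 hy).2]
  have h2 := he x
  have h3 : (univ.filter fun y => x ≤ y) = insert x (univ.filter fun y => x < y) := by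
    ext y
    rw [mem_insert, mem_filter, mem_filter]
    constructor
    · rintro ⟨-, h⟩
      rcases h.eq_or_lt with h | h
      · exact Or.inl h.symm
      · exact Or.inr ⟨mem_univ _, h⟩
    · rintro (rfl | ⟨-, h⟩)
      · exact ⟨mem_univ _, le_rfl⟩
      · exact ⟨mem_univ _, h.le⟩
  rw [h3, sum_insert (by rw [mem_filter]; exact fun h => lt_irrefl _ h.2)] at h2
  linarith

theorem Ech_upper (e : α → ℤ) (he : ∀ x, ∑ y ∈ univ.filter (fun y => x ≤ y), e y = 1) (s : Finset α)
    (hs : ∀ x ∈ s, ∀ y, x < y → y ∈ s) : Ech s = 1 - ∑ x ∈ s, e x := by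
  rw [Ech_eq s hs, sum_congr rfl fun x _ => Ech_above e he x]

end Cfsg.Agent.H636.LIN
end

-- part: H636/LIN/Signed
section
/-!
# Signed subsets (helper636, for S4791 / S4927)

* `Sg ι` : signed subsets of `ι`; `Fin (v + 1) × Sg ι` : the orbits of the centraliser of `P` on the `P`-fixed totally isotropic
  subspaces;
* `Ech_ge` : the alternating number of the chains of elements of dimension at least `b > v`;
* `alt_sum` : the alternating sum over the types of flags.
-/

set_option autoImplicit false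
set_option linter.unusedSectionVars false

namespace Cfsg.Agent.H636.LIN

open Finset

/-- signed subsets -/
def Sg (ι : Type*) : Type _ := ι → Option Bool

section

variable {ι : Type*} [Fintype ι] [DecidableEq ι]

instance : Fintype (Sg ι) := inferInstanceAs (Fintype (ι → Option Bool))

instance : DecidableEq (Sg ι) := inferInstanceAs (DecidableEq (ι → Option Bool))

instance : PartialOrder (Sg ι) where
  le σ τ := ∀ i, σ i = none ∨ σ i = τ i
  le_refl σ i := Or.inr rfl
  le_trans σ τ ρ h1 h2 i := by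
    rcases h1 i with h | h
    · exact Or.inl h
    · rcases h2 i with h' | h'
      · exact Or.inl (h.trans h')
      · exact Or.inr (h.trans h')
  le_antisymm σ τ h1 h2 := by
    funext i
    rcases h1 i with h | h
    · rcases h2 i with h' | h'
      · exact h.trans h'.symm
      · exact h'.symm
    · exact h

theorem sg_le {σ τ : Sg ι} : σ ≤ τ ↔ ∀ i, σ i = none ∨ σ i = τ i := Iff.rfl

open scoped Classical in
noncomputable instance : DecidableLE (Sg ι) := fun _ _ => Classical.dec _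

open scoped Classical in
noncomputable instance : DecidableLT (Sg ι) := fun _ _ => Classical.dec _

theorem ext_sg {σ τ : Sg ι} (h : ∀ i, σ i = τ i) : σ = τ := funext h

/-- the sign of a signed subset -/
def sgn (σ : Sg ι) : ℤ := ∏ i, if σ i = none then -1 else 1

/-- the weight of a signed subset -/
def wt (d : ι → ℕ) (σ : Sg ι) : ℕ := ∑ i, if σ i = none then 0 else d i

theorem sum_sgn_ge (σ : Sg ι) : ∑ τ ∈ univ.filter (fun τ : Sg ι => σ ≤ τ), sgn τ = 1 := by
  have h1 : (univ.filter fun τ : Sg ι => σ ≤ τ) =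
      (Fintype.piFinset (fun i => univ.filter fun t : Option Bool => σ i = none ∨ σ i = t) : Finset (ι → Option Bool)) := by
    refine Finset.ext fun τ => ?_
    refine Iff.trans (b := σ ≤ τ) ⟨fun h => (mem_filter.1 h).2, fun h => mem_filter.2 ⟨mem_univ _, h⟩⟩ ?_
    refine Iff.trans ?_ (Fintype.mem_piFinset (δ := fun _ : ι => Option Bool)).symm
    refine Iff.trans sg_le ?_
    simp only [mem_filter, mem_univ, true_and]
  have h2 := Finset.prod_univ_sum (fun i => univ.filter fun t : Option Bool => σ i = none ∨ σ i = t)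
    (fun (i : ι) (t : Option Bool) => if t = none then (-1 : ℤ) else 1)
  rw [h1]
  unfold sgn
  refine Eq.trans h2.symm ?_
  refine Finset.prod_eq_one fun i _ => ?_
  rcases h : σ i with _ | b
  · rw [filter_true_of_mem (fun t _ => Or.inl rfl)]
    decide
  · have h3 : (univ.filter fun t : Option Bool => (some b : Option Bool) = none ∨ some b = t) = {some b} := by
      ext t
      rw [mem_filter, mem_singleton]
      constructor
      · rintro ⟨-, h | h⟩
        · exact absurd h (by simp)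
        · exact h.symm
      · rintro rfl
        exact ⟨mem_univ _, Or.inr rfl⟩
    rw [h3, sum_singleton]
    rfl

/-- the empty signed subset -/
def emp (ι : Type*) : Sg ι := fun _ => none

theorem emp_le (σ : Sg ι) : emp ι ≤ σ := fun _ => Or.inl rfl

theorem sum_sgn : ∑ τ : Sg ι, sgn τ = 1 := by
  have h := sum_sgn_ge (emp ι)
  rwa [filter_true_of_mem (fun τ _ => emp_le τ)] at h

/-- the elements of the poset -/
abbrev Q (v : ℕ) (ι : Type*) := Fin (v + 1) × Sg ι

noncomputable instance {v : ℕ} : DecidableLE (Q v ι) := fun _ _ => Classical.dec _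

noncomputable instance {v : ℕ} : DecidableLT (Q v ι) := fun _ _ => Classical.dec _

/-- the dimension -/
def dm {v : ℕ} (d : ι → ℕ) (x : Q v ι) : ℕ := x.1 + wt d x.2

theorem wt_mono {d : ι → ℕ} {σ τ : Sg ι} (h : σ ≤ τ) : wt d σ ≤ wt d τ := by
  unfold wt
  refine sum_le_sum fun i _ => ?_
  rcases h i with h1 | h1
  · rw [if_pos h1]
    exact Nat.zero_le _
  · rw [h1]

theorem wt_strictMono {d : ι → ℕ} (hd : ∀ i, 0 < d i) {σ τ : Sg ι} (h : σ < τ) : wt d σ < wt d τ := by
  unfold wt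
  have hle := h.le
  obtain ⟨i, hi⟩ : ∃ i, σ i ≠ τ i := by
    by_contra hcon
    push Not at hcon
    exact h.ne (funext hcon)
  refine sum_lt_sum (fun i _ => ?_) ⟨i, mem_univ _, ?_⟩
  · rcases hle i with h1 | h1
    · rw [if_pos h1]
      exact Nat.zero_le _
    · rw [h1]
  · rcases hle i with h1 | h1
    · rw [if_pos h1, if_neg fun h2 => hi (h1.trans h2.symm)]
      exact hd i
    · exact absurd h1 hi

theorem dm_strictMono {v : ℕ} {d : ι → ℕ} (hd : ∀ i, 0 < d i) {x y : Q v ι} (h : x < y) : dm d x < dm d y := by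
  unfold dm
  rcases Prod.lt_iff.1 h with h1 | h1
  · have h2 : (x.1 : ℕ) < y.1 := h1.1
    have h3 := wt_mono (d := d) h1.2
    omega
  · have h2 : (x.1 : ℕ) ≤ y.1 := h1.1
    have h3 := wt_strictMono hd h1.2
    omega

/-- the alternating number of the chains above `(v', σ)` -/
def ee {v : ℕ} (x : Q v ι) : ℤ := if (x.1 : ℕ) = v then sgn x.2 else 0

theorem sum_ee {v : ℕ} (s : Finset (Q v ι)) : ∑ x ∈ s, ee x = ∑ σ ∈ univ.filter (fun σ : Sg ι => (Fin.last v, σ) ∈ s), sgn σ := by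
  have h1 : ∀ x ∈ s.filter (fun x => (x.1 : ℕ) = v), ee x = sgn x.2 := by
    intro x hx
    unfold ee
    rw [if_pos (mem_filter.1 hx).2]
  have h2 : ∑ x ∈ s, ee x = ∑ x ∈ s.filter (fun x => (x.1 : ℕ) = v), ee x := by
    rw [sum_filter]
    refine sum_congr rfl fun x _ => ?_
    unfold ee
    split_ifs <;> rfl
  rw [h2, sum_congr rfl h1]
  refine sum_bij' (fun x _ => x.2) (fun σ _ => (Fin.last v, σ)) ?_ ?_ ?_ ?_ ?_
  · intro x hx
    rw [mem_filter] at hx ⊢
    refine ⟨mem_univ _, ?_⟩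
    have h3 : (Fin.last v, x.2) = x := Prod.ext (Fin.ext hx.2.symm) rfl
    rw [h3]
    exact hx.1
  · intro σ hσ
    rw [mem_filter] at hσ ⊢
    exact ⟨hσ.2, rfl⟩
  · intro x hx
    exact Prod.ext (Fin.ext (mem_filter.1 hx).2.symm) rfl
  · intro σ _
    rfl
  · intro x _
    rfl

theorem ee_rec {v : ℕ} (x : Q v ι) : ∑ y ∈ univ.filter (fun y => x ≤ y), ee y = 1 := by
  rw [sum_ee, ← sum_sgn_ge x.2]
  refine sum_congr ?_ fun _ _ => rfl
  ext σ
  simp only [mem_filter, mem_univ, true_and]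
  constructor
  · exact fun h => h.2
  · exact fun h => ⟨Fin.le_last _, h⟩

/-- **the alternating number of the chains of elements of dimension at least `b`** -/
theorem Ech_ge {v : ℕ} (d : ι → ℕ) (b : ℕ) :
    Ech (univ.filter fun x : Q v ι => b ≤ dm d x) = ∑ σ ∈ univ.filter (fun σ : Sg ι => v + wt d σ < b), sgn σ := by
  rw [Ech_upper ee ee_rec, sum_ee]
  · have h1 := sum_sgn (ι := ι)
    rw [← sum_filter_add_sum_filter_not univ (fun σ : Sg ι => v + wt d σ < b)] at h1
    have h2 : (univ.filter fun σ : Sg ι => (Fin.last v, σ) ∈ univ.filter fun x : Q v ι => b ≤ dm d x) =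
        univ.filter fun σ : Sg ι => ¬ v + wt d σ < b := by
      refine Finset.ext fun σ => ⟨fun h => ?_, fun h => ?_⟩
      · have h3 : b ≤ dm d (Fin.last v, σ) := (mem_filter.1 (mem_filter.1 h).2).2
        exact mem_filter.2 ⟨mem_univ _, not_lt.2 h3⟩
      · have h3 : b ≤ dm d (Fin.last v, σ) := not_lt.1 (mem_filter.1 h).2
        exact mem_filter.2 ⟨mem_univ _, mem_filter.2 ⟨mem_univ _, h3⟩⟩
    rw [h2]
    linarith
  · intro x hx y hxy
    rw [mem_filter] at hx ⊢
    refine ⟨mem_univ _, hx.2.trans ?_⟩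
    unfold dm
    have h1 : (x.1 : ℕ) ≤ y.1 := hxy.le.1
    have h2 := wt_mono (d := d) hxy.le.2
    omega

end

end Cfsg.Agent.H636.LIN
end

-- part: H636/LIN/Alt
section
/-!
# The alternating sum over the types of flags (helper636, for S4791 / S4927)
-/

set_option autoImplicit false
set_option linter.unusedSectionVars false

namespace Cfsg.Agent.H636.LIN

open Finset

section general

variable {α : Type*} [Fintype α] [DecidableEq α] [PartialOrder α] [DecidableLE α] [DecidableLT α] {m : ℕ}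

/-- the number of chains with dimensions `k + 1`, `k ∈ U` -/
def nch (D : α → ℕ) (U : Finset (Fin m)) : ℤ :=
  (((chs (univ : Finset α)).filter fun c => c.image D = U.image fun k : Fin m => (k : ℕ) + 1).card : ℤ)

/-- the nodes of the dimensions of a chain -/
def typ (m : ℕ) (D : α → ℕ) (c : Finset α) : Finset (Fin m) := univ.filter fun k => (k : ℕ) + 1 ∈ c.image D

theorem injOn_dim {D : α → ℕ} (hD : ∀ x y, x < y → D x < D y) {c : Finset α} (hc : ∀ x ∈ c, ∀ y ∈ c, x ≤ y ∨ y ≤ x) :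
    Set.InjOn D (c : Set α) := by
  intro x hx y hy e
  rcases hc x hx y hy with h | h
  · rcases h.eq_or_lt with h | h
    · exact h
    · exact absurd e (hD x y h).ne
  · rcases h.eq_or_lt with h | h
    · exact h.symm
    · exact absurd e (hD y x h).ne'

theorem image_typ {D : α → ℕ} {c : Finset α} (h1 : ∀ x ∈ c, 1 ≤ D x) (h2 : ∀ x ∈ c, D x ≤ m) :
    (typ m D c).image (fun k : Fin m => (k : ℕ) + 1) = c.image D := by
  ext n
  rw [mem_image, mem_image]
  constructor
  · rintro ⟨k, hk, rfl⟩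
    obtain ⟨x, hx, e⟩ := mem_image.1 (mem_filter.1 hk).2
    exact ⟨x, hx, e⟩
  · rintro ⟨x, hx, rfl⟩
    have h3 := h1 x hx
    have h4 := h2 x hx
    refine ⟨⟨D x - 1, by omega⟩, ?_, ?_⟩
    · refine mem_filter.2 ⟨mem_univ _, ?_⟩
      have e : D x - 1 + 1 = D x := by omega
      change D x - 1 + 1 ∈ c.image D
      rw [e]
      exact mem_image_of_mem D hx
    · change D x - 1 + 1 = D x
      omega

theorem inj_succ : Function.Injective (fun k : Fin m => (k : ℕ) + 1) := fun _ _ e => Fin.ext (Nat.succ_injective e)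

theorem typ_of_image {D : α → ℕ} {c : Finset α} {U : Finset (Fin m)} (h : c.image D = U.image fun k : Fin m => (k : ℕ) + 1) :
    typ m D c = U := by
  ext k
  unfold typ
  rw [mem_filter, h]
  constructor
  · rintro ⟨-, hk⟩
    obtain ⟨l, hl, e⟩ := mem_image.1 hk
    rwa [← inj_succ e]
  · exact fun hk => ⟨mem_univ _, mem_image_of_mem _ hk⟩

theorem card_typ {D : α → ℕ} (hD : ∀ x y, x < y → D x < D y) {c : Finset α} (hc : ∀ x ∈ c, ∀ y ∈ c, x ≤ y ∨ y ≤ x)
    (h1 : ∀ x ∈ c, 1 ≤ D x) (h2 : ∀ x ∈ c, D x ≤ m) : (typ m D c).card = c.card := by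
  rw [← card_image_of_injective _ (inj_succ (m := m)), image_typ h1 h2, card_image_of_injOn (injOn_dim hD hc)]

/-- the sum over the types is the alternating number of chains -/
theorem sum_types {D : α → ℕ} (hD : ∀ x y, x < y → D x < D y) (hm : ∀ x, D x ≤ m) {a : ℕ} (S : Finset (Fin m))
    (hS : ∀ k, k ∈ S ↔ a ≤ (k : ℕ)) :
    ∑ U ∈ S.powerset, (-1) ^ U.card * nch D U = Ech (univ.filter fun x : α => a + 1 ≤ D x) := by
  have hmem : ∀ c ∈ chs (univ.filter fun x : α => a + 1 ≤ D x), ∀ x ∈ c, a + 1 ≤ D x :=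
    fun c hc x hx => (mem_filter.1 ((mem_chs.1 hc).1 hx)).2
  have h1 : ∀ c ∈ chs (univ.filter fun x : α => a + 1 ≤ D x), typ m D c ∈ S.powerset := by
    intro c hc
    rw [mem_powerset]
    intro k hk
    rw [hS]
    obtain ⟨x, hx, e⟩ := mem_image.1 (mem_filter.1 hk).2
    have := hmem c hc x hx
    omega
  unfold Ech
  rw [← sum_fiberwise_of_maps_to h1]
  refine sum_congr rfl fun U hU => ?_
  unfold nch
  have h2 : (chs (univ : Finset α)).filter (fun c => c.image D = U.image fun k : Fin m => (k : ℕ) + 1) =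
      (chs (univ.filter fun x : α => a + 1 ≤ D x)).filter fun c => typ m D c = U := by
    ext c
    rw [mem_filter, mem_filter, mem_chs, mem_chs]
    constructor
    · rintro ⟨⟨-, hc⟩, e⟩
      refine ⟨⟨fun x hx => ?_, hc⟩, typ_of_image e⟩
      rw [mem_filter]
      refine ⟨mem_univ _, ?_⟩
      have h3 : D x ∈ U.image fun k : Fin m => (k : ℕ) + 1 := by
        rw [← e]
        exact mem_image_of_mem D hx
      obtain ⟨k, hk, e2⟩ := mem_image.1 h3
      have h4 := (hS k).1 (mem_powerset.1 hU hk)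
      omega
    · rintro ⟨⟨h3, hc⟩, e⟩
      refine ⟨⟨subset_univ _, hc⟩, ?_⟩
      have h4 : ∀ x ∈ c, a + 1 ≤ D x := fun x hx => (mem_filter.1 (h3 hx)).2
      rw [← e, image_typ (fun x hx => by have := h4 x hx; omega) fun x _ => hm x]
  rw [h2]
  have h3 : ∀ c ∈ (chs (univ.filter fun x : α => a + 1 ≤ D x)).filter (fun c => typ m D c = U), (-1 : ℤ) ^ c.card = (-1) ^ U.card := by
    intro c hc
    have hc1 := (mem_filter.1 hc).1
    rw [← (mem_filter.1 hc).2, card_typ hD (mem_chs.1 hc1).2 (fun x hx => by have := hmem c hc1 x hx; omega) fun x _ => hm x]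
  rw [sum_congr rfl h3, sum_const, nsmul_eq_mul, mul_comm]

theorem card_ge {a : ℕ} (_ha : a ≤ m) (S : Finset (Fin m)) (hS : ∀ k, k ∈ S ↔ a ≤ (k : ℕ)) : S.card = m - a := by
  have h1 : S.image (fun k : Fin m => (k : ℕ)) = Finset.Ico a m := by
    ext n
    rw [mem_image, mem_Ico]
    constructor
    · rintro ⟨k, hk, rfl⟩
      exact ⟨(hS k).1 hk, k.2⟩
    · rintro ⟨h2, h3⟩
      exact ⟨⟨n, h3⟩, (hS _).2 h2, rfl⟩
  rw [← card_image_of_injective S (f := fun k : Fin m => (k : ℕ)) Fin.val_injective, h1, Nat.card_Ico]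

/-- the form of `FV_beta` -/
theorem alt_sum_gen {D : α → ℕ} (hD : ∀ x y, x < y → D x < D y) (hm : ∀ x, D x ≤ m) {a : ℕ} (ha : a ≤ m) (S : Finset (Fin m))
    (hS : ∀ k, k ∈ S ↔ a ≤ (k : ℕ)) (N : Finset (Fin m) → ℤ) (hN : ∀ U ⊆ S, N U = nch D U) :
    ∑ L ∈ S.powerset, (-1) ^ L.card * N (S \ L) = (-1) ^ (m - a) * Ech (univ.filter fun x : α => a + 1 ≤ D x) := by
  rw [← sum_types hD hm S hS, mul_sum]
  refine sum_bij' (fun L _ => S \ L) (fun U _ => S \ U) ?_ ?_ ?_ ?_ ?_
  · exact fun L _ => mem_powerset.2 sdiff_subset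
  · exact fun L _ => mem_powerset.2 sdiff_subset
  · intro L hL
    exact Finset.sdiff_sdiff_eq_self (mem_powerset.1 hL)
  · intro L hL
    exact Finset.sdiff_sdiff_eq_self (mem_powerset.1 hL)
  · intro L hL
    have hL' := mem_powerset.1 hL
    rw [hN _ sdiff_subset, ← mul_assoc]
    congr 1
    have h1 := card_sdiff_add_card_eq_card hL'
    rw [card_ge ha S hS] at h1
    rw [← h1, pow_add, mul_assoc, mul_comm ((-1 : ℤ) ^ (S \ L).card), mul_assoc, ← mul_pow]
    simp

end general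

section signed

variable {ι : Type*} [Fintype ι] [DecidableEq ι] {m v : ℕ}

theorem dm_le (d : ι → ℕ) (hm : v + ∑ i, d i = m) (x : Q v ι) : dm d x ≤ m := by
  unfold dm wt
  have h1 : ∑ i, (if x.2 i = none then 0 else d i) ≤ ∑ i, d i := sum_le_sum fun i _ => by split_ifs <;> omega
  have h2 := x.1.2
  omega

/-- **(L-c)** -/
theorem alt_sum (d : ι → ℕ) (hd : ∀ i, 0 < d i) (hm : v + ∑ i, d i = m) {a : ℕ} (ha : a ≤ m) (S : Finset (Fin m))
    (hS : ∀ k, k ∈ S ↔ a ≤ (k : ℕ)) (N : Finset (Fin m) → ℤ) (hN : ∀ U ⊆ S, N U = nch (dm (v := v) d) U) :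
    ∑ L ∈ S.powerset, (-1) ^ L.card * N (S \ L) =
      (-1) ^ (m - a) * ∑ σ ∈ univ.filter (fun σ : Sg ι => v + wt d σ < a + 1), sgn σ := by
  rw [alt_sum_gen (fun x y h => dm_strictMono hd h) (dm_le d hm) ha S hS N hN, Ech_ge]

end signed

end Cfsg.Agent.H636.LIN
end
end

-- part: H236/XZ/Cells
section
prune_inst 0x41010254454e2020000180580510022203c0004b000200000d9400e400b0efb2220412921440019021a5ea60108010020025c00e0400000000a00000000050421882a52029308a10c240019803087580c00000000000000000000000000041004200000000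
set_option linter.all false
open scoped Cfsg.Agent.FastGrp

-- part: H236/XZ/SgnFlag
section
/-!
# Signed permutations and flags of signed index sets (helper236, for S4791 / S4927, box (L-b))

`W` the Coxeter group of type `B_n`, acting on the signed indices `Fin n × Bool`.

* `sp cs : W →* Equiv.Perm (Fin n × Bool)`; `w⁻¹ (i, true) = (ta w i, de w i)`;
* `yv cs w t i` : the sign of `i` in the image under `w` of the standard set `{(j, true) : j ≤ t}` (`none`: not in the image);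
* `mem_iff` : `v` lies in the standard parabolic subgroup of the nodes outside `T` iff it fixes the standard sets for `t ∈ T`;
* `yv_eq_iff`, `coef_eq_zero_iff`, `exists_of_perm`.
-/

set_option autoImplicit false
set_option linter.unusedSectionVars false

namespace Cfsg.Agent.H236.XZ

open Cfsg Cfsg.Agent.ChevalleyStructure.CoxeterGeom Cfsg.Agent.Tits.Roots Cfsg.Agent.Nodes.TypeC Cfsg.Agent.H215.WB
open CoxeterSystem

variable {n : ℕ} {W : Type*} [Group W] (cs : CoxeterSystem (CoxeterMatrix.B n) W)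

/-- the action on the signed indices -/
noncomputable def sp : W →* Equiv.Perm (Fin n × Bool) := cc.comp (homB cs)

theorem sp_simple (i : Fin n) (x : Fin n × Bool) : sp cs (cs.simple i) x = sg i x := by
  change cc (homB cs (cs.simple i)) x = _
  rw [homB_simple, cc_gen]
  rfl

theorem sp_apply (w : W) (x : Fin n × Bool) :
    sp cs w x = ((homB cs w).right x.1, bx ((homB cs w).left ((homB cs w).right x.1)) x.2) := rfl

theorem sp_cancel (w : W) (x : Fin n × Bool) : sp cs w (sp cs w⁻¹ x) = x := by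
  rw [← Equiv.Perm.mul_apply, ← map_mul, mul_inv_cancel, map_one, Equiv.Perm.one_apply]

theorem sp_cancel' (w : W) (x : Fin n × Bool) : sp cs w⁻¹ (sp cs w x) = x := by
  rw [← Equiv.Perm.mul_apply, ← map_mul, inv_mul_cancel, map_one, Equiv.Perm.one_apply]

theorem bx_not (z : ℤˣ) (b : Bool) : bx z (!b) = !(bx z b) := by
  rcases Int.units_eq_one_or z with rfl | rfl <;> simp [bx_one, bx_neg]

theorem sp_ng (w : W) (x : Fin n × Bool) : sp cs w (ng x) = ng (sp cs w x) := by
  rw [sp_apply, sp_apply]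
  exact Prod.ext rfl (bx_not _ _)

/-- the index of `w⁻¹ (i, true)` -/
noncomputable def ta (w : W) (i : Fin n) : Fin n := (sp cs w⁻¹ (i, true)).1

/-- the sign of `w⁻¹ (i, true)` -/
noncomputable def de (w : W) (i : Fin n) : Bool := (sp cs w⁻¹ (i, true)).2

theorem sp_inv_true (w : W) (i : Fin n) : sp cs w⁻¹ (i, true) = (ta cs w i, de cs w i) := rfl

theorem sp_inv_false (w : W) (i : Fin n) : sp cs w⁻¹ (i, false) = (ta cs w i, !de cs w i) := by
  have h := sp_ng cs w⁻¹ (i, true)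
  rw [sp_inv_true] at h
  exact h

theorem ta_eq (w : W) : ta cs w = (homB cs w⁻¹).right := rfl

theorem ta_bijective (w : W) : Function.Bijective (ta cs w) := by
  rw [ta_eq]
  exact (homB cs w⁻¹).right.bijective

theorem ta_one (i : Fin n) : ta cs 1 i = i := by
  unfold ta
  rw [inv_one, map_one, Equiv.Perm.one_apply]

theorem de_one (i : Fin n) : de cs 1 i = true := by
  unfold de
  rw [inv_one, map_one, Equiv.Perm.one_apply]

/-- the action of a sign on signs -/
def sb (b : Bool) (y : Option Bool) : Option Bool := y.map fun c => if b then c else !c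

theorem sb_none (b : Bool) : sb b none = none := rfl

theorem sb_injective (b : Bool) : Function.Injective (sb b) := by
  intro y z h
  rcases y with _ | y <;> rcases z with _ | z <;> cases b <;> simp_all [sb]

theorem sb_eq_none {b : Bool} {y : Option Bool} : sb b y = none ↔ y = none := by
  rcases y with _ | y <;> simp [sb]

theorem sb_true (y : Option Bool) : sb true y = y := by
  rcases y with _ | y <;> simp [sb]

/-- the sign of `i` in the image under `w` of the standard set `{(j, true) : j ≤ t}` -/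
noncomputable def yv (w : W) (t i : Fin n) : Option Bool := if ta cs w i ≤ t then some (de cs w i) else none

theorem yv_eq_none {w : W} {t i : Fin n} : yv cs w t i = none ↔ ¬ ta cs w i ≤ t := by
  unfold yv
  split_ifs with h <;> simp [h]

theorem yv_one (t i : Fin n) : yv cs 1 t i = if i ≤ t then some true else none := by
  unfold yv
  rw [ta_one, de_one]

theorem ta_mul (u w : W) (i : Fin n) : ta cs (u * w) i = ta cs w (ta cs u i) := by
  rw [ta, mul_inv_rev, map_mul, Equiv.Perm.mul_apply, sp_inv_true]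
  cases h : de cs u i
  · rw [sp_inv_false]
  · rw [sp_inv_true]

theorem de_mul (u w : W) (i : Fin n) :
    de cs (u * w) i = if de cs u i then de cs w (ta cs u i) else !de cs w (ta cs u i) := by
  rw [de, mul_inv_rev, map_mul, Equiv.Perm.mul_apply, sp_inv_true]
  cases h : de cs u i
  · rw [sp_inv_false]
    simp
  · rw [sp_inv_true]
    simp

theorem yv_mul (u w : W) (t i : Fin n) : yv cs (u * w) t i = sb (de cs u i) (yv cs w t (ta cs u i)) := by
  unfold yv
  rw [ta_mul, de_mul]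
  by_cases h : ta cs w (ta cs u i) ≤ t
  · rw [if_pos h, if_pos h]
    rfl
  · rw [if_neg h, if_neg h]
    rfl

/-- nestedness -/
theorem yv_mono (w : W) {s t : Fin n} (hst : s ≤ t) (i : Fin n) : yv cs w s i = none ∨ yv cs w s i = yv cs w t i := by
  unfold yv
  by_cases h : ta cs w i ≤ s
  · right
    rw [if_pos h, if_pos (h.trans hst)]
  · left
    rw [if_neg h]

/-- the number of signed indices -/
theorem card_yv (w : W) (t : Fin n) : Nat.card {i : Fin n // yv cs w t i ≠ none} = t + 1 := by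
  have e : {i : Fin n // yv cs w t i ≠ none} ≃ {i : Fin n // i ≤ t} :=
    (Equiv.ofBijective _ (ta_bijective cs w)).subtypeEquiv fun i => by
      rw [Ne, yv_eq_none, not_not]
      rfl
  rw [Nat.card_congr e, Nat.card_eq_fintype_card, Fintype.card_subtype]
  have h2 : (Finset.univ.filter fun i : Fin n => i ≤ t) = Finset.Iic t := by
    ext i
    simp only [_root_.Finset.mem_filter, _root_.Finset.mem_univ, _root_.true_and, _root_.Finset.mem_Iic]
  rw [h2, Fin.card_Iic]

/-! ### surjectivity -/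

/-- every pair (permutation, signs) is realised -/
theorem exists_of_perm (τ : Equiv.Perm (Fin n)) (δ : Fin n → Bool) : ∃ w : W, ta cs w = τ ∧ de cs w = δ := by
  let g : Wb (Fin n) := ⟨fun j => if δ (τ.symm j) then 1 else -1, τ⟩
  obtain ⟨v, hv⟩ := homB_surjective cs g
  refine ⟨v⁻¹, ?_, ?_⟩
  · rw [ta_eq, inv_inv, hv]
  · funext i
    unfold de
    rw [inv_inv, sp_apply, hv]
    change bx (if δ (τ.symm (τ i)) then 1 else -1) true = δ i
    rw [Equiv.symm_apply_apply]
    cases δ i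
    · rw [if_neg (by decide), bx_neg]
      rfl
    · rw [if_pos rfl, bx_one]

/-! ### the sign of a root -/

theorem sum_ee (x : Fin n → ℤ) (m : Fin n) : ∑ k ∈ Finset.Iic m, ee x k = (if (m : ℕ) + 1 < n then 1 else 2) * x m := by
  have h1 : ∀ k, ee x k = ∑ j, x j * bt j k := by
    intro k
    simp only [ee, Finset.sum_apply, _root_.Cfsg.Agent.Nodes.TypeC.ee, _root_.zsmul_eq_mul, _root_.Finset.sum_apply, _root_.Pi.mul_apply, _root_.Pi.intCast_apply, _root_.Int.cast_eq]
  simp only [h1]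
  rw [Finset.sum_comm]
  simp only [← Finset.mul_sum, sum_bt]
  rw [Finset.sum_eq_single m]
  · simp only [if_true]
    split_ifs <;> ring
  · intro j _ hj
    simp [Ne.symm hj]
  · simp only [_root_.Finset.mem_univ, _root_.not_true_eq_false, ↓ _root_.reduceIte, _root_.mul_ite, _root_.mul_one, _root_.IsEmpty.forall_iff]

theorem sum_wt (a : Fin n × Bool) (m : Fin n) :
    ∑ k ∈ Finset.Iic m, wt a k = if a.1 ≤ m then (if a.2 then 1 else -1) else 0 := by
  simp only [wt, Finset.sum_pi_single', Finset.mem_Iic]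

/-- the value of the partial sum of a sign -/
def sz' (y : Option Bool) : ℤ := match y with
  | none => 0
  | some true => 1
  | some false => -1

theorem sz'_injective : Function.Injective sz' := by
  intro y z h
  rcases y with _ | (_ | _) <;> rcases z with _ | (_ | _) <;> simp_all [sz']

theorem sum_wt_inv (w : W) (i t : Fin n) : ∑ k ∈ Finset.Iic t, wt (sp cs w⁻¹ (i, true)) k = sz' (yv cs w t i) := by
  rw [sum_wt, sp_inv_true]
  change (if ta cs w i ≤ t then (if de cs w i then (1 : ℤ) else -1) else 0) = _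
  unfold yv
  by_cases h : ta cs w i ≤ t
  · rw [if_pos h, if_pos h]
    cases de cs w i <;> rfl
  · rw [if_neg h, if_neg h]
    rfl

/-- **The coefficient of `α_t` in `w⁻¹ α_j` vanishes iff `j` and `j + 1` have the same sign in the `t`-th set.** -/
theorem coef_eq_zero_iff (w : W) {j : Fin n} (hj : (j : ℕ) + 1 < n) (t : Fin n) :
    rep cs (isCartan n) w⁻¹ (sr j) t = 0 ↔ yv cs w t j = yv cs w t ⟨j + 1, hj⟩ := by
  have h1 := ee_act cs w⁻¹ (sr j) (j, true) (nx j) (ee_sr j)
  have h2 : nx j = (⟨j + 1, hj⟩, false) := by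
    unfold nx
    rw [dif_pos hj]
  have h3 : ee (rep cs (isCartan n) w⁻¹ (sr j)) = wt (sp cs w⁻¹ (j, true)) + - wt (sp cs w⁻¹ (⟨j + 1, hj⟩, true)) := by
    rw [h1, h2, ← wt_ng, ← sp_ng]
    rfl
  have h4 := sum_ee (rep cs (isCartan n) w⁻¹ (sr j)) t
  rw [h3] at h4
  simp only [Pi.add_apply, Pi.neg_apply, Finset.sum_add_distrib, Finset.sum_neg_distrib, sum_wt_inv] at h4
  rw [← sz'_injective.eq_iff]
  split_ifs at h4
  · constructor
    · intro h; rw [h] at h4; linarith only [h4]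
    · intro h; rw [h] at h4; linarith only [h4]
  · constructor
    · intro h; rw [h] at h4; linarith only [h4]
    · intro h; rw [h] at h4; linarith only [h4]

/-! ### the standard parabolic subgroups -/

theorem yv_simple {k t : Fin n} (hkt : k ≠ t) (i : Fin n) : yv cs (cs.simple k) t i = yv cs 1 t i := by
  have h1 : sp cs (cs.simple k)⁻¹ (i, true) = sg k (i, true) := by
    rw [cs.inv_simple, sp_simple]
  have h2 : ta cs (cs.simple k) i = (sg k (i, true)).1 := congrArg Prod.fst h1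
  have h3 : de cs (cs.simple k) i = (sg k (i, true)).2 := congrArg Prod.snd h1
  have hkt' : (k : ℕ) ≠ t := fun e => hkt (Fin.ext e)
  rw [yv, yv_one, h2, h3]
  unfold sg
  by_cases hk : (k : ℕ) + 1 < n
  · rw [dif_pos hk]
    by_cases h4 : i = k
    · subst h4
      simp only [if_true]
      have : ((⟨i + 1, hk⟩ : Fin n) ≤ t) ↔ i ≤ t := by
        rw [Fin.le_def, Fin.le_def]
        change (i : ℕ) + 1 ≤ t ↔ _
        omega
      simp only [this]
    · by_cases h5 : i = ⟨k + 1, hk⟩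
      · subst h5
        simp only [h4, if_false, if_true]
        have : (k ≤ t) ↔ (⟨k + 1, hk⟩ : Fin n) ≤ t := by
          rw [Fin.le_def, Fin.le_def]
          change _ ↔ (k : ℕ) + 1 ≤ t
          omega
        simp only [this]
      · simp only [h4, h5, if_false]
  · rw [dif_neg hk]
    by_cases h4 : i = k
    · subst h4
      simp only [if_true]
      have : ¬ i ≤ t := by
        rw [Fin.le_def]
        have := t.2
        have := i.2
        omega
      simp only [this, if_false]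
    · simp only [h4, if_false]

/-- the stabiliser of the standard sets for the nodes of `T` -/
noncomputable def stb (T : Set (Fin n)) : Subgroup W where
  carrier := {v | ∀ t ∈ T, ∀ i, yv cs v t i = yv cs 1 t i}
  one_mem' _ _ _ := rfl
  mul_mem' := by
    intro u v hu hv t ht i
    rw [yv_mul, hv t ht, ← yv_mul, mul_one, hu t ht]
  inv_mem' := by
    intro v hv t ht i
    have h1 := yv_mul cs v⁻¹ v t i
    rw [inv_mul_cancel, hv t ht, ← yv_mul, mul_one] at h1
    exact h1.symm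

theorem mem_stb {T : Set (Fin n)} {v : W} : v ∈ stb cs T ↔ ∀ t ∈ T, ∀ i, yv cs v t i = yv cs 1 t i := Iff.rfl

theorem closure_le_stb (T : Set (Fin n)) : Subgroup.closure (cs.simple '' Tᶜ) ≤ stb cs T := by
  rw [Subgroup.closure_le]
  rintro _ ⟨k, hk, rfl⟩ t ht i
  exact yv_simple cs (fun e => hk (by rw [e]; exact ht)) i

theorem nonneg_of_fix {v : W} {k : Fin n} (h : ∀ i, yv cs v k i = yv cs 1 k i) : 0 ≤ rep cs (isCartan n) v (sr k) := by
  -- `v⁻¹ (i, true) = (ta v i, true)` for `i ≤ k`, `ta v` maps `{i ≤ k}` onto itself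
  have h1 : ∀ i, ta cs v i ≤ k ↔ i ≤ k := by
    intro i
    have h2 := h i
    rw [yv_one] at h2
    rw [← not_iff_not, ← yv_eq_none, h2]
    split_ifs with h3 <;> simp [h3]
  have h2 : ∀ i, i ≤ k → de cs v i = true := by
    intro i hi
    have h2 := h i
    rw [yv_one, if_pos hi, yv, if_pos ((h1 i).2 hi)] at h2
    exact Option.some.inj h2
  obtain ⟨i, hi⟩ := (ta_bijective cs v).2 k
  have hik : i ≤ k := (h1 i).1 (le_of_eq hi)
  have h3 : sp cs v (k, true) = (i, true) := by
    have h4 : sp cs v⁻¹ (i, true) = (k, true) := by rw [sp_inv_true, hi, h2 i hik]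
    rw [← h4, sp_cancel]
  have h4 := ee_act cs v (sr k) (k, true) (nx k) (ee_sr k)
  change ee (rep cs (isCartan n) v (sr k)) = wt (sp cs v (k, true)) + wt (sp cs v (nx k)) at h4
  rw [h3] at h4
  intro m
  have h5 := sum_ee (rep cs (isCartan n) v (sr k)) m
  rw [h4] at h5
  simp only [Pi.add_apply, Finset.sum_add_distrib, sum_wt] at h5
  have h6 : (0 : ℤ) ≤ (if i ≤ m then (if (true : Bool) then 1 else -1) else 0) +
      (if (sp cs v (nx k)).1 ≤ m then (if (sp cs v (nx k)).2 then 1 else -1) else 0) := by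
    by_cases hk : (k : ℕ) + 1 < n
    · have h7 : i < (sp cs v (nx k)).1 := by
        set j : Fin n := (sp cs v (nx k)).1 with hj
        have h8 : nx k = (⟨k + 1, hk⟩, false) := by
          unfold nx
          rw [dif_pos hk]
        have h9 : ta cs v j = ⟨k + 1, hk⟩ := by
          have h10 : sp cs v⁻¹ (sp cs v (nx k)) = nx k := sp_cancel' cs v _
          have h11 : (sp cs v⁻¹ (sp cs v (nx k))).1 = ta cs v j := by
            rw [hj]
            obtain ⟨a, b⟩ := sp cs v (nx k)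
            cases b
            · rw [sp_inv_false]
            · rw [sp_inv_true]
          rw [← h11, h10, h8]
        refine lt_of_le_of_lt hik (not_le.1 fun h12 => ?_)
        have h13 := (h1 j).2 h12
        rw [h9, Fin.le_def] at h13
        change (k : ℕ) + 1 ≤ k at h13
        omega
      by_cases h8 : i ≤ m
      · rw [if_pos h8, if_pos rfl]
        split_ifs <;> norm_num
      · rw [if_neg h8, if_neg (fun h9 => h8 (h7.le.trans h9)), add_zero]
    · have h8 : nx k = (k, true) := by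
        unfold nx
        rw [dif_neg hk]
      rw [h8, h3]
      change (0 : ℤ) ≤ (if i ≤ m then 1 else 0) + (if i ≤ m then 1 else 0)
      split_ifs <;> norm_num
  simp only [if_true] at h5 h6
  rw [h5] at h6
  change (0 : ℤ) ≤ _
  split_ifs at h6 <;> linarith only [h6]

/-- **The standard parabolic subgroups are the stabilisers of the standard flags.** -/
theorem stb_eq (T : Set (Fin n)) : stb cs T = Subgroup.closure (cs.simple '' Tᶜ) := by
  refine le_antisymm ?_ (closure_le_stb cs T)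
  intro v
  induction hl : cs.length v using Nat.strong_induction_on generalizing v with
  | _ l ih =>
    intro hv
    by_cases h1 : v = 1
    · rw [h1]
      exact one_mem _
    · obtain ⟨k, hk⟩ := cs.exists_rightDescent_of_ne_one h1
      have hk' : cs.length (v * cs.simple k) < cs.length v := hk
      by_cases hkT : k ∈ T
      · exfalso
        have h2 := nonneg_of_fix cs (hv k hkT)
        have h3 : rep cs (isCartan n) v (sr k) ≤ 0 := nonpos_of_lt cs (isCartan n) v k hk'
        exact rep_single_ne_zero cs (isCartan n) v k (le_antisymm h3 h2)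
      · have h2 : cs.simple k ∈ Subgroup.closure (cs.simple '' Tᶜ) := Subgroup.subset_closure ⟨k, hkT, rfl⟩
        have h3 : v * cs.simple k ∈ stb cs T := mul_mem hv (closure_le_stb cs T h2)
        have h4 := ih _ (hl ▸ hk') rfl h3
        have h5 := mul_mem h4 h2
        rwa [cs.simple_mul_simple_cancel_right] at h5

/-- **Cosets of standard parabolic subgroups and flags.** -/
theorem yv_eq_iff {T : Set (Fin n)} {w w' : W} :
    (∀ t ∈ T, ∀ i, yv cs w t i = yv cs w' t i) ↔ w⁻¹ * w' ∈ Subgroup.closure (cs.simple '' Tᶜ) := by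
  rw [← stb_eq, mem_stb]
  refine forall₂_congr fun t _ => ?_
  have h1 : ∀ i, yv cs w' t i = sb (de cs w i) (yv cs (w⁻¹ * w') t (ta cs w i)) := by
    intro i
    rw [← yv_mul, mul_inv_cancel_left]
  have h2 : ∀ i, yv cs w t i = sb (de cs w i) (yv cs 1 t (ta cs w i)) := by
    intro i
    rw [← yv_mul, mul_one]
  constructor
  · intro h j
    obtain ⟨i, rfl⟩ := (ta_bijective cs w).2 j
    have h3 := h i
    rw [h1, h2] at h3
    exact (sb_injective _ h3).symm
  · intro h i
    rw [h1, h2, h]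

end Cfsg.Agent.H236.XZ
end

-- part: H236/XZ/Cells
section
/-!
# The cells of `W(B_n)` and chains of signed subsets (helper236, for S4791 / S4927, box (L-b))

`bl : Fin n → Option ι` : blocks of indices (intervals, the indices outside the blocks at the end); `J₁' = JP bl` the nodes
inside the blocks, `J₁ = JJ bl` these nodes and those of the tail. `Good cs bl T w` : `w⁻¹ Φ_{J₁'}` is supported outside `T`.

* `exists_equiv_flag` : bijections between flags of sets with the same cardinalities;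
* `exists_code` : the code of a good `w` is a chain of type `T`; every chain is a code; two codes agree iff the elements lie
  in the same double coset of `W_{J₁}`, `W_{Tᶜ}`;
* `card_of_kernel` : the number of classes of good elements is `nch (dm d) T`.
-/

set_option autoImplicit false
set_option linter.unusedSectionVars false

namespace Cfsg.Agent.H236.XZ

open Cfsg Cfsg.Agent.ChevalleyStructure.CoxeterGeom Cfsg.Agent.Tits.Roots Cfsg.Agent.Nodes.TypeC Cfsg.Agent.H215.WB
open CoxeterSystem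
open Cfsg.Agent.H636.LIN (Sg Q dm nch chs mem_chs)

universe u₁ u₂

/-! ### flags of sets -/

theorem exists_equiv_flag {κ : Type*} [LinearOrder κ] (T : Finset κ) :
    ∀ (α : Type u₁) (β : Type u₂) [Finite α] [Finite β] (_ : Nat.card α = Nat.card β) (A : κ → Set α) (B : κ → Set β)
      (_ : ∀ s ∈ T, ∀ t ∈ T, s ≤ t → A s ⊆ A t) (_ : ∀ s ∈ T, ∀ t ∈ T, s ≤ t → B s ⊆ B t)
      (_ : ∀ t ∈ T, Nat.card (A t) = Nat.card (B t)), ∃ e : α ≃ β, ∀ t ∈ T, ∀ i, e i ∈ B t ↔ i ∈ A t := by
  classical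
  induction T using Finset.induction_on_max with
  | empty =>
    intro α β _ _ hc A B _ _ _
    exact ⟨(Finite.card_eq.1 hc).some, fun t ht => absurd ht (Finset.notMem_empty t)⟩
  | insert m T hm ih =>
    intro α β _ _ hc A B hA hB hcard
    have hmT := Finset.mem_insert_self m T
    have hsub : ∀ t ∈ T, t ∈ insert m T := fun t ht => Finset.mem_insert_of_mem ht
    have hAm : ∀ t ∈ T, A t ⊆ A m := fun t ht => hA t (hsub t ht) m hmT (hm t ht).le
    have hBm : ∀ t ∈ T, B t ⊆ B m := fun t ht => hB t (hsub t ht) m hmT (hm t ht).le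
    have hcA : ∀ t ∈ T, Nat.card ({x | x.1 ∈ A t} : Set (A m)) = Nat.card (A t) := fun t ht =>
      Nat.card_congr ⟨fun x => ⟨x.1.1, x.2⟩, fun x => ⟨⟨x.1, hAm t ht x.2⟩, x.2⟩, fun _ => rfl, fun _ => rfl⟩
    have hcB : ∀ t ∈ T, Nat.card ({x | x.1 ∈ B t} : Set (B m)) = Nat.card (B t) := fun t ht =>
      Nat.card_congr ⟨fun x => ⟨x.1.1, x.2⟩, fun x => ⟨⟨x.1, hBm t ht x.2⟩, x.2⟩, fun _ => rfl, fun _ => rfl⟩
    obtain ⟨e₁, he₁⟩ := ih (A m) (B m) (hcard m hmT) (fun s => {x | x.1 ∈ A s}) (fun s => {x | x.1 ∈ B s})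
      (fun s hs t ht hst x hx => hA s (hsub s hs) t (hsub t ht) hst hx)
      (fun s hs t ht hst x hx => hB s (hsub s hs) t (hsub t ht) hst hx)
      (fun t ht => by rw [hcA t ht, hcB t ht]; exact hcard t (hsub t ht))
    have hc2 : Nat.card ((A m)ᶜ : Set α) = Nat.card ((B m)ᶜ : Set β) := by
      have h1 := Nat.card_congr (Equiv.Set.sumCompl (A m))
      have h2 := Nat.card_congr (Equiv.Set.sumCompl (B m))
      rw [Nat.card_sum] at h1 h2
      have h3 := hcard m hmT
      omega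
    let e₂ : ↥(A m)ᶜ ≃ ↥(B m)ᶜ := (Finite.card_eq.1 hc2).some
    let e : α ≃ β := (Equiv.Set.sumCompl (A m)).symm.trans ((Equiv.sumCongr e₁ e₂).trans (Equiv.Set.sumCompl (B m)))
    have h1 : ∀ i (hi : i ∈ A m), e i = (e₁ ⟨i, hi⟩ : β) := by
      intro i hi
      change (Equiv.Set.sumCompl (B m)) ((Equiv.sumCongr e₁ e₂) ((Equiv.Set.sumCompl (A m)).symm i)) = _
      rw [Equiv.Set.sumCompl_symm_apply_of_mem hi]
      rfl
    have h2 : ∀ i (hi : i ∉ A m), e i = (e₂ ⟨i, hi⟩ : β) := by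
      intro i hi
      change (Equiv.Set.sumCompl (B m)) ((Equiv.sumCongr e₁ e₂) ((Equiv.Set.sumCompl (A m)).symm i)) = _
      rw [Equiv.Set.sumCompl_symm_apply_of_notMem hi]
      rfl
    refine ⟨e, fun t ht i => ?_⟩
    by_cases hi : i ∈ A m
    · rw [h1 i hi]
      rcases Finset.mem_insert.1 ht with rfl | ht'
      · exact iff_of_true (e₁ ⟨i, hi⟩).2 hi
      · exact he₁ t ht' ⟨i, hi⟩
    · rw [h2 i hi]
      have h3 : (e₂ ⟨i, hi⟩ : β) ∉ B m := (e₂ ⟨i, hi⟩).2
      rcases Finset.mem_insert.1 ht with rfl | ht'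
      · exact iff_of_false h3 hi
      · exact iff_of_false (fun h4 => h3 (hBm t ht' h4)) fun h4 => hi (hAm t ht' h4)

/-! ### blocks -/

section blocks

variable {n : ℕ} {ι : Type*} (bl : Fin n → Option ι)

/-- the blocks are intervals, the tail is at the end -/
structure Blk : Prop where
  conv : ∀ i j k : Fin n, i ≤ j → j ≤ k → bl i = bl k → bl j = bl i
  upper : ∀ i j : Fin n, i ≤ j → bl i = none → bl j = none
  surj : ∀ O : ι, ∃ i, bl i = some O

/-- the nodes inside the blocks and the tail -/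
def JJ : Set (Fin n) := {k | bl k = none ∨ ∃ h : (k : ℕ) + 1 < n, bl k = bl ⟨k + 1, h⟩}

/-- the nodes inside the blocks -/
def JP : Set (Fin n) := {k | bl k ≠ none ∧ ∃ h : (k : ℕ) + 1 < n, bl k = bl ⟨k + 1, h⟩}

variable {bl}

/-- constant along the nodes of the blocks: constant on the blocks -/
theorem const_of_step {β : Type*} (hb : Blk bl) {y : Fin n → β}
    (hy : ∀ (k : Fin n) (h : (k : ℕ) + 1 < n), k ∈ JP bl → y k = y ⟨k + 1, h⟩) {i j : Fin n} (hij : bl i = bl j)
    (hi : bl i ≠ none) : y i = y j := by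
  have key : ∀ (d : ℕ) (i j : Fin n), (i : ℕ) + d = j → bl i = bl j → bl i ≠ none → y i = y j := by
    intro d
    induction d with
    | zero =>
      intro i j h _ _
      rw [Fin.ext (by simpa using h : (i : ℕ) = j)]
    | succ d ih =>
      intro i j h hij hi
      have h1 : (i : ℕ) + 1 < n := by have := j.2; omega
      have h2 : bl ⟨i + 1, h1⟩ = bl i :=
        hb.conv i ⟨i + 1, h1⟩ j (by rw [Fin.le_def]; exact Nat.le_succ _)
          (by rw [Fin.le_def]; change (i : ℕ) + 1 ≤ j; omega) hij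
      rw [hy i h1 ⟨hi, h1, h2.symm⟩]
      exact ih ⟨i + 1, h1⟩ j (by change (i : ℕ) + 1 + d = j; omega) (h2.trans hij) (by rw [h2]; exact hi)
  rcases le_total i j with h | h
  · exact key (j - i) i j (by rw [Fin.le_def] at h; omega) hij hi
  · exact (key (i - j) j i (by rw [Fin.le_def] at h; omega) hij.symm (hij ▸ hi)).symm

/-- the last index of a block -/
theorem exists_last {i : Fin n} (hi : bl i ≠ none) : ∃ b : Fin n, i ≤ b ∧ bl b = bl i ∧ b ∉ JJ bl := by
  classical
  let s : Finset (Fin n) := Finset.univ.filter fun k => bl k = bl i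
  have hs : s.Nonempty := ⟨i, Finset.mem_filter.2 ⟨Finset.mem_univ _, rfl⟩⟩
  have h1 := s.max'_mem hs
  have h2 : bl (s.max' hs) = bl i := (Finset.mem_filter.1 h1).2
  refine ⟨s.max' hs, s.le_max' i (Finset.mem_filter.2 ⟨Finset.mem_univ _, rfl⟩), h2, ?_⟩
  rintro (h3 | ⟨h3, h4⟩)
  · exact hi (h2 ▸ h3)
  · have h5 := s.le_max' ⟨s.max' hs + 1, h3⟩ (Finset.mem_filter.2 ⟨Finset.mem_univ _, h4.symm.trans h2⟩)
    rw [Fin.le_def] at h5
    change (s.max' hs : ℕ) + 1 ≤ s.max' hs at h5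
    omega

end blocks

/-! ### good elements -/

section good

variable {n : ℕ} {ι : Type*} {bl : Fin n → Option ι} {W : Type*} [Group W] (cs : CoxeterSystem (CoxeterMatrix.B n) W)

/-- `w⁻¹ Φ_{J₁'}` is supported outside `T` -/
def Good (bl : Fin n → Option ι) (T : Set (Fin n)) (w : W) : Prop :=
  ∀ j ∈ JP bl, ∀ t ∈ T, rep cs (isCartan n) w⁻¹ (sr j) t = 0

theorem good_iff (hb : Blk bl) {T : Set (Fin n)} {w : W} :
    Good cs bl T w ↔ ∀ t ∈ T, ∀ i j, bl i = bl j → bl i ≠ none → yv cs w t i = yv cs w t j := by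
  constructor
  · intro h t ht i j hij hi
    exact const_of_step hb (fun k hk hkJ => (coef_eq_zero_iff cs w hk t).1 (h k hkJ t ht)) hij hi
  · rintro h j ⟨hj, hj1, hj2⟩ t ht
    exact (coef_eq_zero_iff cs w hj1 t).2 (h t ht _ _ hj2 hj)

/-- the elements of `W_{J₁}` preserve the blocks -/
theorem bl_ta (hb : Blk bl) {u : W} (hu : u ∈ Subgroup.closure (cs.simple '' JJ bl)) (i : Fin n) :
    bl (ta cs u i) = bl i ∧ (bl i ≠ none → de cs u i = true) := by
  have hu' : u ∈ stb cs (JJ bl)ᶜ := by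
    rw [stb_eq, compl_compl]
    exact hu
  have h1 : ∀ b : Fin n, b ∉ JJ bl → ∀ i, (ta cs u i ≤ b ↔ i ≤ b) ∧ (i ≤ b → de cs u i = true) := by
    intro b hbJ i
    have h2 := hu' b hbJ i
    rw [yv_one] at h2
    have h3 : ta cs u i ≤ b ↔ i ≤ b := by
      rw [← not_iff_not, ← yv_eq_none, h2]
      split_ifs with h3 <;> simp [h3]
    refine ⟨h3, fun h4 => ?_⟩
    rw [if_pos h4, yv, if_pos (h3.2 h4)] at h2
    exact Option.some.inj h2
  by_cases hi : bl i = none
  · refine ⟨?_, fun h => absurd hi h⟩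
    rw [hi]
    by_contra h2
    obtain ⟨b, hb1, hb2, hb3⟩ := exists_last h2
    have h3 := ((h1 b hb3 i).1).1 hb1
    exact h2 (hb2 ▸ hb.upper i b h3 hi)
  · obtain ⟨b, hb1, hb2, hb3⟩ := exists_last hi
    have h2 := ((h1 b hb3 i).1).2 hb1
    refine ⟨?_, fun _ => (h1 b hb3 i).2 hb1⟩
    by_contra h3
    have h4 : bl (ta cs u i) ≠ none := fun h5 => hi (hb2 ▸ hb.upper _ b h2 h5)
    obtain ⟨b', hb1', hb2', hb3'⟩ := exists_last h4
    have h5 := ((h1 b' hb3' i).1).1 hb1'
    -- `i ≤ b'` : contradiction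
    rcases le_total (ta cs u i) i with h6 | h6
    · exact h3 (hb.conv (ta cs u i) i b' h6 h5 hb2'.symm).symm
    · exact h3 (hb.conv i (ta cs u i) b h6 h2 hb2.symm)

/-! ### codes -/

variable [Fintype ι] [DecidableEq ι]

/-- the signs of the blocks -/
noncomputable def sgc (hb : Blk bl) (w : W) (t : Fin n) : Sg ι := fun O => yv cs w t (hb.surj O).choose

/-- the number of indices of the tail -/
noncomputable def xc (bl : Fin n → Option ι) (w : W) (t : Fin n) : ℕ :=
  Nat.card {i : Fin n // bl i = none ∧ yv cs w t i ≠ none}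

theorem xc_le {v : ℕ} (hv : Nat.card {i : Fin n // bl i = none} = v) (w : W) (t : Fin n) : xc cs bl w t ≤ v := by
  rw [← hv]
  exact Nat.card_le_card_of_injective (fun i : {i : Fin n // bl i = none ∧ yv cs w t i ≠ none} =>
    (⟨i.1, i.2.1⟩ : {i : Fin n // bl i = none})) fun i j h => Subtype.ext (congrArg (fun x => x.1) h)

/-- the code -/
noncomputable def cd (hb : Blk bl) (v : ℕ) (w : W) (t : Fin n) : Q v ι :=
  (⟨min (xc cs bl w t) v, by omega⟩, sgc cs hb w t)

theorem yv_eq_sgc (hb : Blk bl) {T : Set (Fin n)} {w : W} (hw : Good cs bl T w) {t : Fin n} (ht : t ∈ T) {i : Fin n} {O : ι}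
    (hi : bl i = some O) : yv cs w t i = sgc cs hb w t O := by
  have h1 := (hb.surj O).choose_spec
  exact (good_iff cs hb).1 hw t ht _ _ (hi.trans h1.symm) (by rw [hi]; simp)

/-- counting a set of indices by blocks -/
theorem card_split (d : ι → ℕ) (hd : ∀ O, Nat.card {i : Fin n // bl i = some O} = d O) (y : Fin n → Option Bool) (Y : Sg ι)
    (hy : ∀ i O, bl i = some O → y i = Y O) :
    Nat.card {i : Fin n // y i ≠ none} = Nat.card {i : Fin n // bl i = none ∧ y i ≠ none} + H636.LIN.wt d Y := by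
  classical
  have h1 : ∀ p : Fin n → Prop, Nat.card {i : Fin n // p i} = (Finset.univ.filter p).card := fun p => by
    rw [Nat.card_eq_fintype_card, Fintype.card_subtype]
  rw [h1, h1, Finset.card_eq_sum_card_fiberwise (f := bl) (t := Finset.univ) (fun _ _ => Finset.mem_coe.2 (Finset.mem_univ _)),
    Fintype.sum_option]
  congr 1
  · congr 1
    ext i
    simp only [Finset.mem_filter, Finset.mem_univ, true_and]
    exact and_comm
  · unfold H636.LIN.wt
    refine Finset.sum_congr rfl fun O _ => ?_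
    split_ifs with h
    · rw [Finset.card_eq_zero, Finset.eq_empty_iff_forall_notMem]
      intro i hi
      simp only [Finset.mem_filter, Finset.mem_univ, true_and] at hi
      exact hi.1 ((hy i O hi.2).trans h)
    · rw [← hd O, h1]
      congr 1
      ext i
      simp only [Finset.mem_filter, Finset.mem_univ, true_and]
      exact ⟨fun h2 => h2.2, fun h2 => ⟨fun h3 => h ((hy i O h2).symm.trans h3), h2⟩⟩

theorem dm_cd (hb : Blk bl) {v : ℕ} (hv : Nat.card {i : Fin n // bl i = none} = v) {d : ι → ℕ}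
    (hd : ∀ O, Nat.card {i : Fin n // bl i = some O} = d O) {T : Set (Fin n)} {w : W} (hw : Good cs bl T w) {t : Fin n}
    (ht : t ∈ T) : dm d (cd cs hb v w t) = t + 1 := by
  rw [← card_yv cs w t, card_split d hd (yv cs w t) (sgc cs hb w t) fun i O hi => yv_eq_sgc cs hb hw ht hi]
  have h1 : ((cd cs hb v w t).1 : ℕ) = xc cs bl w t := min_eq_left (xc_le cs hv w t)
  unfold dm
  rw [h1]
  rfl

theorem cd_mono (hb : Blk bl) {v : ℕ} (w : W) {s t : Fin n} (hst : s ≤ t) : cd cs hb v w s ≤ cd cs hb v w t := by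
  refine Prod.mk_le_mk.2 ⟨?_, fun O => yv_mono cs w hst _⟩
  rw [Fin.le_def]
  refine min_le_min_right v ?_
  refine Nat.card_le_card_of_injective (fun i : {i : Fin n // bl i = none ∧ yv cs w s i ≠ none} =>
    (⟨i.1, i.2.1, ?_⟩ : {i : Fin n // bl i = none ∧ yv cs w t i ≠ none})) fun i j h => Subtype.ext (congrArg (fun x => x.1) h)
  rcases yv_mono cs w hst i.1 with h | h
  · exact absurd h i.2.2
  · rw [← h]
    exact i.2.2

/-! ### codes and double cosets -/

/-- the double coset relation -/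
def DCo (J K : Set (Fin n)) (w w' : W) : Prop :=
  ∃ u ∈ Subgroup.closure (cs.simple '' J), ∃ v ∈ Subgroup.closure (cs.simple '' K), w' = u * w * v

theorem cd_mul (hb : Blk bl) (v : ℕ) {T : Set (Fin n)} {w : W} (hw : Good cs bl T w) {u x : W}
    (hu : u ∈ Subgroup.closure (cs.simple '' JJ bl)) (hx : x ∈ Subgroup.closure (cs.simple '' Tᶜ)) {t : Fin n} (ht : t ∈ T) :
    cd cs hb v (u * w * x) t = cd cs hb v w t := by
  have h1 : ∀ i, yv cs (u * w * x) t i = sb (de cs u i) (yv cs w t (ta cs u i)) := by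
    intro i
    rw [← yv_mul]
    exact ((yv_eq_iff cs (w := u * w) (w' := u * w * x)).2 (by rwa [inv_mul_cancel_left]) t ht i).symm
  refine Prod.ext (Fin.ext ?_) (funext fun O => ?_)
  · change min (xc cs bl (u * w * x) t) v = min (xc cs bl w t) v
    congr 1
    unfold xc
    refine Nat.card_congr ((Equiv.ofBijective _ (ta_bijective cs u)).subtypeEquiv fun i => ?_)
    change bl i = none ∧ yv cs (u * w * x) t i ≠ none ↔ bl (ta cs u i) = none ∧ yv cs w t (ta cs u i) ≠ none
    rw [(bl_ta cs hb hu i).1, h1, Ne, sb_eq_none]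
  · change yv cs (u * w * x) t (hb.surj O).choose = yv cs w t (hb.surj O).choose
    have h2 := (hb.surj O).choose_spec
    have h3 : bl (hb.surj O).choose ≠ none := by rw [h2]; simp
    rw [h1, (bl_ta cs hb hu _).2 h3, sb_true]
    exact (good_iff cs hb).1 hw t ht _ _ (bl_ta cs hb hu _).1 (by rw [(bl_ta cs hb hu _).1]; exact h3)

theorem good_mul (hb : Blk bl) {T : Set (Fin n)} {w : W} (hw : Good cs bl T w) {u x : W}
    (hu : u ∈ Subgroup.closure (cs.simple '' JJ bl)) (hx : x ∈ Subgroup.closure (cs.simple '' Tᶜ)) :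
    Good cs bl T (u * w * x) := by
  rw [good_iff cs hb]
  intro t ht i j hij hi
  have h1 : ∀ i, yv cs (u * w * x) t i = sb (de cs u i) (yv cs w t (ta cs u i)) := by
    intro i
    rw [← yv_mul]
    exact ((yv_eq_iff cs (w := u * w) (w' := u * w * x)).2 (by rwa [inv_mul_cancel_left]) t ht i).symm
  rw [h1, h1, (bl_ta cs hb hu i).2 hi, (bl_ta cs hb hu j).2 (hij ▸ hi), sb_true, sb_true]
  refine (good_iff cs hb).1 hw t ht _ _ ?_ ?_
  · rw [(bl_ta cs hb hu i).1, (bl_ta cs hb hu j).1, hij]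
  · rw [(bl_ta cs hb hu i).1]
    exact hi

/-- **Equal codes: the same double coset.** -/
theorem dco_of_cd (hb : Blk bl) {v : ℕ} (hv : Nat.card {i : Fin n // bl i = none} = v) {T : Finset (Fin n)} {w w' : W}
    (hw : Good cs bl (T : Set (Fin n)) w) (hw' : Good cs bl (T : Set (Fin n)) w')
    (h : ∀ t ∈ T, cd cs hb v w t = cd cs hb v w' t) : DCo cs (JJ bl) ((T : Set (Fin n))ᶜ) w w' := by
  classical
  -- a permutation of the tail
  have hx : ∀ t ∈ T, xc cs bl w t = xc cs bl w' t := by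
    intro t ht
    have h1 : min (xc cs bl w t) v = min (xc cs bl w' t) v := congrArg (fun q : Q v ι => (q.1 : ℕ)) (h t ht)
    rwa [min_eq_left (xc_le cs hv w t), min_eq_left (xc_le cs hv w' t)] at h1
  have hs : ∀ t ∈ T, ∀ O, sgc cs hb w t O = sgc cs hb w' t O := fun t ht O =>
    congrFun (congrArg (fun q : Q v ι => q.2) (h t ht)) O
  have hcard : ∀ (z : W) (t : Fin n), Nat.card ({i | yv cs z t i.1 ≠ none} : Set {i : Fin n // bl i = none}) = xc cs bl z t := by
    intro z t
    exact Nat.card_congr ⟨fun x => ⟨x.1.1, x.1.2, x.2⟩, fun x => ⟨⟨x.1, x.2.1⟩, x.2.2⟩, fun _ => rfl, fun _ => rfl⟩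
  obtain ⟨e, he⟩ := exists_equiv_flag T {i : Fin n // bl i = none} {i : Fin n // bl i = none} rfl
    (fun t => {i | yv cs w' t i.1 ≠ none}) (fun t => {i | yv cs w t i.1 ≠ none})
    (fun s _ t _ hst i hi => by
      rcases yv_mono cs w' hst i.1 with h1 | h1
      · exact absurd h1 hi
      · change yv cs w' t i.1 ≠ none
        rw [← h1]
        exact hi)
    (fun s _ t _ hst i hi => by
      rcases yv_mono cs w hst i.1 with h1 | h1
      · exact absurd h1 hi
      · change yv cs w t i.1 ≠ none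
        rw [← h1]
        exact hi)
    (fun t ht => by rw [hcard, hcard, hx t ht])
  let τ : Equiv.Perm (Fin n) := Equiv.Perm.ofSubtype e
  have hτ1 : ∀ i (hi : bl i = none), τ i = (e ⟨i, hi⟩ : Fin n) := fun i hi => Equiv.Perm.ofSubtype_apply_of_mem e hi
  have hτ2 : ∀ i, bl i ≠ none → τ i = i := fun i hi => Equiv.Perm.ofSubtype_apply_of_not_mem e hi
  let δ : Fin n → Bool := fun i => if bl i = none then (de cs w (τ i) == de cs w' i) else true
  obtain ⟨u, hu1, hu2⟩ := exists_of_perm cs τ δ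
  have hyu : ∀ t ∈ T, ∀ i, yv cs (u * w) t i = yv cs w' t i := by
    intro t ht i
    rw [yv_mul, hu1, hu2]
    by_cases hi : bl i = none
    · have h1 : yv cs w t (τ i) ≠ none ↔ yv cs w' t i ≠ none := by
        rw [hτ1 i hi]
        exact he t ht ⟨i, hi⟩
      by_cases h2 : yv cs w' t i = none
      · have h3 : yv cs w t (τ i) = none := by
          by_contra h3
          exact h1.1 h3 h2
        rw [h3, h2, sb_none]
      · have h3 := h1.2 h2
        have h4 : yv cs w t (τ i) = some (de cs w (τ i)) := by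
          rw [Ne, yv_eq_none, not_not] at h3
          rw [yv, if_pos h3]
        have h5 : yv cs w' t i = some (de cs w' i) := by
          rw [yv_eq_none, not_not] at h2
          rw [yv, if_pos h2]
        rw [h4, h5]
        change sb (if bl i = none then (de cs w (τ i) == de cs w' i) else true) _ = _
        rw [if_pos hi]
        cases de cs w (τ i) <;> cases de cs w' i <;> rfl
    · rw [hτ2 i hi]
      change sb (if bl i = none then (de cs w (τ i) == de cs w' i) else true) _ = _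
      rw [if_neg hi, sb_true]
      obtain ⟨O, hO⟩ := Option.ne_none_iff_exists'.1 hi
      rw [yv_eq_sgc cs hb hw ht hO, yv_eq_sgc cs hb hw' ht hO]
      exact hs t ht O
  have huJ : u ∈ Subgroup.closure (cs.simple '' JJ bl) := by
    have h1 : u ∈ stb cs (JJ bl)ᶜ := by
      intro b hb1 i
      have hb2 : bl b ≠ none := fun h2 => hb1 (Or.inl h2)
      rw [yv_one, yv, hu1, hu2]
      by_cases hi : bl i = none
      · have h2 : ¬ τ i ≤ b := fun h3 => hb2 (hb.upper _ b h3 (by rw [hτ1 i hi]; exact (e ⟨i, hi⟩).2))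
        have h3 : ¬ i ≤ b := fun h3 => hb2 (hb.upper _ b h3 hi)
        rw [if_neg h2, if_neg h3]
      · rw [hτ2 i hi]
        change (if i ≤ b then some (if bl i = none then (de cs w (τ i) == de cs w' i) else true) else none) = _
        rw [if_neg hi]
    rwa [stb_eq, compl_compl] at h1
  refine ⟨u, huJ, (u * w)⁻¹ * w', (yv_eq_iff cs).1 hyu, ?_⟩
  rw [mul_inv_cancel_left]

/-! ### surjectivity -/

/-- the flag of signed index sets of a chain -/
def yt {v : ℕ} (ρ : {i : Fin n // bl i = none} ≃ Fin v) (q : Q v ι) (i : Fin n) : Option Bool :=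
  match hi : bl i with
  | none => if (ρ ⟨i, hi⟩ : ℕ) < q.1 then some true else none
  | some O => q.2 O

theorem yt_none {v : ℕ} (ρ : {i : Fin n // bl i = none} ≃ Fin v) (q : Q v ι) {i : Fin n} (hi : bl i = none) :
    yt ρ q i = if (ρ ⟨i, hi⟩ : ℕ) < q.1 then some true else none := by
  unfold yt
  split
  · rfl
  · rename_i O hO
    rw [hi] at hO
    exact absurd hO (by simp)

theorem yt_some {v : ℕ} (ρ : {i : Fin n // bl i = none} ≃ Fin v) (q : Q v ι) {i : Fin n} {O : ι} (hi : bl i = some O) :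
    yt ρ q i = q.2 O := by
  unfold yt
  split
  · rename_i h
    rw [hi] at h
    exact absurd h (by simp)
  · rename_i O' hO
    rw [hi] at hO
    rw [Option.some.inj hO]

theorem yt_mono {v : ℕ} (ρ : {i : Fin n // bl i = none} ≃ Fin v) {q q' : Q v ι} (h : q ≤ q') (i : Fin n) :
    yt ρ q i = none ∨ yt ρ q i = yt ρ q' i := by
  rcases hi : bl i with _ | O
  · rw [yt_none ρ q hi, yt_none ρ q' hi]
    by_cases h1 : (ρ ⟨i, hi⟩ : ℕ) < q.1
    · right
      rw [if_pos h1, if_pos (lt_of_lt_of_le h1 (Fin.le_def.1 h.1))]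
    · left
      rw [if_neg h1]
  · rw [yt_some ρ q hi, yt_some ρ q' hi]
    exact h.2 O

theorem card_yt_tail {v : ℕ} (ρ : {i : Fin n // bl i = none} ≃ Fin v) (q : Q v ι) :
    Nat.card {i : Fin n // bl i = none ∧ yt ρ q i ≠ none} = q.1 := by
  have e : {i : Fin n // bl i = none ∧ yt ρ q i ≠ none} ≃ {k : Fin v // (k : ℕ) < q.1} :=
    { toFun := fun i => ⟨ρ ⟨i.1, i.2.1⟩, by
        have h := i.2.2
        rw [yt_none ρ q i.2.1] at h
        by_contra h1
        exact h (if_neg h1)⟩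
      invFun := fun k => ⟨(ρ.symm k.1).1, (ρ.symm k.1).2, by
        rw [yt_none ρ q (ρ.symm k.1).2, if_pos]
        · simp
        · rw [Subtype.coe_eta, Equiv.apply_symm_apply]
          exact k.2⟩
      left_inv := fun i => Subtype.ext (by simp)
      right_inv := fun k => Subtype.ext (by simp) }
  rw [Nat.card_congr e]
  have hq : (q.1 : ℕ) ≤ v := Nat.le_of_lt_succ q.1.2
  have e2 : {k : Fin v // (k : ℕ) < q.1} ≃ Fin q.1 :=
    { toFun := fun k => ⟨k.1, k.2⟩
      invFun := fun k => ⟨⟨k, lt_of_lt_of_le k.2 hq⟩, k.2⟩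
      left_inv := fun _ => rfl
      right_inv := fun _ => rfl }
  rw [Nat.card_congr e2, Nat.card_eq_fintype_card, Fintype.card_fin]

/-- **Every chain of type `T` is the code of a good element.** -/
theorem exists_of_chain (hb : Blk bl) {v : ℕ} (hv : Nat.card {i : Fin n // bl i = none} = v) {d : ι → ℕ}
    (hd : ∀ O, Nat.card {i : Fin n // bl i = some O} = d O) {T : Finset (Fin n)} (q : Fin n → Q v ι)
    (hq : ∀ t ∈ T, dm d (q t) = t + 1) (hqm : ∀ s ∈ T, ∀ t ∈ T, s ≤ t → q s ≤ q t) :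
    ∃ w : W, Good cs bl (T : Set (Fin n)) w ∧ ∀ t ∈ T, cd cs hb v w t = q t := by
  classical
  obtain ⟨ρ⟩ : Nonempty ({i : Fin n // bl i = none} ≃ Fin v) := by
    refine Finite.card_eq.1 ?_
    rw [hv, Nat.card_eq_fintype_card, Fintype.card_fin]
  have hmono : ∀ s ∈ T, ∀ t ∈ T, s ≤ t → ∀ i, yt ρ (q s) i = none ∨ yt ρ (q s) i = yt ρ (q t) i :=
    fun s hs t ht hst i => yt_mono ρ (hqm s hs t ht hst) i
  have hcard : ∀ t ∈ T, Nat.card {i : Fin n // yt ρ (q t) i ≠ none} = t + 1 := by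
    intro t ht
    rw [card_split d hd (yt ρ (q t)) (q t).2 fun i O hi => yt_some ρ (q t) hi, card_yt_tail, ← hq t ht]
    rfl
  have hcard2 : ∀ t : Fin n, Nat.card ({i | i ≤ t} : Set (Fin n)) = t + 1 := by
    intro t
    have h := card_yv cs (1 : W) t
    rw [← h]
    refine Nat.card_congr (Equiv.subtypeEquivRight fun i => ?_)
    rw [Ne, yv_eq_none, ta_one, not_not]
    rfl
  obtain ⟨e, he⟩ := exists_equiv_flag T (Fin n) (Fin n) rfl (fun t => {i | yt ρ (q t) i ≠ none}) (fun t => {i | i ≤ t})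
    (fun s hs t ht hst i hi => by
      rcases hmono s hs t ht hst i with h1 | h1
      · exact absurd h1 hi
      · change yt ρ (q t) i ≠ none
        rw [← h1]
        exact hi)
    (fun s _ t _ hst i (hi : i ≤ s) => hi.trans hst)
    (fun t ht => by rw [hcard2]; exact hcard t ht)
  let δ : Fin n → Bool := fun i => if ∃ t ∈ T, yt ρ (q t) i = some false then false else true
  obtain ⟨w, hw1, hw2⟩ := exists_of_perm cs e δ
  have hyw : ∀ t ∈ T, ∀ i, yv cs w t i = yt ρ (q t) i := by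
    intro t ht i
    rw [yv, hw1, hw2]
    have h1 : e i ≤ t ↔ yt ρ (q t) i ≠ none := he t ht i
    by_cases h2 : yt ρ (q t) i = none
    · rw [if_neg (fun h3 => h1.1 h3 h2), h2]
    · rw [if_pos (h1.2 h2)]
      obtain ⟨b, hb2⟩ := Option.ne_none_iff_exists'.1 h2
      rw [hb2]
      congr 1
      change (if ∃ t ∈ T, yt ρ (q t) i = some false then false else true) = b
      cases b
      · rw [if_pos ⟨t, ht, hb2⟩]
      · rw [if_neg]
        rintro ⟨s, hs, h3⟩
        rcases le_total s t with h4 | h4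
        · rcases hmono s hs t ht h4 i with h5 | h5
          · rw [h3] at h5
            exact absurd h5 (by simp)
          · rw [h3, hb2] at h5
            exact absurd h5 (by simp)
        · rcases hmono t ht s hs h4 i with h5 | h5
          · exact h2 h5
          · rw [h3, hb2] at h5
            exact absurd h5 (by simp)
  have hgood : Good cs bl (T : Set (Fin n)) w := by
    rw [good_iff cs hb]
    intro t ht i j hij hi
    obtain ⟨O, hO⟩ := Option.ne_none_iff_exists'.1 hi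
    rw [hyw t ht, hyw t ht, yt_some ρ (q t) hO, yt_some ρ (q t) (hij.symm.trans hO)]
  refine ⟨w, hgood, fun t ht => Prod.ext (Fin.ext ?_) (funext fun O => ?_)⟩
  · change min (xc cs bl w t) v = (q t).1
    rw [min_eq_left (xc_le cs hv w t), ← card_yt_tail ρ (q t)]
    unfold xc
    simp only [hyw t ht]
  · change yv cs w t (hb.surj O).choose = (q t).2 O
    rw [hyw t ht, yt_some ρ (q t) (hb.surj O).choose_spec]

/-! ### the count -/

theorem card_eq_of_kernel {α β γ : Type*} (f : α → β) (g : α → γ) (hf : Function.Surjective f) (hg : Function.Surjective g)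
    (h : ∀ a a', f a = f a' ↔ g a = g a') : Nat.card β = Nat.card γ := by
  have e1 := Nat.card_congr (Setoid.quotientKerEquivOfSurjective f hf)
  have e2 := Nat.card_congr (Setoid.quotientKerEquivOfSurjective g hg)
  rw [← e1, ← e2]
  have e3 : Setoid.ker f = Setoid.ker g := Setoid.ext fun a b => h a b
  rw [e3]

/-- **The number of classes of good elements**: `g` any surjective map from the good elements whose fibres are the double
cosets of `W_{J₁}`, `W_{Tᶜ}`. -/
theorem card_of_kernel (hb : Blk bl) {v : ℕ} (hv : Nat.card {i : Fin n // bl i = none} = v) {d : ι → ℕ}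
    (hd : ∀ O, Nat.card {i : Fin n // bl i = some O} = d O) (hd0 : ∀ O, 0 < d O) (T : Finset (Fin n)) {γ : Type*}
    (g : {w : W // Good cs bl (T : Set (Fin n)) w} → γ) (hg : Function.Surjective g)
    (hk : ∀ w w', g w = g w' ↔ DCo cs (JJ bl) ((T : Set (Fin n))ᶜ) w.1 w'.1) :
    (Nat.card γ : ℤ) = nch (dm (v := v) d) T := by
  classical
  let s : Finset (Finset (Q v ι)) :=
    (chs (Finset.univ : Finset (Q v ι))).filter fun c => c.image (dm d) = T.image fun k : Fin n => (k : ℕ) + 1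
  have hs : nch (dm (v := v) d) T = (s.card : ℤ) := by
    unfold nch
    congr!
  -- the chain of a good element
  have hf0 : ∀ w : {w : W // Good cs bl (T : Set (Fin n)) w}, T.image (cd cs hb v w.1) ∈ s := by
    intro w
    refine Finset.mem_filter.2 ⟨mem_chs.2 ⟨Finset.subset_univ _, ?_⟩, ?_⟩
    · intro x hx y hy
      obtain ⟨a, -, rfl⟩ := Finset.mem_image.1 hx
      obtain ⟨b, -, rfl⟩ := Finset.mem_image.1 hy
      rcases le_total a b with h | h
      · exact Or.inl (cd_mono cs hb w.1 h)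
      · exact Or.inr (cd_mono cs hb w.1 h)
    · rw [Finset.image_image]
      refine Finset.image_congr fun t ht => ?_
      exact dm_cd cs hb hv hd w.2 ht
  let f : {w : W // Good cs bl (T : Set (Fin n)) w} → s := fun w => ⟨T.image (cd cs hb v w.1), hf0 w⟩
  have hfe : ∀ w w', f w = f w' ↔ ∀ t ∈ T, cd cs hb v w.1 t = cd cs hb v w'.1 t := by
    intro w w'
    constructor
    · intro h t ht
      have h1 : cd cs hb v w.1 t ∈ T.image (cd cs hb v w'.1) := by
        have h2 : T.image (cd cs hb v w.1) = T.image (cd cs hb v w'.1) := congrArg Subtype.val h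
        rw [← h2]
        exact Finset.mem_image_of_mem _ ht
      obtain ⟨r, hr, h2⟩ := Finset.mem_image.1 h1
      have h3 := dm_cd cs hb hv hd w.2 ht
      have h4 := dm_cd cs hb hv hd w'.2 hr
      rw [h2, h3] at h4
      have h5 : t = r := Fin.ext (by omega)
      rw [← h2, h5]
    · intro h
      exact Subtype.ext (Finset.image_congr fun t ht => h t ht)
  have hfs : Function.Surjective f := by
    rintro ⟨c, hc⟩
    obtain ⟨hc1, hc2⟩ := Finset.mem_filter.1 hc
    have hc3 := (mem_chs.1 hc1).2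
    have h1 : ∀ t : Fin n, ∃ q : Q v ι, t ∈ T → q ∈ c ∧ dm d q = t + 1 := by
      intro t
      by_cases ht : t ∈ T
      · have h2 : (t : ℕ) + 1 ∈ c.image (dm d) := by
          rw [hc2]
          exact Finset.mem_image_of_mem (fun k : Fin n => (k : ℕ) + 1) ht
        obtain ⟨q, hq1, hq2⟩ := Finset.mem_image.1 h2
        exact ⟨q, fun _ => ⟨hq1, hq2⟩⟩
      · exact ⟨(⟨0, by omega⟩, fun _ => none), fun h => absurd h ht⟩
    choose q hq using h1
    have hqm : ∀ s ∈ T, ∀ t ∈ T, s ≤ t → q s ≤ q t := by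
      intro a ha b hb' hab
      rcases hc3 _ (hq a ha).1 _ (hq b hb').1 with h2 | h2
      · exact h2
      · rcases h2.eq_or_lt with h3 | h3
        · exact h3.ge
        · have h4 := H636.LIN.dm_strictMono hd0 h3
          rw [(hq a ha).2, (hq b hb').2] at h4
          rw [Fin.le_def] at hab
          omega
    obtain ⟨w, hw1, hw2⟩ := exists_of_chain cs hb hv hd q (fun t ht => (hq t ht).2) hqm
    refine ⟨⟨w, hw1⟩, Subtype.ext ?_⟩
    change T.image (cd cs hb v w) = c
    rw [Finset.image_congr (g := q) fun t ht => hw2 t ht]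
    refine Finset.Subset.antisymm ?_ ?_
    · intro x hx
      obtain ⟨t, ht, rfl⟩ := Finset.mem_image.1 hx
      exact (hq t ht).1
    · intro x hx
      have h2 : dm d x ∈ T.image fun k : Fin n => (k : ℕ) + 1 := by
        rw [← hc2]
        exact Finset.mem_image_of_mem _ hx
      obtain ⟨t, ht, h3⟩ := Finset.mem_image.1 h2
      have h4 : q t = x := by
        have h5 : dm d (q t) = dm d x := by rw [(hq t ht).2]; exact h3
        rcases hc3 _ (hq t ht).1 _ hx with h6 | h6
        · rcases h6.eq_or_lt with h7 | h7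
          · exact h7
          · exact absurd h5 (H636.LIN.dm_strictMono hd0 h7).ne
        · rcases h6.eq_or_lt with h7 | h7
          · exact h7.symm
          · exact absurd h5 (H636.LIN.dm_strictMono hd0 h7).ne'
      exact Finset.mem_image.2 ⟨t, ht, h4⟩
  rw [hs, ← card_eq_of_kernel f g hfs hg fun w w' => ?_]
  · rw [Nat.card_eq_fintype_card, Fintype.card_coe]
  · rw [hfe, hk]
    constructor
    · exact dco_of_cd cs hb hv w.2 w'.2
    · rintro ⟨u, hu, x, hx, h⟩ t ht
      rw [h]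
      exact (cd_mul cs hb v w.2 hu hx ht).symm

end good

/-! ### blocks of size `e` -/

section blE

variable {n : ℕ}

/-- `w` blocks of size `e` -/
def blE (e w : ℕ) (i : Fin n) : Option (Fin w) :=
  if h : (i : ℕ) < e * w then some ⟨i / e, Nat.div_lt_of_lt_mul h⟩ else none

theorem blE_none {e w : ℕ} {i : Fin n} : blE e w i = none ↔ e * w ≤ (i : ℕ) := by
  unfold blE
  split_ifs with h
  · exact iff_of_false (by simp) (by omega)
  · exact iff_of_true rfl (by omega)

theorem blE_some {e w : ℕ} {i : Fin n} {O : Fin w} : blE e w i = some O ↔ (i : ℕ) < e * w ∧ (i : ℕ) / e = O := by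
  unfold blE
  split_ifs with h
  · rw [Option.some.injEq, Fin.ext_iff]
    exact ⟨fun h1 => ⟨h, h1⟩, fun h1 => h1.2⟩
  · exact iff_of_false (by simp) fun h1 => h h1.1

theorem blk_blE {e w : ℕ} (he : 0 < e) (hn : e * w ≤ n) : Blk (blE e w : Fin n → Option (Fin w)) where
  conv i j k hij hjk h := by
    rw [Fin.le_def] at hij hjk
    rcases hk : blE e w k with _ | O
    · rw [hk, blE_none] at h
      have h1 : blE e w j = none := blE_none.2 (by omega)
      rw [h1, blE_none.2 h]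
    · rw [hk] at h
      have h1 := blE_some.1 hk
      have h2 := blE_some.1 h
      have h3 : (i : ℕ) / e ≤ (j : ℕ) / e := Nat.div_le_div_right hij
      have h4 : (j : ℕ) / e ≤ (k : ℕ) / e := Nat.div_le_div_right hjk
      rw [h]
      exact blE_some.2 ⟨by omega, by omega⟩
  upper i j hij h := by
    rw [Fin.le_def] at hij
    rw [blE_none] at h ⊢
    omega
  surj O := by
    have h1 : e * O < e * w := Nat.mul_lt_mul_of_pos_left O.2 he
    exact ⟨⟨e * O, by omega⟩, blE_some.2 ⟨h1, Nat.mul_div_cancel_left _ he⟩⟩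

theorem card_blE_some {e w : ℕ} (he : 0 < e) (hn : e * w ≤ n) (O : Fin w) :
    Nat.card {i : Fin n // blE e w i = some O} = e := by
  have hO : e * O + e ≤ e * w := by
    have := Nat.mul_le_mul_left e (Nat.succ_le_of_lt O.2)
    rwa [Nat.mul_succ] at this
  have e1 : {i : Fin n // blE e w i = some O} ≃ Fin e :=
    { toFun := fun i => ⟨(i.1 : ℕ) % e, Nat.mod_lt _ he⟩
      invFun := fun k => ⟨⟨e * O + k, by have := k.2; omega⟩, blE_some.2 ⟨by have := k.2; change e * (O : ℕ) + k < e * w; omega, by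
        change (e * (O : ℕ) + k) / e = O
        rw [Nat.mul_add_div he, Nat.div_eq_of_lt k.2, add_zero]⟩⟩
      left_inv := fun i => Subtype.ext (Fin.ext (by
        change e * (O : ℕ) + (i.1 : ℕ) % e = i.1
        rw [← (blE_some.1 i.2).2]
        exact Nat.div_add_mod _ _))
      right_inv := fun k => Fin.ext (by
        change (e * (O : ℕ) + k) % e = k
        rw [Nat.mul_add_mod]
        exact Nat.mod_eq_of_lt k.2) }
  rw [Nat.card_congr e1, Nat.card_eq_fintype_card, Fintype.card_fin]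

theorem card_blE_none {e w v : ℕ} (hn : v + e * w = n) : Nat.card {i : Fin n // blE e w i = none} = v := by
  have e1 : {i : Fin n // blE e w i = none} ≃ Fin v :=
    { toFun := fun i => ⟨(i.1 : ℕ) - e * w, by have := i.1.2; have := blE_none.1 i.2; omega⟩
      invFun := fun k => ⟨⟨e * w + k, by have := k.2; omega⟩, blE_none.2 (Nat.le_add_right _ _)⟩
      left_inv := fun i => Subtype.ext (Fin.ext (by
        have := blE_none.1 i.2
        change e * w + ((i.1 : ℕ) - e * w) = i.1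
        omega))
      right_inv := fun k => Fin.ext (by
        change e * w + (k : ℕ) - e * w = k
        omega) }
  rw [Nat.card_congr e1, Nat.card_eq_fintype_card, Fintype.card_fin]

theorem blE_succ {e w : ℕ} {k : Fin n} (h : (k : ℕ) + 1 < n) (hk : (k : ℕ) < e * w) :
    blE e w k = blE e w ⟨k + 1, h⟩ ↔ ¬ e ∣ (k : ℕ) + 1 := by
  have h1 : blE e w k = some ⟨k / e, Nat.div_lt_of_lt_mul hk⟩ := blE_some.2 ⟨hk, rfl⟩
  rw [h1, eq_comm, blE_some]
  change ((k : ℕ) + 1 < e * w ∧ ((k : ℕ) + 1) / e = (k : ℕ) / e) ↔ _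
  have h2 : ((k : ℕ) + 1) / e = (k : ℕ) / e + if e ∣ (k : ℕ) + 1 then 1 else 0 := Nat.succ_div
  constructor
  · rintro ⟨h3, h4⟩ h5
    rw [h4, if_pos h5] at h2
    omega
  · intro h3
    rw [if_neg h3, add_zero] at h2
    refine ⟨?_, h2⟩
    have h4 : (k : ℕ) + 1 ≠ e * w := fun h5 => h3 (h5 ▸ Dvd.intro w rfl)
    omega

theorem JP_blE {e w : ℕ} (hn : e * w ≤ n) :
    JP (blE e w : Fin n → Option (Fin w)) = {k : Fin n | (k : ℕ) < e * w ∧ ¬ e ∣ (k : ℕ) + 1} := by
  ext k
  constructor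
  · rintro ⟨h1, h2, h3⟩
    have h4 : (k : ℕ) < e * w := not_le.1 fun h => h1 (blE_none.2 h)
    exact ⟨h4, (blE_succ h2 h4).1 h3⟩
  · rintro ⟨h1, h2⟩
    have h4 : (k : ℕ) + 1 ≠ e * w := fun h5 => h2 (h5 ▸ Dvd.intro w rfl)
    have h5 : (k : ℕ) + 1 < n := by omega
    exact ⟨fun h => absurd (blE_none.1 h) (not_le.2 h1), h5, (blE_succ h5 h1).2 h2⟩

theorem JJ_blE {e w : ℕ} (hn : e * w ≤ n) :
    JJ (blE e w : Fin n → Option (Fin w)) = {k : Fin n | e * w ≤ (k : ℕ) ∨ ¬ e ∣ (k : ℕ) + 1} := by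
  ext k
  constructor
  · rintro (h | ⟨h2, h3⟩)
    · exact Or.inl (blE_none.1 h)
    · rcases le_or_gt (e * w) (k : ℕ) with h4 | h4
      · exact Or.inl h4
      · exact Or.inr ((blE_succ h2 h4).1 h3)
  · rintro (h | h)
    · exact Or.inl (blE_none.2 h)
    · rcases le_or_gt (e * w) (k : ℕ) with h4 | h4
      · exact Or.inl (blE_none.2 h4)
      · have h5 : (k : ℕ) + 1 ≠ e * w := fun h6 => h (h6 ▸ Dvd.intro w rfl)
        have h6 : (k : ℕ) + 1 < n := by omega
        exact Or.inr ⟨h6, (blE_succ h6 h4).2 h⟩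

variable {W : Type*} [Group W] (cs : CoxeterSystem (CoxeterMatrix.B n) W)

/-- **(L-b)**: `J₁' = {k < e w : e ∤ k + 1}`, `J₁ = J₁' ∪ {k ≥ e w}`: the number of double cosets `W_{J₁} x W_{Tᶜ}` with
`x⁻¹ Φ_{J₁'} ⊆ Φ_{Tᶜ}` is the number of chains of type `T`; `γ`: any set of representatives. -/
theorem card_cells {e w v : ℕ} (he : 0 < e) (hn : v + e * w = n) (T : Finset (Fin n)) {γ : Type*}
    (g : {x : W // ∀ j : Fin n, (j : ℕ) < e * w → ¬ e ∣ (j : ℕ) + 1 → ∀ t ∈ T, rep cs (isCartan n) x⁻¹ (sr j) t = 0} → γ)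
    (hg : Function.Surjective g)
    (hk : ∀ x y, g x = g y ↔ ∃ a ∈ Subgroup.closure (cs.simple '' {k : Fin n | e * w ≤ (k : ℕ) ∨ ¬ e ∣ (k : ℕ) + 1}),
      ∃ b ∈ Subgroup.closure (cs.simple '' (T : Set (Fin n))ᶜ), y.1 = a * x.1 * b) :
    (Nat.card γ : ℤ) = nch (dm (v := v) fun _ : Fin w => e) T := by
  have hn' : e * w ≤ n := by omega
  have h1 : ∀ x : W, Good cs (blE e w : Fin n → Option (Fin w)) (T : Set (Fin n)) x ↔
      ∀ j : Fin n, (j : ℕ) < e * w → ¬ e ∣ (j : ℕ) + 1 → ∀ t ∈ T, rep cs (isCartan n) x⁻¹ (sr j) t = 0 := by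
    intro x
    unfold Good
    rw [JP_blE hn']
    exact ⟨fun h j h1 h2 => h j ⟨h1, h2⟩, fun h j h1 => h j h1.1 h1.2⟩
  let E := Equiv.subtypeEquivRight h1
  refine card_of_kernel cs (blk_blE he hn') (card_blE_none hn) (fun O => card_blE_some he hn' O) (fun _ => he) T
    (fun x => g (E x)) (hg.comp E.surjective) fun x y => ?_
  rw [hk, JJ_blE hn']
  rfl

end blE

end Cfsg.Agent.H236.XZ
end

private theorem dce_5a58216ccb23 : _root_.True := by
  try have : _root_.True := by simp only [_root_.Cfsg.Agent.H236.XZ.ta.eq_1]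
  try have : _root_.True := by simp only [_root_.Cfsg.Agent.H236.XZ.yv.eq_1]
  try have : _root_.True := by simp only [_root_.Cfsg.Agent.H236.XZ.sb.eq_1]
  try have : _root_.True := by simp only [_root_.Cfsg.Agent.H236.XZ.sz'.eq_1]
  try have : _root_.True := by simp only [_root_.Cfsg.Agent.H236.XZ.sz'.eq_3]
  try have : _root_.True := by simp only [_root_.Cfsg.Agent.H236.XZ.de.eq_1]
  try have : _root_.True := by simp only [_root_.Cfsg.Agent.H236.XZ.sz'.eq_2]
  exact _root_.True.intro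
end

-- part: H563/XZ/OwnTor
section
set_option linter.all false
open scoped Cfsg.Agent.FastGrp

/-!
# S4791 + S4927, own characteristic: the torus of a root group datum normalizes a Sylow `p`-subgroup (helper563)

* `exists_sylow_of_split` : the subgroup `U` of a split (B, N)-pair is a Sylow subgroup;
* `torus_of_rgd` : the elements of the torus have order prime to `p` and normalize the same Sylow subgroup;
* `Ev`, `ev_semi`, `spec_eq` : eigenvalues.
-/

set_option autoImplicit false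
set_option linter.unusedSectionVars false

namespace Cfsg.Agent.H563.XZ.OwnTor

open CoxeterSystem Cfsg.Agent.ChevalleyStructure.CoxeterGeom Cfsg.Agent.Tits.Roots Cfsg.Agent.Tits.Core
  Cfsg.Agent.Tits.RootComb Cfsg.Agent.Nodes.Comb Cfsg.Agent.Nodes.Reps Cfsg.Agent.Nodes.BNOf Cfsg.Agent.FixBN

section split

variable {p : ℕ} [hp : Fact p.Prime] {S : Type*} [Group S] [Finite S]

theorem exists_sylow_of_split {P : Cfsg.BNPair S} {U : Subgroup S} (hs : Split P p U) :
    ∃ Q : Sylow p S, (Q : Subgroup S) = U := by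
  obtain ⟨m, hm, hm'⟩ := hs.tor
  have hi : ¬ p ∣ U.index := by
    intro hd
    obtain ⟨k, hk⟩ := hs.isP.exists_card_eq
    have h1 : p ^ (k + 1) ∣ Nat.card S := by
      rw [← U.card_mul_index, hk, pow_succ]
      exact mul_dvd_mul_left _ hd
    have h2 := Sylow.prime_dvd_card_quotient_normalizer h1 hk
    have hnor : (Subgroup.comap (Subgroup.normalizer (U : Set S)).subtype U).Normal :=
      inferInstanceAs (U.subgroupOf (Subgroup.normalizer (U : Set S))).Normal
    obtain ⟨x, hx⟩ := exists_prime_orderOf_dvd_card' (G := Subgroup.normalizer (U : Set S) ⧸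
      Subgroup.comap (Subgroup.normalizer (U : Set S)).subtype U) p h2
    obtain ⟨⟨y, hy⟩, rfl⟩ := QuotientGroup.mk_surjective x
    have hyB : y ∈ P.B := by rw [← hs.normalizer_eq]; exact hy
    obtain ⟨u, hu, hun⟩ := hs.cover y hyB
    have h4 : u⁻¹ * y ∈ P.B := mul_mem (inv_mem (hs.le hu)) hyB
    have h5 : (u⁻¹ * y) ^ m = 1 := hm' _ h4 hun
    have h6 : (QuotientGroup.mk (⟨y, hy⟩ : Subgroup.normalizer (U : Set S)) : Subgroup.normalizer (U : Set S) ⧸
        Subgroup.comap (Subgroup.normalizer (U : Set S)).subtype U) ^ m = 1 := by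
      have h7 : u⁻¹ * y ∈ Subgroup.normalizer (U : Set S) := by rw [hs.normalizer_eq]; exact h4
      have h8 : (QuotientGroup.mk (⟨y, hy⟩ : Subgroup.normalizer (U : Set S)) : Subgroup.normalizer (U : Set S) ⧸
          Subgroup.comap (Subgroup.normalizer (U : Set S)).subtype U) = QuotientGroup.mk ⟨u⁻¹ * y, h7⟩ := by
        rw [QuotientGroup.eq]
        show y⁻¹ * (u⁻¹ * y) ∈ U
        have h9 := hs.norm y⁻¹ (inv_mem hyB) _ (inv_mem hu)
        rw [inv_inv] at h9
        rwa [← mul_assoc]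
      rw [h8, ← QuotientGroup.mk_pow]
      have h10 : (⟨u⁻¹ * y, h7⟩ : Subgroup.normalizer (U : Set S)) ^ m = 1 := Subtype.ext h5
      rw [h10]
      rfl
    have h7 := orderOf_dvd_of_pow_eq_one h6
    rw [hx] at h7
    exact hm h7
  exact ⟨hs.isP.toSylow hi, rfl⟩

end split

section rgd

variable {I W Y : Type*} [Fintype I] [DecidableEq I] [Group W] [Group Y] {M : CoxeterMatrix I}
  {cs : CoxeterSystem M W} {A : I → I → ℤ} {h : IsCartan M A} {p : ℕ} {T : Subgroup Y} {n : I → Y}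
  {X : (I → ℤ) → Subgroup Y}

/-- the torus normalizes a Sylow subgroup -/
theorem torus_of_rgd [Finite W] [Finite Y] [Nonempty I] [IsSimpleGroup Y] (hp : Fact p.Prime) (R : RGD cs h p T n X)
    (hX : Nodes.RGDLib.G1 cs h X = ⊤) :
    ∃ Q : Sylow p Y, ∀ t ∈ T, ¬ p ∣ orderOf t ∧ ∀ u ∈ (Q : Subgroup Y), t * u * t⁻¹ ∈ (Q : Subgroup Y) := by
  have hgen : RGD.B cs h T X ⊔ NN cs R.nsys = ⊤ := by
    rw [eq_top_iff, ← hX]
    exact Nodes.RGDLib.rgd_G1_le R
  obtain ⟨i⟩ := (inferInstance : Nonempty I)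
  have hne : (R.bnPair hgen).S.Nonempty := ⟨n i, i, rfl⟩
  have hs := SplitRGD.split_of_rgd hp.out R hgen (Cfsg.Agent.Tits.OfBN.normalCore_eq_bot (R.bnPair hgen) hne)
  obtain ⟨Q, hQ⟩ := exists_sylow_of_split hs
  refine ⟨Q, fun t ht => ⟨fun hd => ?_, fun u hu => ?_⟩⟩
  · have h1 : orderOf t ∣ Nat.card T := by
      have := orderOf_dvd_natCard (⟨t, ht⟩ : T)
      rwa [Subgroup.orderOf_mk] at this
    exact hp.out.one_lt.ne' (Nat.Coprime.eq_one_of_dvd R.tcop.symm (hd.trans h1))
  · rw [hQ] at hu ⊢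
    exact hs.norm t (RGD.T_le_B ht) u hu

end rgd

/-! ### Eigenvalues -/

section ev

open Matrix

variable {ι : Type*} [Fintype ι] [DecidableEq ι] {F : Type*} [Field F]

/-- `x` is an eigenvalue of the matrix `A` -/
def Ev (A : Matrix ι ι F) (x : F) : Prop := ∃ v : ι → F, v ≠ 0 ∧ A *ᵥ v = x • v

theorem ev_diagonal {d : ι → F} {x : F} : Ev (Matrix.diagonal d) x ↔ ∃ i, d i = x := by
  constructor
  · rintro ⟨v, hv, e⟩
    obtain ⟨i, hi⟩ : ∃ i, v i ≠ 0 := by
      by_contra hcon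
      push Not at hcon
      exact hv (funext hcon)
    refine ⟨i, ?_⟩
    have h1 := congrFun e i
    rw [Matrix.mulVec_diagonal, Pi.smul_apply, smul_eq_mul] at h1
    exact mul_right_cancel₀ hi h1
  · rintro ⟨i, rfl⟩
    refine ⟨Pi.single i 1, fun h => ?_, ?_⟩
    · have h1 := congrFun h i
      simp at h1
    · funext j
      rw [Matrix.mulVec_diagonal, Pi.smul_apply, smul_eq_mul]
      by_cases hj : j = i
      · subst hj; rfl
      · simp [Pi.single_eq_of_ne hj]

theorem ev_smul {A : Matrix ι ι F} {l x : F} (hl : l ≠ 0) : Ev (l • A) (l * x) ↔ Ev A x := by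
  constructor
  · rintro ⟨v, hv, e⟩
    refine ⟨v, hv, ?_⟩
    rw [Matrix.smul_mulVec, mul_smul] at e
    exact smul_right_injective _ hl e
  · rintro ⟨v, hv, e⟩
    refine ⟨v, hv, ?_⟩
    rw [Matrix.smul_mulVec, mul_smul, e]

theorem ev_semi {τ : F ≃+* F} {T : (ι → F) ≃+ (ι → F)} (hT : ∀ (c : F) v, T (c • v) = τ c • T v)
    {A B : Matrix ι ι F} (h : ∀ v, B *ᵥ T v = T (A *ᵥ v)) {x : F} : Ev B (τ x) ↔ Ev A x := by
  constructor
  · rintro ⟨v, hv, e⟩
    obtain ⟨w, rfl⟩ := T.surjective v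
    refine ⟨w, fun h0 => hv (by rw [h0, map_zero]), ?_⟩
    rw [h, ← hT] at e
    exact T.injective e
  · rintro ⟨v, hv, e⟩
    refine ⟨T v, fun h0 => hv ?_, ?_⟩
    · apply T.injective
      rw [h0, map_zero]
    · rw [h, e, hT]

/-- two spectra `{a, a⁻¹, 1}` and `{b, b⁻¹, 1}` which differ by a scalar -/
theorem spec_eq {a b l : F} (ha : a ≠ 0) (hb : b ≠ 0) (hl : l ≠ 0)
    (h : ∀ x, (x = a ∨ x = a⁻¹ ∨ x = 1) ↔ (l * x = b ∨ l * x = b⁻¹ ∨ l * x = 1)) : b = a ∨ b * a = 1 := by
  have hone : l = 1 → b = a ∨ b * a = 1 := by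
    rintro rfl
    rcases (h a).1 (Or.inl rfl) with h1 | h1 | h1
    · left; rw [← h1, one_mul]
    · right; rw [one_mul] at h1; rw [h1, mul_inv_cancel₀ hb]
    · rw [one_mul] at h1
      subst h1
      rcases (h b).2 (Or.inl (one_mul b)) with h2 | h2 | h2
      · exact Or.inl h2
      · left; rw [h2, inv_one]
      · exact Or.inl h2
  rcases (h 1).1 (Or.inr (Or.inr rfl)) with h1 | h1 | h1
  · rw [mul_one] at h1
    subst h1
    rcases (h l⁻¹).2 (Or.inr (Or.inr (mul_inv_cancel₀ hl))) with h2 | h2 | h2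
    · right; rw [← h2, mul_inv_cancel₀ hl]
    · left; exact inv_injective h2
    · exact hone (by rw [← inv_inv l, h2, inv_one])
  · rw [mul_one] at h1
    subst h1
    rcases (h b).2 (Or.inr (Or.inr (inv_mul_cancel₀ hb))) with h2 | h2 | h2
    · exact Or.inl h2
    · right; rw [h2, inv_mul_cancel₀ ha]
    · exact hone (by rw [h2, inv_one])
  · rw [mul_one] at h1
    exact hone h1

/-- a spectrum with four different elements -/
theorem spec_ne {a b c d e l : F} (hab : a ≠ b) (hac : a ≠ c) (had : a ≠ d) (hbc : b ≠ c) (hbd : b ≠ d) (hcd : c ≠ d)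
    (hl : l ≠ 0) (h : ∀ x, (x = a ∨ x = b ∨ x = c ∨ x = d) → (l * x = e ∨ l * x = e⁻¹ ∨ l * x = 1)) : False := by
  have key : ∀ x y z : F, x ≠ y → l * x = z → l * y = z → False := fun x y z hxy h1 h2 =>
    hxy (mul_left_cancel₀ hl (h1.trans h2.symm))
  have ha := h a (Or.inl rfl)
  have hb := h b (Or.inr (Or.inl rfl))
  have hc := h c (Or.inr (Or.inr (Or.inl rfl)))
  have hd := h d (Or.inr (Or.inr (Or.inr rfl)))
  rcases ha with ha | ha | ha <;> rcases hb with hb | hb | hb <;> rcases hc with hc | hc | hc <;>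
    rcases hd with hd | hd | hd <;>
    first
    | exact key _ _ _ hab ha hb
    | exact key _ _ _ hac ha hc
    | exact key _ _ _ had ha hd
    | exact key _ _ _ hbc hb hc
    | exact key _ _ _ hbd hb hd
    | exact key _ _ _ hcd hc hd

end ev

end Cfsg.Agent.H563.XZ.OwnTor
end

-- part: H563/XZ/OwnOm
section
prune_inst 0x430102d0404e2000000180500720002407200042200400000a80003440ec0ec42a0010820b470031092000ccd60390068134c0130422800000a008400411c04810c811002a0180808000016000880400000000000000000000000000000000000200000000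
set_option linter.all false
open scoped Cfsg.Agent.FastGrp

set_option autoImplicit false
set_option linter.unusedSectionVars false

namespace Cfsg.Agent.H563.XZ.OwnOm

open QuadraticMap Cfsg.Agent.LieClassical.OrthCore Cfsg.Agent.LieClassical.OrthTrans
  Cfsg.Agent.LieClassical.OrthSimple Cfsg.Agent.AutOrth.SemiSim Cfsg.Agent.AutOrth.Gen
  Cfsg.Agent.AutOrth.Extend Cfsg.Agent.ClassicalGeometry.OrthAut1 Cfsg.Agent.LieClassical.QuadForms
  Cfsg.Agent.LieClassical.OrthFinite Cfsg.Agent.LieClassical Cfsg.Agent.AutOrth.Main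
  Cfsg.Agent.TitsThree Cfsg.Agent.TitsThree.Siegel Cfsg.Agent.TitsThree.SiegelGen
  Cfsg.Agent.TitsThree.WittFrame Cfsg.Agent.TitsThree.WBridge Cfsg.Agent.TitsThree.WittWeyl
  Cfsg.Agent.TitsThree.KSideO Cfsg.Agent.Nodes Cfsg.Agent.Nodes.WittRoot Cfsg.Agent.H563.XZ.OwnTor

section frame

variable {F V : Type*} [Field F] [AddCommGroup V] [Module F V] {H : HForm F V} {ι : Type*} [DecidableEq ι]
  (Fr : Frame H ι)

/-- the torus element of a pair of signed indices -/
noncomputable def hh (x y : ι × Bool) (c : F) : V ≃ₗ[F] V := nX Fr x y c * (nX Fr x y 1)⁻¹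

variable {Fr}

theorem inv_apply_eq {g : V ≃ₗ[F] V} {v w : V} (h : g v = w) : g⁻¹ w = v := by
  rw [← h]
  exact g.symm_apply_apply v

/-- the eigenvalues of `hh x y c` -/
def L (x y : ι × Bool) (c : F) (z : ι × Bool) : F :=
  if z = x ∨ z = y then c else if z = neg x ∨ z = neg y then c⁻¹ else 1

theorem hh_apply (hσ : ∀ a, H.σ a = a) {x y : ι × Bool} (h : x.1 ≠ y.1) {c : F} (hc : c ≠ 0) (z : ι × Bool) :
    hh Fr x y c (Fr.b z) = L x y c z • Fr.b z := by
  have hk : H.ε⁻¹ * Fr.η x * Fr.η y ≠ 0 := mul_ne_zero (mul_ne_zero (inv_ne_zero H.ε_ne) (Fr.η_ne x)) (Fr.η_ne y)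
  have h1 : (1 : F) ≠ 0 := one_ne_zero
  have hx : x ≠ neg x := ne_neg_self x
  have hy : y ≠ neg y := ne_neg_self y
  have hxy : x ≠ y := fun e => h (by rw [e])
  have hxy' : x ≠ neg y := fun e => h (by rw [e]; rfl)
  have hyx' : y ≠ neg x := fun e => h (by rw [e]; rfl)
  rw [hh, mul_apply']
  by_cases ex : z = x
  · subst ex
    have e1 : nX Fr z y 1 (Fr.b (neg y)) = Fr.b z := by rw [nX_apply_neg Fr h h1, one_smul]
    rw [inv_apply_eq e1, nX_apply_neg Fr h hc, L, if_pos (Or.inl rfl)]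
  by_cases ey : z = y
  · subst ey
    have e1 : nX Fr x z 1 (-((H.ε⁻¹ * Fr.η x * Fr.η z)⁻¹ • Fr.b (neg x))) = Fr.b z := by
      rw [map_neg, map_smul, nX_apply_neg' Fr h h1, hσ, mul_one, smul_neg, _root_.neg_neg, smul_smul, inv_mul_cancel₀ hk,
        one_smul]
    rw [inv_apply_eq e1, map_neg, map_smul, nX_apply_neg' Fr h hc, hσ, L, if_pos (Or.inr rfl), smul_neg, _root_.neg_neg,
      smul_smul, ← mul_assoc, inv_mul_cancel₀ hk, one_mul]
  by_cases enx : z = neg x
  · subst enx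
    have e1 : nX Fr x y 1 ((H.ε⁻¹ * Fr.η x * Fr.η y) • Fr.b y) = Fr.b (neg x) := by
      rw [map_smul, nX_apply_self' Fr h h1, hσ, mul_one, smul_smul, mul_inv_cancel₀ hk, one_smul]
    rw [inv_apply_eq e1, map_smul, nX_apply_self' Fr h hc, hσ, L, if_neg (not_or.2 ⟨ex, ey⟩), if_pos (Or.inl rfl),
      smul_smul, mul_inv, ← mul_assoc, mul_inv_cancel₀ hk, one_mul]
  by_cases eny : z = neg y
  · subst eny
    have e1 : nX Fr x y 1 (-Fr.b x) = Fr.b (neg y) := by
      rw [map_neg, nX_apply_self Fr h h1, inv_one, one_smul, _root_.neg_neg]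
    rw [inv_apply_eq e1, map_neg, nX_apply_self Fr h hc, _root_.neg_neg, L, if_neg (not_or.2 ⟨ex, ey⟩), if_pos (Or.inr rfl)]
  · have hz1 : z.1 ≠ x.1 := by
      intro e
      obtain ⟨z1, z2⟩ := z
      obtain ⟨x1, x2⟩ := x
      subst e
      cases z2 <;> cases x2 <;> simp_all [neg]
    have hz2 : z.1 ≠ y.1 := by
      intro e
      obtain ⟨z1, z2⟩ := z
      obtain ⟨y1, y2⟩ := y
      subst e
      cases z2 <;> cases y2 <;> simp_all [neg]
    rw [inv_apply_eq (nX_apply_of_ne Fr h hz1 hz2 1), nX_apply_of_ne Fr h hz1 hz2, L, if_neg (not_or.2 ⟨ex, ey⟩),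
      if_neg (not_or.2 ⟨enx, eny⟩), one_smul]

theorem L_x (x y : ι × Bool) (c : F) : L x y c x = c := if_pos (Or.inl rfl)

theorem L_y (x y : ι × Bool) (c : F) : L x y c y = c := if_pos (Or.inr rfl)

theorem L_nx {x y : ι × Bool} (h : x.1 ≠ y.1) (c : F) : L x y c (neg x) = c⁻¹ := by
  rw [L, if_neg, if_pos (Or.inl rfl)]
  rintro (e | e)
  · exact ne_neg_self x e.symm
  · exact h (by rw [← e]; rfl)

theorem L_ny {x y : ι × Bool} (h : x.1 ≠ y.1) (c : F) : L x y c (neg y) = c⁻¹ := by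
  rw [L, if_neg, if_pos (Or.inr rfl)]
  rintro (e | e)
  · exact h (by rw [← e]; rfl)
  · exact ne_neg_self y e.symm

theorem L_of_ne {x y z : ι × Bool} (h1 : z.1 ≠ x.1) (h2 : z.1 ≠ y.1) (c : F) : L x y c z = 1 := by
  rw [L, if_neg, if_neg]
  · rintro (e | e)
    · exact h1 (by rw [e]; rfl)
    · exact h2 (by rw [e]; rfl)
  · rintro (e | e)
    · exact h1 (congrArg Prod.fst e)
    · exact h2 (congrArg Prod.fst e)

theorem hh_V0 {x y : ι × Bool} (h : x.1 ≠ y.1) {c : F} {v : V} (hv : v ∈ Fr.V0) : hh Fr x y c v = v := by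
  rw [hh, mul_apply', inv_apply_eq (nX_apply_V0 Fr h hv 1), nX_apply_V0 Fr h hv]

end frame

section orth

variable {ι : Type} [Fintype ι] [DecidableEq ι] {F : Type*} [Field F] {Q : QuadraticForm F (ι → F)}

/-- eigenvalues of a map -/
def EvF {V : Type*} [AddCommGroup V] [Module F V] (f : V → V) (x : F) : Prop := ∃ v : V, v ≠ 0 ∧ f v = x • v

theorem exists_image [Finite F] (hG : Good Q) (h7 : 7 ≤ Fintype.card ι) {α : MulAut (P Q)} (hα : Pt hG α) (g : E Q) :
    ∃ (g' : E Q) (τ : F ≃+* F), α (g : P Q) = (g' : P Q) ∧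
      ∀ x, EvF (g' : (ι → F) ≃ₗ[F] (ι → F)) (τ x) ↔ EvF (g : (ι → F) ≃ₗ[F] (ι → F)) x := by
  obtain ⟨M, τ, c, hM, h⟩ := Cfsg.Agent.ClassicalGeometry.OrthAut4.exists_semi_P hG
    (by rwa [Module.finrank_fintype_fun_eq_card]) α hα
  refine ⟨conjE hM g, τ, h g, fun x => ?_⟩
  constructor
  · rintro ⟨v, hv, e⟩
    obtain ⟨w, rfl⟩ := M.surjective v
    refine ⟨w, fun h0 => hv (by rw [h0, map_zero]), ?_⟩
    rw [conjE_apply, ← hM.smul] at e
    exact M.injective e
  · rintro ⟨v, hv, e⟩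
    refine ⟨M v, fun h0 => hv ?_, ?_⟩
    · apply M.injective
      rw [h0, map_zero]
    · rw [conjE_apply, e, hM.smul]

theorem ev_of_mk_eq (hG : Good Q) {s s' : E Q} (h : (s : P Q) = (s' : P Q)) : ∃ l : F, l ≠ 0 ∧
    ∀ x, EvF (s' : (ι → F) ≃ₗ[F] (ι → F)) (l * x) ↔ EvF (s : (ι → F) ≃ₗ[F] (ι → F)) x := by
  obtain ⟨c, hc⟩ := KSideO.scalar_of_center hG (QuotientGroup.eq.1 h)
  have h1 : ∀ v, (s' : (ι → F) ≃ₗ[F] (ι → F)) v = c • (s : (ι → F) ≃ₗ[F] (ι → F)) v := by
    intro v
    have h2 : s' = s * (s⁻¹ * s') := by group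
    have h3 : (s' : (ι → F) ≃ₗ[F] (ι → F)) v = (s : (ι → F) ≃ₗ[F] (ι → F)) ((s⁻¹ * s' : E Q).1 v) :=
      congrArg (fun z : E Q => (z : (ι → F) ≃ₗ[F] (ι → F)) v) h2
    rw [h3, hc, map_smul]
  by_cases hc0 : c = 0
  · refine ⟨1, one_ne_zero, fun x => ?_⟩
    have h2 : ∀ v : ι → F, v = 0 := fun v => (s' : (ι → F) ≃ₗ[F] (ι → F)).map_eq_zero_iff.1 (by
      rw [h1, hc0, zero_smul])
    constructor <;> rintro ⟨v, hv, -⟩ <;> exact absurd (h2 v) hv
  · refine ⟨c, hc0, fun x => ?_⟩
    constructor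
    · rintro ⟨v, hv, e⟩
      refine ⟨v, hv, ?_⟩
      rw [h1, mul_smul] at e
      exact smul_right_injective _ hc0 e
    · rintro ⟨v, hv, e⟩
      refine ⟨v, hv, ?_⟩
      rw [h1, mul_smul, e]

theorem tr_toPOmega (hG : Good Q) (α : MulAut (Cfsg.POmega F ⇑Q)) (g : E Q) :
    tr hG α (g : P Q) = pe hG (α (toPOmega hG g)) := by
  obtain ⟨k, rfl⟩ := (oe hG).surjective g
  rw [tr_apply]
  congr 2
  show _ = QuotientGroup.mk (toOmega hG (oe hG k))
  congr 1
  exact ((oe hG).symm_apply_apply k).symm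

theorem pe_toPOmega (hG : Good Q) (g : E Q) : pe hG (toPOmega hG g) = (g : P Q) := by
  have h := tr_toPOmega hG 1 g
  rw [show tr hG 1 = 1 from map_one (MulAut.congr (pe hG))] at h
  exact h.symm

variable {m : ℕ} (W : WFrame (PO Q) m)

theorem hh_mem (x y : Fin m × Bool) (c : F) : hh (toFrame W) x y c ∈ E Q := by
  have h : ∀ t, nX (toFrame W) x y t ∈ E Q := fun t => mul_mem (mul_mem (X_mem W _ _ _) (X_mem W _ _ _)) (X_mem W _ _ _)
  exact mul_mem (h c) (inv_mem (h 1))

theorem HO_σ (a : F) : (HO Q).σ a = a := rfl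

theorem ev_of_frame {g : (ι → F) ≃ₗ[F] (ι → F)} {z : Fin m × Bool} {l : F}
    (h : g ((toFrame W).b z) = l • (toFrame W).b z) : EvF g l :=
  ⟨_, Nodes.WittRGD.b_ne_zero z, h⟩

/-- `t c = (c, c, 1, …; c⁻¹, c⁻¹, 1, …)` -/
noncomputable def t (hm : 3 ≤ m) (c : Fˣ) : E Q :=
  ⟨hh (toFrame W) (⟨0, by omega⟩, true) (⟨1, by omega⟩, true) c, hh_mem W _ _ _⟩

theorem ne01 (hm : 3 ≤ m) (s s' : Bool) : (((⟨0, by omega⟩, s) : Fin m × Bool)).1 ≠ (((⟨1, by omega⟩, s') : Fin m × Bool)).1 := by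
  intro h
  have := congrArg Fin.val h
  simp at this

theorem t_apply (hm : 3 ≤ m) (c : Fˣ) (z : Fin m × Bool) : (t W hm c : (ι → F) ≃ₗ[F] (ι → F)) ((toFrame W).b z) =
    L (⟨0, by omega⟩, true) (⟨1, by omega⟩, true) (c : F) z • (toFrame W).b z :=
  hh_apply HO_σ (ne01 hm _ _) c.ne_zero z

theorem L_cases (x y : Fin m × Bool) (c : F) (z : Fin m × Bool) : L x y c z = c ∨ L x y c z = c⁻¹ ∨ L x y c z = 1 := by
  unfold L
  split_ifs
  · exact Or.inl rfl
  · exact Or.inr (Or.inl rfl)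
  · exact Or.inr (Or.inr rfl)

theorem ev_t (hm : 3 ≤ m) (c : Fˣ) (x : F) :
    EvF (t W hm c : (ι → F) ≃ₗ[F] (ι → F)) x ↔ x = c ∨ x = (c : F)⁻¹ ∨ x = 1 := by
  constructor
  · rintro ⟨v, hv, e⟩
    by_cases hz : ∃ z, polar Q v ((toFrame W).b z) ≠ 0
    · obtain ⟨z, hz⟩ := hz
      have h1 := polar_map (E_le_O (t W hm c).2) v ((toFrame W).b z)
      rw [t_apply, e, polar_smul_left, polar_smul_right, smul_eq_mul, smul_eq_mul, ← mul_assoc] at h1
      have h2 := mul_right_cancel₀ hz (h1.trans (one_mul _).symm)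
      rcases L_cases (⟨0, by omega⟩, true) (⟨1, by omega⟩, true) (c : F) z with h3 | h3 | h3
      · rw [h3] at h2
        exact Or.inr (Or.inl (eq_inv_of_mul_eq_one_left h2))
      · rw [h3] at h2
        left
        rw [eq_inv_of_mul_eq_one_left h2, inv_inv]
      · rw [h3, mul_one] at h2
        exact Or.inr (Or.inr h2)
    · push Not at hz
      have hv0 : v ∈ W.V0 := Nodes.WittU.mem_V0_of_orth W (fun i => hz (i, true)) (fun i => hz (i, false))
      have h1 : (t W hm c : (ι → F) ≃ₗ[F] (ι → F)) v = v := (hh_V0 (ne01 hm _ _) hv0 : _)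
      rw [h1] at e
      right; right
      obtain ⟨i, hi⟩ : ∃ i, v i ≠ 0 := by
        by_contra hcon
        push Not at hcon
        exact hv (funext hcon)
      have h2 := congrFun e i
      rw [Pi.smul_apply, smul_eq_mul] at h2
      exact mul_right_cancel₀ hi (h2.symm.trans (one_mul _).symm)
  · rintro (rfl | rfl | rfl)
    · refine ev_of_frame W (z := (⟨0, by omega⟩, true)) ?_
      rw [t_apply, L_x]
    · refine ev_of_frame W (z := (⟨0, by omega⟩, false)) ?_
      rw [t_apply]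
      exact congrArg (fun s : F => s • (toFrame W).b (⟨0, by omega⟩, false)) (L_nx (ne01 hm _ _) _)
    · refine ev_of_frame W (z := (⟨2, by omega⟩, true)) ?_
      rw [t_apply, L_of_ne]
      · intro h
        have := congrArg Fin.val h
        simp at this
      · intro h
        have := congrArg Fin.val h
        simp at this

/-- `x₀ = (a b, a b⁻¹, 1, …; …)` -/
noncomputable def x0 (hm : 3 ≤ m) (a b : Fˣ) : E Q :=
  ⟨hh (toFrame W) (⟨0, by omega⟩, true) (⟨1, by omega⟩, true) a *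
    hh (toFrame W) (⟨0, by omega⟩, true) (⟨1, by omega⟩, false) b, mul_mem (hh_mem W _ _ _) (hh_mem W _ _ _)⟩

theorem x0_apply (hm : 3 ≤ m) (a b : Fˣ) (z : Fin m × Bool) :
    (x0 W hm a b : (ι → F) ≃ₗ[F] (ι → F)) ((toFrame W).b z) =
      (L (⟨0, by omega⟩, true) (⟨1, by omega⟩, true) (a : F) z *
        L (⟨0, by omega⟩, true) (⟨1, by omega⟩, false) (b : F) z) • (toFrame W).b z := by
  rw [x0, mul_apply', hh_apply HO_σ (ne01 hm _ _) b.ne_zero, map_smul, hh_apply HO_σ (ne01 hm _ _) a.ne_zero, smul_smul, mul_comm]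

theorem ev_x0 (hm : 3 ≤ m) (a b : Fˣ) (x : F) (hx : x = a * b ∨ x = ((a : F) * b)⁻¹ ∨ x = (a : F) * (b : F)⁻¹ ∨
    x = ((a : F) * (b : F)⁻¹)⁻¹) : EvF (x0 W hm a b : (ι → F) ≃ₗ[F] (ι → F)) x := by
  rcases hx with rfl | rfl | rfl | rfl
  · refine ev_of_frame W (z := (⟨0, by omega⟩, true)) ?_
    rw [x0_apply, L_x, L_x]
  · refine ev_of_frame W (z := (⟨0, by omega⟩, false)) ?_
    rw [x0_apply, mul_inv]
    exact congrArg₂ (fun s t : F => (s * t) • (toFrame W).b (⟨0, by omega⟩, false)) (L_nx (ne01 hm _ _) _)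
      (L_nx (ne01 hm _ _) _)
  · refine ev_of_frame W (z := (⟨1, by omega⟩, true)) ?_
    rw [x0_apply]
    exact congrArg₂ (fun s t : F => (s * t) • (toFrame W).b (⟨1, by omega⟩, true)) (L_y _ _ _)
      (L_ny (ne01 hm _ _) _)
  · refine ev_of_frame W (z := (⟨1, by omega⟩, false)) ?_
    rw [x0_apply, mul_inv, inv_inv]
    exact congrArg₂ (fun s t : F => (s * t) • (toFrame W).b (⟨1, by omega⟩, false)) (L_ny (ne01 hm _ _) _)
      (L_y _ _ _)

variable [Finite F] (hG : Good Q) (h7 : 7 ≤ Fintype.card ι) (hP : ∀ α : MulAut (P Q), Pt hG α)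

include h7 hP in
theorem auto_t (hm : 3 ≤ m) (c c' : Fˣ) (σ : Cfsg.POmega F ⇑Q ≃* Cfsg.POmega F ⇑Q)
    (h : σ (toPOmega hG (t W hm c)) = toPOmega hG (t W hm c')) :
    ∃ τ : F ≃+* F, (c' : F) = τ c ∨ (c' : F) * τ c = 1 := by
  have h0 := tr_toPOmega hG σ (t W hm c)
  rw [show (σ : MulAut (Cfsg.POmega F ⇑Q)) (toPOmega hG (t W hm c)) = _ from h, pe_toPOmega] at h0
  obtain ⟨s', τ, h1, h3⟩ := exists_image hG h7 (hP (tr hG σ)) (t W hm c)
  obtain ⟨l, hl, h4⟩ := ev_of_mk_eq hG (h1.symm.trans h0)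
  refine ⟨τ, spec_eq (l := l) (a := τ c) (b := c') (by simp) c'.ne_zero hl fun x => ?_⟩
  obtain ⟨x, rfl⟩ := τ.surjective x
  rw [← ev_t W hm c', h4, h3, ev_t]
  rw [τ.injective.eq_iff, ← map_inv₀, τ.injective.eq_iff, map_eq_one_iff τ τ.injective]

include h7 hP in
theorem auto_x0 (hm : 3 ≤ m) (a b : Fˣ) (h2 : (a : F) * a ≠ 1) (h3 : (b : F) * b ≠ 1) (h4 : ((a : F) * b) * (a * b) ≠ 1)
    (h5 : (a : F) * a ≠ b * b) (c : Fˣ) (σ : Cfsg.POmega F ⇑Q ≃* Cfsg.POmega F ⇑Q) :
    σ (toPOmega hG (t W hm c)) ≠ toPOmega hG (x0 W hm a b) := by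
  intro h
  have h0 := tr_toPOmega hG σ (t W hm c)
  rw [show (σ : MulAut (Cfsg.POmega F ⇑Q)) (toPOmega hG (t W hm c)) = _ from h, pe_toPOmega] at h0
  obtain ⟨s', τ, h6, h7⟩ := exists_image hG h7 (hP (tr hG σ)) (t W hm c)
  obtain ⟨l, hl, h8⟩ := ev_of_mk_eq hG (h0.symm.trans h6)
  have ha0 := a.ne_zero
  have hb0 := b.ne_zero
  have hab : (a : F) * b ≠ 0 := mul_ne_zero ha0 hb0
  have hab' : (a : F) * (b : F)⁻¹ ≠ 0 := mul_ne_zero ha0 (inv_ne_zero hb0)
  have key : ∀ x y : F, y ≠ 0 → x * y ≠ 1 → x ≠ y⁻¹ := by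
    intro x y hy h9 h10
    exact h9 (by rw [h10, inv_mul_cancel₀ hy])
  have e1 : (a : F) * b * (a * (b : F)⁻¹) = a * a := by field_simp
  refine spec_ne (a := (a : F) * b) (b := ((a : F) * b)⁻¹) (c := (a : F) * (b : F)⁻¹) (d := ((a : F) * (b : F)⁻¹)⁻¹)
    (e := τ c) (l := l) (key _ _ hab h4) ?_ (key _ _ hab' (by rwa [e1])) (key _ _ hab (by rwa [mul_comm, e1])).symm
    ?_ (key _ _ hab' ?_) hl fun x hx => ?_
  · intro h9
    exact h3 (by
      have h10 := mul_left_cancel₀ ha0 h9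
      nth_rw 1 [h10]
      exact inv_mul_cancel₀ hb0)
  · intro h9
    have h10 := mul_left_cancel₀ ha0 (inv_injective h9)
    exact h3 (by
      nth_rw 1 [h10]
      exact inv_mul_cancel₀ hb0)
  · intro h9
    apply h5
    field_simp at h9
    rw [pow_two, pow_two] at h9
    exact h9
  have h9 := (h8 x).2 (ev_x0 W hm a b x hx)
  obtain ⟨y, hy⟩ := τ.surjective (l * x)
  rw [← hy] at h9 ⊢
  rw [h7, ev_t] at h9
  rcases h9 with rfl | rfl | rfl
  · exact Or.inl rfl
  · exact Or.inr (Or.inl (map_inv₀ τ _))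
  · exact Or.inr (Or.inr (map_one τ))

end orth

end Cfsg.Agent.H563.XZ.OwnOm

private theorem dce_e792d75dd3f9 : _root_.True := by
  try have : _root_.True := by simp only [_root_.Cfsg.Agent.H563.XZ.OwnOm.L.eq_1]
  try have : _root_.True := by simp only [_root_.Cfsg.Agent.H563.XZ.OwnOm.hh.eq_1]
  try have : _root_.True := by simp only [_root_.Cfsg.Agent.H563.XZ.OwnOm.x0.eq_1]
  exact _root_.True.intro
end

-- part: H796/XZ/LinDefs
section
set_option linter.all false
open scoped Cfsg.Agent.FastGrp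

-- part: H796/BR/FixPar
section
/-!
# Fixed points of a `p`-subgroup of a Levi subgroup on the cosets of a parabolic subgroup (helper796)

`R` a root group datum of `Y` of characteristic `r`, `P ≤ L_{J₀}` a `p`-subgroup, `p ≠ r`, no conjugate of which under
`P_{J₀}` lies in a smaller standard parabolic subgroup.

* `exists_orbit` : if `g⁻¹ P g ≤ P_J` then `g = c k b` with `c ∈ V_{J₀}` centralizing `P`, `b ∈ P_J` and `k` over `w ∈ W`
  with `w⁻¹` mapping the simple roots of `J₀` into the simple roots of `J`.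
-/

set_option autoImplicit false
set_option linter.unusedSectionVars false

namespace Cfsg.Agent.H796.BR

open Cfsg CoxeterSystem Cfsg.Agent.ChevalleyStructure.CoxeterGeom Cfsg.Agent.Tits.Roots Cfsg.Agent.Tits.Core
  Cfsg.Agent.Tits.Exchange Cfsg.Agent.Nodes.Reps Cfsg.Agent.Nodes.BNOf Cfsg.Agent.Nodes.StabComb
  Cfsg.Agent.Nodes.Bruhat Cfsg.Agent.Nodes.OppDec Cfsg.Agent.Nodes.LeviDec Cfsg.Agent.FixOdd.Cox
  Cfsg.Agent.H40.PV

/-- a `p`-group acting by conjugation on a coset of a subgroup of order prime to `p` -/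
theorem exists_cent {Y : Type*} [Group Y] [Finite Y] {p : ℕ} [Fact p.Prime] {P V : Subgroup Y} (hP : IsPGroup p P)
    (hV : ¬ p ∣ Nat.card V) (hn : ∀ x ∈ P, ∀ v ∈ V, x * v * x⁻¹ ∈ V) {u : Y}
    (hu : ∀ x ∈ P, u⁻¹ * (x * u * x⁻¹) ∈ V) : ∃ v ∈ V, ∀ x ∈ P, x * (u * v) = u * v * x := by
  classical
  let Z := {y : Y // u⁻¹ * y ∈ V}
  let act : MulAction P Z :=
    { smul := fun x y => ⟨(x : Y) * y.1 * (x : Y)⁻¹, by
        have h1 : u⁻¹ * ((x : Y) * y.1 * (x : Y)⁻¹) = (u⁻¹ * ((x : Y) * u * (x : Y)⁻¹)) * ((x : Y) * (u⁻¹ * y.1) * (x : Y)⁻¹) := by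
          group
        rw [h1]
        exact mul_mem (hu x x.2) (hn x x.2 _ y.2)⟩
      one_smul := fun y => Subtype.ext (by
        show ((1 : P) : Y) * y.1 * ((1 : P) : Y)⁻¹ = y.1
        rw [Subgroup.coe_one]; group)
      mul_smul := fun a b y => Subtype.ext (by
        show ((a * b : P) : Y) * y.1 * ((a * b : P) : Y)⁻¹ = (a : Y) * ((b : Y) * y.1 * (b : Y)⁻¹) * (a : Y)⁻¹
        rw [Subgroup.coe_mul]; group) }
  have hc : Nat.card Z = Nat.card V :=
    Nat.card_congr ⟨fun y => ⟨u⁻¹ * y.1, y.2⟩, fun v => ⟨u * v.1, by rw [inv_mul_cancel_left]; exact v.2⟩,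
      fun y => Subtype.ext (mul_inv_cancel_left u y.1), fun v => Subtype.ext (inv_mul_cancel_left u v.1)⟩
  obtain ⟨z, hz⟩ := hP.nonempty_fixed_point_of_prime_not_dvd_card Z (by rw [hc]; exact hV)
  refine ⟨u⁻¹ * z.1, z.2, fun x hx => ?_⟩
  have h1 : x * z.1 * x⁻¹ = z.1 := congrArg Subtype.val (hz ⟨x, hx⟩)
  rw [mul_inv_cancel_left]
  exact mul_inv_eq_iff_eq_mul.1 h1

variable {I W Y : Type*} [Fintype I] [DecidableEq I] [Group W] [Group Y] {M : CoxeterMatrix I}
  {cs : CoxeterSystem M W} {A : I → I → ℤ} {h : IsCartan M A} {r : ℕ} {T : Subgroup Y} {n : I → Y}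
  {X : (I → ℤ) → Subgroup Y} (R : RGD cs h r T n X)

theorem eq_sum (x : I → ℤ) : x = ∑ i, x i • sr i := by
  funext k
  rw [Finset.sum_apply, Finset.sum_eq_single k]
  · rw [Pi.smul_apply, sr_self, smul_eq_mul, mul_one]
  · intro i _ hi
    rw [Pi.smul_apply, sr_ne hi.symm, smul_zero]
  · intro hk
    exact absurd (Finset.mem_univ k) hk

/-- `w⁻¹` maps the simple roots of `J₀` into those of `J` -/
def Into (cs : CoxeterSystem M W) (h : IsCartan M A) (J₀ J : Set I) (w : W) : Prop :=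
  ∀ i ∈ J₀, ∃ j ∈ J, rep cs h w (sr j) = sr i

theorem Into.rootsJ {J₀ J : Set I} {w : W} (hw : Into cs h J₀ J w) {x : I → ℤ} (hx : x ∈ RootsJ cs h J₀) :
    rep cs h w⁻¹ x ∈ RootsJ cs h J := by
  refine ⟨hx.1.act _, fun k hk => ?_⟩
  rw [eq_sum x, map_sum, Finset.sum_apply]
  refine Finset.sum_eq_zero fun i _ => ?_
  rw [map_smul, Pi.smul_apply, smul_eq_mul]
  by_cases hi : i ∈ J₀
  · obtain ⟨j, hj, e⟩ := hw i hi
    rw [← e, rep_inv_apply]
    have hjk : j ≠ k := fun e => hk (e ▸ hj)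
    rw [sr_ne hjk.symm, mul_zero]
  · rw [hx.2 i hi, zero_mul]

include R

theorem Into.LJ_le {J₀ J : Set I} {w : W} (hw : Into cs h J₀ J w) {k : Y} (hk : Rp cs R.nsys w k) :
    LJ cs h T X J₀ ≤ cj k (LJ cs h T X J) := by
  refine sup_le ?_ (RGD.Sup_le fun x hx => ?_)
  · calc T = cj k T := (cj_T R hk).symm
      _ ≤ cj k (LJ cs h T X J) := cj_mono k T_le_LJ
  · have h1 := R.conj_rp hk (x := rep cs h w⁻¹ x) (hx.1.act _)
    rw [rep_apply_inv] at h1
    rw [← h1]
    exact cj_mono k (X_le_LJ (hw.rootsJ hx))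

/-- **The orbits of `C(P)` on the fixed points of `P`.** -/
theorem exists_orbit [Finite W] [Finite Y] [Fact r.Prime] (hG : GG cs h T X = ⊤) {p : ℕ} [hp : Fact p.Prime] (hpr : p ≠ r)
    {J₀ J : Set I} {P : Subgroup Y} (hP : IsPGroup p P) (hPL : P ≤ LJ cs h T X J₀)
    (hH : ∀ K ⊆ J₀, (∃ a ∈ PJ cs h T X J₀, ∀ x ∈ P, a⁻¹ * x * a ∈ PJ cs h T X K) → K = J₀)
    {g : Y} (hg : ∀ x ∈ P, g⁻¹ * x * g ∈ PJ cs h T X J) :
    ∃ c ∈ VJ cs h X J₀, (∀ x ∈ P, x * c = c * x) ∧ ∃ w k, Rp cs R.nsys w k ∧ Into cs h J₀ J w ∧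
      ∃ b ∈ PJ cs h T X J, g = c * k * b := by
  obtain ⟨a, ha, b, hb, w, k, hk, e, hL, hR⟩ := exists_min_pair R hG J₀ J g
  -- `a⁻¹ P a ≤ P_K`, `K = J₀ ∩ w J`
  have h1 : ∀ x ∈ P, a⁻¹ * x * a ∈ PJ cs h T X (capL cs J₀ J w) := by
    intro x hx
    refine proj R hk hL hR (mul_mem (mul_mem (inv_mem ha) (LJ_le_PJ (hPL hx))) ha) ?_
    have e1 : k⁻¹ * (a⁻¹ * x * a) * k = b * (g⁻¹ * x * g) * b⁻¹ := by rw [e]; group
    rw [e1]
    exact mul_mem (mul_mem hb (hg x hx)) (inv_mem hb)
  have h2 : capL cs J₀ J w = J₀ := hH _ (fun i hi => hi.1) ⟨a, ha, h1⟩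
  have hlt : ∀ i ∈ J, cs.length w < cs.length (w * cs.simple i) := (isMinR_iff cs).1 hR
  have hInto : Into cs h J₀ J w := by
    intro i hi
    rw [← h2] at hi
    obtain ⟨-, j, hj, e3⟩ := hi
    exact ⟨j, hj, rep_sr_of_comm e3 (hlt j hj)⟩
  have h3 := hInto.LJ_le R hk
  -- `a = u l`
  obtain ⟨l, hl, v, hv, ea⟩ := (mem_PJ R).1 ha
  set u := l * v * l⁻¹ with hu
  have huV : u ∈ VJ cs h X J₀ := (Subgroup.mem_normalizer_iff.1 (LJ_le_normalizer_VJ R J₀ hl) v).1 hv
  have ea' : a = u * l := by rw [ea, hu]; group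
  have hl' : k⁻¹ * l * k ∈ PJ cs h T X J := LJ_le_PJ (mem_cj.1 (h3 hl))
  have eg : g = u * k * ((k⁻¹ * l * k) * b) := by rw [e, ea']; group
  set b' := (k⁻¹ * l * k) * b with hb'
  have hb'J : b' ∈ PJ cs h T X J := mul_mem hl' hb
  -- the coset
  let V' : Subgroup Y := VJ cs h X J₀ ⊓ cj k (PJ cs h T X J)
  have hPk : ∀ x ∈ P, x ∈ cj k (PJ cs h T X J) := fun x hx => cj_mono k LJ_le_PJ (h3 (hPL hx))
  have hnorm : ∀ x ∈ P, ∀ y ∈ VJ cs h X J₀, x * y * x⁻¹ ∈ VJ cs h X J₀ := fun x hx y hy =>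
    (Subgroup.mem_normalizer_iff.1 (LJ_le_normalizer_VJ R J₀ (hPL hx)) y).1 hy
  have hcard : ¬ p ∣ Nat.card V' := by
    obtain ⟨Q, hQ⟩ := Cfsg.Agent.KFacts.RgdAutFacts.exists_sylow R hG
    have h4 : IsPGroup r V' := by
      refine Q.isPGroup'.to_le ?_
      rw [hQ]
      exact inf_le_left.trans (VJ_le_U J₀)
    obtain ⟨m, hm⟩ := IsPGroup.iff_card.1 h4
    rw [hm]
    intro h5
    exact hpr ((Nat.prime_dvd_prime_iff_eq hp.out Fact.out).1 (hp.out.dvd_of_dvd_pow h5))
  obtain ⟨v', hv', hcomm⟩ := exists_cent (u := u) hP hcard (fun x hx y hy =>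
    Subgroup.mem_inf.2 ⟨hnorm x hx y hy.1, Subgroup.mul_mem _ (Subgroup.mul_mem _ (hPk x hx) (Subgroup.mem_inf.1 hy).2)
      (Subgroup.inv_mem _ (hPk x hx))⟩) (fun x hx => by
      refine Subgroup.mem_inf.2 ⟨mul_mem (inv_mem huV) (hnorm x hx u huV), ?_⟩
      have h4 : u⁻¹ * x * u ∈ cj k (PJ cs h T X J) := by
        rw [mem_cj]
        have e4 : k⁻¹ * (u⁻¹ * x * u) * k = b' * (g⁻¹ * x * g) * b'⁻¹ := by rw [eg]; group
        rw [e4]
        exact mul_mem (mul_mem hb'J (hg x hx)) (inv_mem hb'J)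
      have e5 : u⁻¹ * (x * u * x⁻¹) = (u⁻¹ * x * u) * x⁻¹ := by group
      rw [e5]
      exact Subgroup.mul_mem _ h4 (Subgroup.inv_mem _ (hPk x hx)))
  refine ⟨u * v', mul_mem huV hv'.1, hcomm, w, k, hk, hInto, k⁻¹ * v'⁻¹ * k * b', mul_mem ?_ hb'J, ?_⟩
  · exact mem_cj.1 (Subgroup.inv_mem _ (Subgroup.mem_inf.1 hv').2)
  · rw [eg]; group

end Cfsg.Agent.H796.BR
end

-- part: H796/XZ/CntMod
section
/-!
# The number of orbits of `C(P)` on the fixed points of `P`, modulo `p` (helper796, for S4791, S4927)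

`P₀ ≤ P` normalised by the `p`-group `P`, `G₀` a subgroup of order prime to `p` which centralises `P` and has the same orbits as
`C(P₀)` on the fixed points of `P₀`: `cnt P X ≡ cnt P₀ X` modulo `p`.
-/

set_option autoImplicit false

open Subgroup

namespace Cfsg.Agent.H796.XZ

open Cfsg Cfsg.Agent.H145.BR

variable {Y : Type*} [Group Y] {X : Type*} [MulAction Y X]

/-- the fixed points -/
abbrev Fx (P : Subgroup Y) (X : Type*) [MulAction Y X] := {x : X // ∀ g ∈ P, g • x = x}

/-- the orbits of `C(P)` -/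
def fxS (P : Subgroup Y) (X : Type*) [MulAction Y X] : Setoid (Fx P X) where
  r x y := ∃ c ∈ centralizer (P : Set Y), c • x.1 = y.1
  iseqv := by
    refine ⟨fun x => ⟨1, one_mem _, one_smul _ _⟩, ?_, ?_⟩
    · rintro x y ⟨c, hc, e⟩
      exact ⟨c⁻¹, inv_mem hc, by rw [← e, inv_smul_smul]⟩
    · rintro x y z ⟨c, hc, e⟩ ⟨d, hd, e'⟩
      exact ⟨d * c, mul_mem hd hc, by rw [mul_smul, e, e']⟩

theorem cnt_eq (P : Subgroup Y) (X : Type*) [MulAction Y X] : cnt P X = Nat.card (Quotient (fxS P X)) := rfl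

theorem conj_mem_centralizer {P₀ : Subgroup Y} {g c : Y} (hg : ∀ x ∈ P₀, g⁻¹ * x * g ∈ P₀)
    (hc : c ∈ centralizer (P₀ : Set Y)) : g * c * g⁻¹ ∈ centralizer (P₀ : Set Y) := by
  rw [mem_centralizer_iff] at hc ⊢
  intro x hx
  have h1 := hc _ (hg x hx)
  calc x * (g * c * g⁻¹) = g * ((g⁻¹ * x * g) * c) * g⁻¹ := by group
    _ = g * (c * (g⁻¹ * x * g)) * g⁻¹ := by rw [h1]
    _ = g * c * g⁻¹ * x := by group

section

variable {P P₀ G₀ : Subgroup Y} (hn : ∀ g ∈ P, ∀ x ∈ P₀, g⁻¹ * x * g ∈ P₀)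

/-- `P` acts on the fixed points of `P₀` -/
def actF (g : P) (x : Fx P₀ X) : Fx P₀ X := ⟨(g : Y) • x.1, fun y hy => by
  have h1 := x.2 _ (hn g g.2 y hy)
  have h2 : y = (g : Y) * ((g : Y)⁻¹ * y * g) * (g : Y)⁻¹ := by group
  rw [h2, mul_smul, mul_smul, inv_smul_smul, h1]⟩

/-- `P` acts on the orbits -/
def actQ (g : P) : Quotient (fxS P₀ X) → Quotient (fxS P₀ X) :=
  Quotient.map (actF hn g) (by
    rintro x y ⟨c, hc, e⟩
    refine ⟨(g : Y) * c * (g : Y)⁻¹, conj_mem_centralizer (hn g g.2) hc, ?_⟩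
    show ((g : Y) * c * (g : Y)⁻¹) • ((g : Y) • x.1) = (g : Y) • y.1
    rw [mul_smul, mul_smul, inv_smul_smul, e])

/-- the action -/
def mulQ : MulAction P (Quotient (fxS P₀ X)) where
  smul g q := actQ hn g q
  one_smul q := by
    induction q using Quotient.inductionOn with
    | _ x =>
      refine congrArg _ (Subtype.ext ?_)
      show ((1 : P) : Y) • x.1 = x.1
      rw [Subgroup.coe_one, one_smul]
  mul_smul a b q := by
    induction q using Quotient.inductionOn with
    | _ x =>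
      refine congrArg _ (Subtype.ext ?_)
      show ((a * b : P) : Y) • x.1 = (a : Y) • (b : Y) • x.1
      rw [Subgroup.coe_mul, mul_smul]

end

/-- **Reduction to `P₀`.** -/
theorem cnt_modEq [Finite X] [Finite Y] {p : ℕ} [hp : Fact p.Prime] {P P₀ G₀ : Subgroup Y} (hP : IsPGroup p P)
    (h0 : P₀ ≤ P) (hn : ∀ g ∈ P, ∀ x ∈ P₀, g⁻¹ * x * g ∈ P₀) (hc : ∀ x ∈ P, ∀ g ∈ G₀, x * g = g * x)
    (hG : ¬ p ∣ Nat.card G₀)
    (hO : ∀ x : X, (∀ g ∈ P₀, g • x = x) → ∀ c ∈ centralizer (P₀ : Set Y), ∃ g ∈ G₀, g • x = c • x) :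
    cnt P X ≡ cnt P₀ X [MOD p] := by
  classical
  letI := mulQ (X := X) hn
  have hGP : ∀ g ∈ G₀, g ∈ centralizer (P : Set Y) := fun g hg => mem_centralizer_iff.2 fun x hx => hc x hx g hg
  have hle : centralizer (P : Set Y) ≤ centralizer (P₀ : Set Y) := centralizer_le (SetLike.coe_subset_coe.2 h0)
  have h1 := hP.card_modEq_card_fixedPoints (Quotient (fxS P₀ X))
  have h2 : cnt P X = Nat.card (MulAction.fixedPoints P (Quotient (fxS P₀ X))) := by
    rw [cnt_eq]
    let φ : Quotient (fxS P X) → MulAction.fixedPoints P (Quotient (fxS P₀ X)) := Quotient.lift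
      (fun x => ⟨Quotient.mk _ ⟨x.1, fun g hg => x.2 g (h0 hg)⟩, fun g => by
        refine congrArg (Quotient.mk _) (Subtype.ext ?_)
        exact x.2 g g.2⟩)
      (by
        rintro x y ⟨c, hc', e⟩
        exact Subtype.ext (Quotient.sound ⟨c, hle hc', e⟩))
    refine Nat.card_congr (Equiv.ofBijective φ ⟨?_, ?_⟩)
    · intro a b
      induction a using Quotient.inductionOn with
      | _ x =>
      induction b using Quotient.inductionOn with
      | _ y =>
        intro e
        have e1 : Quotient.mk (fxS P₀ X) ⟨x.1, fun g hg => x.2 g (h0 hg)⟩ =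
            Quotient.mk (fxS P₀ X) ⟨y.1, fun g hg => y.2 g (h0 hg)⟩ := congrArg Subtype.val e
        obtain ⟨c, hc', e2⟩ := Quotient.exact e1
        obtain ⟨g, hg, e3⟩ := hO x.1 (fun g hg => x.2 g (h0 hg)) c hc'
        exact Quotient.sound ⟨g, hGP g hg, e3.trans e2⟩
    · rintro ⟨q, hq⟩
      induction q using Quotient.inductionOn with
      | _ x =>
        have h3 : ∀ g ∈ P, ∃ g₀ ∈ G₀, g₀ • x.1 = g • x.1 := by
          intro g hg
          have h4 : Quotient.mk (fxS P₀ X) (actF hn ⟨g, hg⟩ x) = Quotient.mk (fxS P₀ X) x := hq ⟨g, hg⟩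
          obtain ⟨c, hc', e⟩ := Quotient.exact h4.symm
          obtain ⟨g₀, hg₀, e'⟩ := hO x.1 x.2 c hc'
          exact ⟨g₀, hg₀, e'.trans e⟩
        -- `P` acts on the orbit of `G₀`
        let O := {y : X // ∃ g ∈ G₀, g • x.1 = y}
        let actO : MulAction P O :=
          { smul := fun a y => ⟨(a : Y) • y.1, by
              obtain ⟨g, hg, e⟩ := y.2
              obtain ⟨g', hg', e'⟩ := h3 a a.2
              exact ⟨g * g', mul_mem hg hg', by rw [mul_smul, e', ← e, ← mul_smul, ← mul_smul, hc a a.2 g hg]⟩⟩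
            one_smul := fun y => Subtype.ext (by
              show ((1 : P) : Y) • y.1 = y.1
              rw [Subgroup.coe_one, one_smul])
            mul_smul := fun a b y => Subtype.ext (by
              show ((a * b : P) : Y) • y.1 = (a : Y) • (b : Y) • y.1
              rw [Subgroup.coe_mul, mul_smul]) }
        have hcard : ¬ p ∣ Nat.card O := by
          have h5 : Nat.card O = Nat.card (MulAction.orbit G₀ x.1) := by
            refine Nat.card_congr (Equiv.subtypeEquivRight fun y => ?_)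
            constructor
            · rintro ⟨g, hg, e⟩
              exact ⟨⟨g, hg⟩, e⟩
            · rintro ⟨g, e⟩
              exact ⟨g, g.2, e⟩
          rw [h5]
          intro h6
          refine hG (h6.trans ?_)
          rw [← MulAction.index_stabilizer (G := G₀) (x := x.1) |>.trans (Nat.card_coe_set_eq _).symm]
          exact Subgroup.index_dvd_card _
        obtain ⟨y, hy⟩ := hP.nonempty_fixed_point_of_prime_not_dvd_card O hcard
        obtain ⟨g, hg, e⟩ := y.2
        refine ⟨Quotient.mk _ ⟨y.1, fun a ha => congrArg Subtype.val (hy ⟨a, ha⟩)⟩, Subtype.ext ?_⟩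
        exact Quotient.sound ⟨g⁻¹, hle (inv_mem (hGP g hg)), by rw [← e, inv_smul_smul]⟩
  rw [h2]
  exact h1.symm

end Cfsg.Agent.H796.XZ
end

-- part: H796/XZ/LinDefs
section
/-!
# The linear primes: the input (helper796, for S4791, S4927)

* `LinData cs h T X p JA JT P P₀` (any type): `P₀ ≤ L_{JA}` normalised by the Sylow subgroup `P ≥ P₀`, in no smaller parabolic
  subgroup, `P` centralises the root subgroups of `JT`, which generate a group of order prime to `p`, and `C(P₀) ≤ L_{JA ∪ JT}`.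
* type `B_m`, `m = v + e w`, `v < e` : the coordinates `< e w` form `w` blocks of size `e`;
  `JA m e w` : the nodes of `(A_{e-1})^w`; `JT m e w` : the nodes of the tail `B_v`.
-/

set_option autoImplicit false
set_option linter.unusedSectionVars false

open Cfsg Subgroup

namespace Cfsg.Agent.H796.XZ

open CoxeterSystem Cfsg.Agent.ChevalleyStructure.CoxeterGeom Cfsg.Agent.Tits.Roots Cfsg.Agent.Tits.Core
  Cfsg.Agent.Tits.Exchange Cfsg.Agent.Nodes.Reps Cfsg.Agent.Nodes.BNOf Cfsg.Agent.Nodes.StabComb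
  Cfsg.Agent.Nodes.Bruhat Cfsg.Agent.Nodes.OppDec Cfsg.Agent.Nodes.LeviDec

/-- type `B_m` : the nodes of `(A_{e-1})^w` -/
def JA (m e w : ℕ) : Set (Fin m) := {k | (k : ℕ) + 1 < e * w ∧ ¬ e ∣ (k : ℕ) + 1}

/-- type `B_m` : the nodes of the tail -/
def JT (m e w : ℕ) : Set (Fin m) := {k | e * w ≤ (k : ℕ)}

variable {B : Type*} [Fintype B] [DecidableEq B] {M : CoxeterMatrix B} {W Y : Type*} [Group W] [Group Y] (cs : CoxeterSystem M W)
  {A : B → B → ℤ} (h : IsCartan M A) (T : Subgroup Y) (X : (B → ℤ) → Subgroup Y)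

/-- the input -/
structure LinData (p : ℕ) (JA JT : Set B) (P : Sylow p Y) (P₀ : Subgroup Y) : Prop where
  le : P₀ ≤ (P : Subgroup Y)
  conj : ∀ g ∈ (P : Subgroup Y), ∀ x ∈ P₀, g⁻¹ * x * g ∈ P₀
  le_LJ : P₀ ≤ LJ cs h T X JA
  ell : ∀ K ⊆ JA, (∃ a ∈ PJ cs h T X JA, ∀ x ∈ P₀, a⁻¹ * x * a ∈ PJ cs h T X K) → K = JA
  comm : ∀ x ∈ (P : Subgroup Y), ∀ g ∈ RGD.Sup X (RootsJ cs h JT), x * g = g * x
  cop : ¬ p ∣ Nat.card ↥(RGD.Sup X (RootsJ cs h JT))
  cen : centralizer (P₀ : Set Y) ≤ LJ cs h T X (JA ∪ JT)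

end Cfsg.Agent.H796.XZ
end
end

-- part: H914/XR/LinMap
section
set_option linter.all false
open scoped Cfsg.Agent.FastGrp

/-!
# S4791 + S4927, linear primes: transport of `LinData` along an isomorphism (helper914)

`Y ≃* Y'` in different universes; `RGD`, `G1 = ⊤`, the orders of the root groups and `LinData` are transported to the images.
-/

set_option autoImplicit false
set_option linter.unusedSectionVars false

open Cfsg Subgroup

namespace Cfsg.Agent.H914.XR.LinMap

open CoxeterSystem Cfsg.Agent.ChevalleyStructure.CoxeterGeom Cfsg.Agent.Tits.Roots Cfsg.Agent.Tits.Core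
  Cfsg.Agent.Tits.Exchange Cfsg.Agent.Nodes.Reps Cfsg.Agent.Nodes.BNOf Cfsg.Agent.Nodes.StabComb
  Cfsg.Agent.Nodes.Bruhat Cfsg.Agent.Nodes.OppDec Cfsg.Agent.Nodes.LeviDec Cfsg.Agent.H796.XZ

variable {B : Type*} [Fintype B] [DecidableEq B] {M : CoxeterMatrix B} {W Y Y' : Type*} [Group W] [Group Y] [Group Y']
  (cs : CoxeterSystem M W) {A : B → B → ℤ} (h : IsCartan M A) {T : Subgroup Y} {X : (B → ℤ) → Subgroup Y} (f : Y →* Y')

theorem Sup_map (S : Set (B → ℤ)) : RGD.Sup (fun x => (X x).map f) S = (RGD.Sup X S).map f := by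
  unfold RGD.Sup
  rw [Subgroup.map_iSup]

theorem LJ_map (J : Set B) : LJ cs h (T.map f) (fun x => (X x).map f) J = (LJ cs h T X J).map f := by
  unfold LJ
  rw [Sup_map, Subgroup.map_sup]

theorem PJ_map (J : Set B) : PJ cs h (T.map f) (fun x => (X x).map f) J = (PJ cs h T X J).map f := by
  unfold PJ VJ
  rw [LJ_map, Sup_map, Subgroup.map_sup]

/-- transport of `G1 = ⊤` -/
theorem Sup_top (hf : Function.Surjective f) {S : Set (B → ℤ)} (hG : RGD.Sup X S = ⊤) :
    RGD.Sup (fun x => (X x).map f) S = ⊤ := by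
  rw [Sup_map, hG, Subgroup.map_top_of_surjective _ hf]

/-- transport of the root group datum -/
theorem rgd_map {r : ℕ} {n : B → Y} (R : RGD cs h r T n X) (e : Y ≃* Y') :
    RGD cs h r (T.map (e : Y →* Y')) (fun i => e (n i)) (fun x => (X x).map (e : Y →* Y')) :=
  Cfsg.Agent.Nodes.RGDLib.rgd_map_of_injective R (e : Y →* Y') e.injective

variable {p : ℕ} [Fact p.Prime] [Finite Y] (e : Y ≃* Y')

/-- the image of a Sylow subgroup -/
noncomputable def sylMap (P : Sylow p Y) : Sylow p Y' := P.mapSurjective (f := (e : Y →* Y')) e.surjective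

theorem coe_sylMap (P : Sylow p Y) : (sylMap e P : Subgroup Y') = (P : Subgroup Y).map (e : Y →* Y') := rfl

/-- **Transport of `LinData`** -/
theorem linData_map {JA JT : Set B} {P : Sylow p Y} {P₀ : Subgroup Y} (H : LinData cs h T X p JA JT P P₀) :
    LinData cs h (T.map (e : Y →* Y')) (fun x => (X x).map (e : Y →* Y')) p JA JT (sylMap e P) (P₀.map (e : Y →* Y')) where
  le := by
    rw [coe_sylMap]
    exact Subgroup.map_mono H.le
  conj := by
    rintro _ ⟨g, hg, rfl⟩ _ ⟨x, hx, rfl⟩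
    exact ⟨g⁻¹ * x * g, H.conj g hg x hx, by simp⟩
  le_LJ := by
    rw [LJ_map]
    exact Subgroup.map_mono H.le_LJ
  ell := by
    rintro K hK ⟨a, ha, h1⟩
    rw [PJ_map] at ha
    obtain ⟨a, ha, rfl⟩ := ha
    refine H.ell K hK ⟨a, ha, fun x hx => ?_⟩
    have h2 := h1 _ ⟨x, hx, rfl⟩
    rw [PJ_map] at h2
    obtain ⟨y, hy, h3⟩ := h2
    have h4 : (e : Y →* Y') y = (e : Y →* Y') (a⁻¹ * x * a) := by
      rw [h3, map_mul, map_mul, map_inv]
    have h5 : y = a⁻¹ * x * a := e.injective h4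
    rwa [h5] at hy
  comm := by
    rintro _ ⟨x, hx, rfl⟩ g hg
    rw [Sup_map] at hg
    obtain ⟨g, hg, rfl⟩ := hg
    rw [← map_mul, ← map_mul, H.comm x hx g hg]
  cop := by
    rw [Sup_map, Subgroup.card_map_of_injective e.injective]
    exact H.cop
  cen := by
    intro y hy
    obtain ⟨y, rfl⟩ := e.surjective y
    rw [LJ_map]
    refine ⟨y, H.cen ?_, rfl⟩
    rw [Subgroup.mem_centralizer_iff] at hy ⊢
    intro x hx
    apply e.injective
    rw [map_mul, map_mul]
    exact hy _ ⟨x, hx, rfl⟩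

end Cfsg.Agent.H914.XR.LinMap
end

-- part: H236/XZ/Into
section
set_option linter.all false
open scoped Cfsg.Agent.FastGrp

-- part: H796/XZ/LinOrb
section
/-!
# The linear primes: the orbits (helper796, for S4791, S4927)

`LinData cs h T X p JA JT P P₀`, `JA` and `JT` orthogonal. The number of the orbits of `C(P)` on the fixed points of the Sylow
subgroup `P` on `Y / P_K` is congruent modulo `p` to the number of the double cosets of `W_{JA ∪ JT}` and `W_K` on the elements
`w` with `Into cs h JA K w` (any type).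
-/

set_option autoImplicit false
set_option linter.unusedSectionVars false

open Cfsg Subgroup

namespace Cfsg.Agent.H796.XZ

open CoxeterSystem Cfsg.Agent.ChevalleyStructure.CoxeterGeom Cfsg.Agent.Tits.Roots Cfsg.Agent.Tits.Core
  Cfsg.Agent.Tits.Exchange Cfsg.Agent.Nodes.Reps Cfsg.Agent.Nodes.BNOf Cfsg.Agent.Nodes.StabComb
  Cfsg.Agent.Nodes.Bruhat Cfsg.Agent.Nodes.OppDec Cfsg.Agent.Nodes.LeviDec Cfsg.Agent.H53.HC
  Cfsg.Agent.H145.BR Cfsg.Agent.H796.BR

/-- the classes of a relation given by a surjective function -/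
theorem card_quot_of {α β : Type*} {r : α → α → Prop} {f : α → β} (hf : Function.Surjective f)
    (h : ∀ a b, f a = f b ↔ r a b) : Nat.card (Quot r) = Nat.card β := by
  refine Nat.card_congr (Equiv.ofBijective (Quot.lift f fun a b hab => (h a b).2 hab) ⟨?_, fun b => ?_⟩)
  · intro a b
    induction a using Quot.inductionOn with
    | _ x =>
    induction b using Quot.inductionOn with
    | _ y => exact fun e => Quot.sound ((h x y).1 e)
  · obtain ⟨a, rfl⟩ := hf b
    exact ⟨Quot.mk _ a, rfl⟩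

variable {I W Y : Type*} [Fintype I] [DecidableEq I] [Group W] [Group Y] {M : CoxeterMatrix I}
  {cs : CoxeterSystem M W} {A : I → I → ℤ} {h : IsCartan M A} {r : ℕ} {T : Subgroup Y} {n : I → Y}
  {X : (I → ℤ) → Subgroup Y} (R : RGD cs h r T n X)

section

include R

/-- the product of a cell of `W_J` and of the cell of `w` -/
theorem cell_mul_left {J : Set I} {u w : W} {a b : Y} (hu : u ∈ WJ cs J) (ha : Cell R.nsys cs h X u a)
    (hb : Cell R.nsys cs h X w b) : ∃ u' ∈ WJ cs J, Cell R.nsys cs h X (u' * w) (a * b) := by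
  obtain ⟨ω, hω, rfl⟩ := exists_word_of_mem_WJ cs hu
  clear hu
  induction ω generalizing a with
  | nil =>
    rw [wordProd_nil] at ha
    exact ⟨1, one_mem _, by rw [one_mul]; exact hb.mul_left ha.mem_of_one⟩
  | cons i ω ih =>
    have hω' : ∀ j ∈ ω, j ∈ J := fun j hj => hω j (by simp [hj])
    rw [wordProd_cons] at ha
    obtain ⟨a₁, ha₁, k, hk, a₂, ha₂, rfl⟩ := ha
    have hk2 : Rp cs R.nsys (cs.wordProd ω) ((n i)⁻¹ * k) := by
      have := (rp_simple cs R.nsys i).inv.mul hk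
      rwa [inv_mul_cancel_left] at this
    obtain ⟨u', hu', h1⟩ := ih hω' ((cell_of_rp hk2).mul_right ha₂)
    have h2 : Cell R.nsys cs h X (cs.simple i) (a₁ * n i) := (cell_of_rp (rp_simple cs R.nsys i)).mul_left ha₁
    have e : a₁ * k * a₂ * b = (a₁ * n i) * ((n i)⁻¹ * k * a₂ * b) := by group
    rw [e]
    rcases Cell.simple_mul R h2 h1 with h3 | ⟨-, h3⟩
    · exact ⟨cs.simple i * u', mul_mem (simple_mem_WJ cs (hω i (by simp))) hu', by rw [mul_assoc]; exact h3⟩
    · exact ⟨u', hu', h3⟩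

/-- the product of the cell of `w` and of a cell of `W_J` -/
theorem cell_mul_right {J : Set I} {u w : W} {a b : Y} (hu : u ∈ WJ cs J) (ha : Cell R.nsys cs h X w a)
    (hb : Cell R.nsys cs h X u b) : ∃ u' ∈ WJ cs J, Cell R.nsys cs h X (w * u') (a * b) := by
  obtain ⟨u', hu', h1⟩ := cell_mul_left R (inv_mem hu) hb.inv ha.inv
  refine ⟨u'⁻¹, inv_mem hu', ?_⟩
  have h2 := h1.inv
  have e1 : (u' * w⁻¹)⁻¹ = w * u'⁻¹ := by group
  have e2 : (b⁻¹ * a⁻¹)⁻¹ = a * b := by group
  rwa [e1, e2] at h2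

/-- **The double cosets of parabolic subgroups.** -/
theorem mem_double [Finite W] {J K : Set I} {w w' : W} {k k' c b : Y} (hk : Rp cs R.nsys w k) (hk' : Rp cs R.nsys w' k')
    (hc : c ∈ PJ cs h T X J) (hb : b ∈ PJ cs h T X K) (e : k' = c * k * b) :
    ∃ u ∈ WJ cs J, ∃ v ∈ WJ cs K, w' = u * w * v := by
  obtain ⟨u, hu, h1⟩ := (mem_PJ_iff_cell R).1 hc
  obtain ⟨v, hv, h2⟩ := (mem_PJ_iff_cell R).1 hb
  obtain ⟨u', hu', h3⟩ := cell_mul_left R hu h1 (cell_of_rp hk)
  obtain ⟨v', hv', h4⟩ := cell_mul_right R hv h3 h2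
  refine ⟨u', hu', v', hv', ?_⟩
  rw [← e] at h4
  exact Cell.unique R (cell_of_rp hk') h4

/-- the Levi subgroup of the union of orthogonal sets of nodes -/
theorem exists_mul_LJ [Finite W] {JA JT : Set I} (ho : Orth A JA JT) {c : Y} (hc : c ∈ LJ cs h T X (JA ∪ JT)) :
    ∃ g ∈ RGD.Sup X (RootsJ cs h JT), ∃ l ∈ LJ cs h T X JA, c = g * l := by
  have hle : LJ cs h T X JA ≤ Subgroup.normalizer (RGD.Sup X (RootsJ cs h JT) : Set Y) := by
    refine sup_le (R.T_le_normalizer fun x hx => hx.1) ?_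
    intro a ha
    rw [Subgroup.mem_normalizer_iff]
    intro b
    have hcm := ho.comm R a ha
    have hcm' := ho.comm R a⁻¹ (inv_mem ha)
    constructor
    · intro hb
      rw [hcm b hb, mul_inv_cancel_right]
      exact hb
    · intro hb
      have h1 := hcm' _ hb
      have e : b = a⁻¹ * (a * b * a⁻¹) * a := by group
      rw [e, h1, inv_mul_cancel_right]
      exact hb
  have h1 : c ∈ LJ cs h T X JA ⊔ RGD.Sup X (RootsJ cs h JT) := by
    refine (sup_le (le_trans T_le_LJ le_sup_left) (RGD.Sup_le fun x hx => ?_) : LJ cs h T X (JA ∪ JT) ≤ _) hc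
    rcases ho.roots hx with hx | hx
    · exact le_trans (X_le_LJ hx) le_sup_left
    · exact le_trans (RGD.le_Sup hx) le_sup_right
  rw [sup_comm] at h1
  have h2 : c ∈ ((RGD.Sup X (RootsJ cs h JT) ⊔ LJ cs h T X JA : Subgroup Y) : Set Y) := h1
  rw [Subgroup.coe_mul_of_right_le_normalizer_left _ _ hle] at h2
  obtain ⟨g, hg, l, hl, rfl⟩ := h2
  exact ⟨g, hg, l, hl, rfl⟩

/-- `L_{JA}` fixes the cosets over `w` -/
theorem smul_coset {JA K : Set I} {w : W} (hw : Into cs h JA K w) {k : Y} (hk : Rp cs R.nsys w k) {l : Y}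
    (hl : l ∈ LJ cs h T X JA) : l • ((k : Y) : Y ⧸ PJ cs h T X K) = (k : Y ⧸ PJ cs h T X K) := by
  have h1 := LJ_le_PJ (mem_cj.1 (hw.LJ_le R hk hl))
  rw [MulAction.Quotient.smul_coe, smul_eq_mul]
  refine (QuotientGroup.eq.2 ?_).symm
  have e : k⁻¹ * (l * k) = k⁻¹ * l * k := by group
  rw [e]
  exact h1

end

/-- the relation of the double cosets -/
def DC (cs : CoxeterSystem M W) (h : IsCartan M A) (JA JT K : Set I) (a b : {w : W // Into cs h JA K w}) : Prop :=
  ∃ u ∈ WJ cs (JA ∪ JT), ∃ v ∈ WJ cs K, b.1 = u * a.1 * v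

variable {p : ℕ} {JA JT : Set I} {P : Sylow p Y} {P₀ : Subgroup Y}

include R

/-- the fixed points of `P₀` -/
theorem LinData.exists_fix [Finite W] [Finite Y] [Fact r.Prime] (hG : GG cs h T X = ⊤) [hp : Fact p.Prime] (hpr : p ≠ r)
    (D : LinData cs h T X p JA JT P P₀) {K : Set I} {x : Y ⧸ PJ cs h T X K} (hx : ∀ g ∈ P₀, g • x = x) :
    ∃ c ∈ centralizer (P₀ : Set Y), ∃ w k, Rp cs R.nsys w k ∧ Into cs h JA K w ∧ x = c • (k : Y ⧸ PJ cs h T X K) := by
  obtain ⟨g, rfl⟩ := QuotientGroup.mk_surjective x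
  have h1 : ∀ x ∈ P₀, g⁻¹ * x * g ∈ PJ cs h T X K := by
    intro x hx'
    have h2 := hx x hx'
    rw [MulAction.Quotient.smul_coe, smul_eq_mul] at h2
    have h3 := QuotientGroup.eq.1 h2.symm
    have e : g⁻¹ * (x * g) = g⁻¹ * x * g := by group
    rwa [e] at h3
  obtain ⟨c, -, hc, w, k, hk, hw, b, hb, e⟩ := exists_orbit R hG hpr (P.isPGroup'.to_le D.le) D.le_LJ D.ell h1
  refine ⟨c, mem_centralizer_iff.2 fun x hx' => hc x hx', w, k, hk, hw, ?_⟩
  rw [MulAction.Quotient.smul_coe, smul_eq_mul]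
  refine QuotientGroup.eq.2 ?_
  have e1 : g⁻¹ * (c * k) = b⁻¹ := by rw [e]; group
  rw [e1]
  exact inv_mem hb

/-- the centralizer of `P₀` acts on the fixed points as the root subgroups of `JT` do -/
theorem LinData.orb [Finite W] [Finite Y] [Fact r.Prime] (hG : GG cs h T X = ⊤) [hp : Fact p.Prime] (hpr : p ≠ r)
    (ho : Orth A JA JT) (D : LinData cs h T X p JA JT P P₀) {K : Set I} {x : Y ⧸ PJ cs h T X K}
    (hx : ∀ g ∈ P₀, g • x = x) {c : Y} (hc : c ∈ centralizer (P₀ : Set Y)) :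
    ∃ g ∈ RGD.Sup X (RootsJ cs h JT), g • x = c • x := by
  obtain ⟨c₀, hc₀, w, k, hk, hw, rfl⟩ := D.exists_fix R hG hpr hx
  obtain ⟨g₀, hg₀, l₀, hl₀, e₀⟩ := exists_mul_LJ R ho (D.cen hc₀)
  obtain ⟨g₁, hg₁, l₁, hl₁, e₁⟩ := exists_mul_LJ R ho (D.cen (mul_mem hc hc₀))
  refine ⟨g₁ * g₀⁻¹, mul_mem hg₁ (inv_mem hg₀), ?_⟩
  rw [← mul_smul c, e₁, mul_smul g₁ l₁, smul_coset R hw hk hl₁, e₀, mul_smul g₀ l₀, smul_coset R hw hk hl₀,
    mul_smul, inv_smul_smul]

/-- **The fixed points of `P₀`.** -/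
theorem LinData.cnt_eq_card [Finite W] [Finite Y] [Fact r.Prime] (hG : GG cs h T X = ⊤) [hp : Fact p.Prime] (hpr : p ≠ r)
    (ho : Orth A JA JT) (D : LinData cs h T X p JA JT P P₀) (K : Set I) :
    cnt P₀ (Y ⧸ PJ cs h T X K) = Nat.card (Quot (DC cs h JA JT K)) := by
  classical
  choose k hk using fun w : W => exists_rp cs R.nsys w
  have hfix : ∀ a : {w : W // Into cs h JA K w}, ∀ g ∈ P₀,
      g • ((k a.1 : Y) : Y ⧸ PJ cs h T X K) = (k a.1 : Y ⧸ PJ cs h T X K) :=
    fun a g hg => smul_coset R a.2 (hk a.1) (D.le_LJ hg)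
  rw [cnt_eq]
  symm
  refine card_quot_of (f := fun a => Quotient.mk (fxS P₀ (Y ⧸ PJ cs h T X K))
    ⟨((k a.1 : Y) : Y ⧸ PJ cs h T X K), hfix a⟩) ?_ ?_
  · intro q
    induction q using Quotient.inductionOn with
    | _ x =>
      obtain ⟨c, hc, w, k', hk', hw, e⟩ := D.exists_fix R hG hpr x.2
      refine ⟨⟨w, hw⟩, Quotient.sound ⟨c, hc, ?_⟩⟩
      rw [e]
      congr 1
      refine QuotientGroup.eq.2 ?_
      exact B_le_PJ (RGD.T_le_B ((hk w).unique hk'))
  · intro a b
    constructor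
    · intro e
      obtain ⟨c, hc, e1⟩ := Quotient.exact e
      have e2 : c • ((k a.1 : Y) : Y ⧸ PJ cs h T X K) = (k b.1 : Y ⧸ PJ cs h T X K) := e1
      rw [MulAction.Quotient.smul_coe, smul_eq_mul] at e2
      have h3 := QuotientGroup.eq.1 e2
      exact mem_double R (hk a.1) (hk b.1) (LJ_le_PJ (D.cen hc)) h3 (by group)
    · rintro ⟨u, hu, v, hv, e⟩
      obtain ⟨g, hg, l, hl, e1⟩ := exists_mul_LJ R ho (rp_mem_LJ R hu (hk u))
      refine Quotient.sound ⟨g, mem_centralizer_iff.2 fun x hx => D.comm x (D.le hx) g hg, ?_⟩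
      show g • ((k a.1 : Y) : Y ⧸ PJ cs h T X K) = (k b.1 : Y ⧸ PJ cs h T X K)
      have h1 : g • ((k a.1 : Y) : Y ⧸ PJ cs h T X K) = k u • ((k a.1 : Y) : Y ⧸ PJ cs h T X K) := by
        rw [e1, mul_smul, smul_coset R a.2 (hk a.1) hl]
      rw [h1, MulAction.Quotient.smul_coe, smul_eq_mul]
      refine QuotientGroup.eq.2 ?_
      have h2 : Rp cs R.nsys b.1 (k u * k a.1 * k v) := by
        rw [e]
        exact ((hk u).mul (hk a.1)).mul (hk v)
      have h3 := h2.unique (hk b.1)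
      have e3 : (k u * k a.1)⁻¹ * k b.1 = k v * ((k u * k a.1 * k v)⁻¹ * k b.1) := by group
      rw [e3]
      exact mul_mem (LJ_le_PJ (rp_mem_LJ R hv (hk v))) (B_le_PJ (RGD.T_le_B h3))

/-- **The number of the orbits, modulo `p`.** -/
theorem LinData.cnt_modEq [Finite W] [Finite Y] [Fact r.Prime] (hG : GG cs h T X = ⊤) [hp : Fact p.Prime] (hpr : p ≠ r)
    (ho : Orth A JA JT) (D : LinData cs h T X p JA JT P P₀) (K : Set I) :
    cnt (P : Subgroup Y) (Y ⧸ PJ cs h T X K) ≡ Nat.card (Quot (DC cs h JA JT K)) [MOD p] := by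
  rw [← D.cnt_eq_card R hG hpr ho K]
  exact XZ.cnt_modEq P.isPGroup' D.le D.conj D.comm D.cop fun x hx c hc => D.orb R hG hpr ho hx hc

end Cfsg.Agent.H796.XZ
end

-- part: H236/XZ/Into
section
/-!
# From good elements to elements mapping simple roots to simple roots (helper236, for S4791 / S4927)

* `exists_into` : if `w⁻¹ Φ_J` is supported on `K` then the double coset of `W_J`, `W_K` of `w` contains an element `x` with
  `Into cs h J K x` (any type);
* `card_quot_DC` : type `B_n` : the number of classes of helper796's `DC` is the number of chains of helper636.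
-/

set_option autoImplicit false
set_option linter.unusedSectionVars false

namespace Cfsg.Agent.H236.XZ

open CoxeterSystem Cfsg.Agent.ChevalleyStructure.CoxeterGeom Cfsg.Agent.Tits.Roots Cfsg.Agent.Tits.Core
  Cfsg.Agent.H796.BR Cfsg.Agent.H796.XZ
open Cfsg.Agent.H636.LIN (Sg Q dm nch chs mem_chs)

section general

variable {I W : Type*} [Fintype I] [DecidableEq I] [Group W] {M : CoxeterMatrix I} (cs : CoxeterSystem M W)
  {A : I → I → ℤ} (h : IsCartan M A)

/-- an element of minimal length in a double coset -/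
theorem exists_min_double (J K : Set I) (w : W) : ∃ a ∈ WJ cs J, ∃ b ∈ WJ cs K,
    (∀ i ∈ J, cs.length (a * w * b) < cs.length (cs.simple i * (a * w * b))) ∧
    ∀ k ∈ K, cs.length (a * w * b) < cs.length (a * w * b * cs.simple k) := by
  classical
  have hex : ∃ m : ℕ, ∃ a ∈ WJ cs J, ∃ b ∈ WJ cs K, cs.length (a * w * b) = m :=
    ⟨_, 1, one_mem _, 1, one_mem _, rfl⟩
  obtain ⟨a, ha, b, hb, hm⟩ := Nat.find_spec hex
  refine ⟨a, ha, b, hb, fun i hi => ?_, fun k hk => ?_⟩
  · by_contra hlt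
    have h1 := cs.length_simple_mul (a * w * b) i
    have h2 : cs.length (cs.simple i * (a * w * b)) < Nat.find hex := by omega
    refine Nat.find_min hex h2 ⟨cs.simple i * a, mul_mem (Subgroup.subset_closure ⟨i, hi, rfl⟩) ha, b, hb, ?_⟩
    rw [mul_assoc (cs.simple i), mul_assoc (cs.simple i)]
  · by_contra hlt
    have h1 := cs.length_mul_simple (a * w * b) k
    have h2 : cs.length (a * w * b * cs.simple k) < Nat.find hex := by omega
    refine Nat.find_min hex h2 ⟨a, ha, b * cs.simple k, mul_mem hb (Subgroup.subset_closure ⟨k, hk, rfl⟩), ?_⟩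
    rw [← mul_assoc]

/-- **A double coset of `W_J`, `W_K` with `w⁻¹ Φ_J` supported on `K` contains an element `x` mapping simple roots of `K` to
the simple roots of `J`.** -/
theorem exists_into {J K : Set I} {w : W} (hw : ∀ j ∈ J, ∀ t, t ∉ K → rep cs h w⁻¹ (sr j) t = 0) :
    ∃ a ∈ WJ cs J, ∃ b ∈ WJ cs K, Into cs h J K (a * w * b) := by
  obtain ⟨a, ha, b, hb, h1, h2⟩ := exists_min_double cs J K w
  refine ⟨a, ha, b, hb, fun i hi => ?_⟩
  set x := a * w * b with hx
  -- positivity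
  have h3 : 0 ≤ rep cs h x⁻¹ (sr i) := by
    refine nonneg_of_lt cs h x⁻¹ i ?_
    have h4 := h1 i hi
    have h5 : (cs.simple i * x)⁻¹ = x⁻¹ * cs.simple i := by rw [mul_inv_rev, cs.inv_simple]
    rw [← cs.length_inv x, ← cs.length_inv (cs.simple i * x), h5] at h4
    exact h4
  have h4 : ∀ k ∈ K, 0 ≤ rep cs h x (sr k) := fun k hk => nonneg_of_lt cs h x k (h2 k hk)
  -- support
  have hw' : ∀ y : I → ℤ, (∀ t, t ∉ J → y t = 0) → ∀ t, t ∉ K → rep cs h w⁻¹ y t = 0 := by
    intro y hy t ht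
    rw [eq_sum y, map_sum, Finset.sum_apply]
    refine Finset.sum_eq_zero fun j _ => ?_
    rw [map_smul, Pi.smul_apply, smul_eq_mul]
    by_cases hj : j ∈ J
    · rw [hw j hj t ht, mul_zero]
    · rw [hy j hj, zero_mul]
  have h5 : ∀ t, t ∉ K → rep cs h x⁻¹ (sr i) t = 0 := by
    intro t ht
    have e : x⁻¹ = b⁻¹ * (w⁻¹ * a⁻¹) := by rw [hx]; group
    rw [e, rep_mul_apply, rep_mul_apply, Cfsg.Agent.Tits.RootComb.rep_apply_of_mem cs h (inv_mem hb) _ ht]
    refine hw' _ (fun s hs => ?_) t ht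
    rw [Cfsg.Agent.Tits.RootComb.rep_apply_of_mem cs h (inv_mem ha) _ hs]
    exact sr_ne (fun e => hs (e ▸ hi))
  -- `α_i = ∑ c_k x α_k`
  set c := rep cs h x⁻¹ (sr i) with hc
  have h6 : rep cs h x c = sr i := by rw [hc, rep_apply_inv]
  have h7 : ∀ l, ∑ k, c k * rep cs h x (sr k) l = (sr i : I → ℤ) l := by
    intro l
    rw [← h6]
    conv_rhs => rw [eq_sum c, map_sum, Finset.sum_apply]
    exact Finset.sum_congr rfl fun k _ => by rw [map_smul, Pi.smul_apply, smul_eq_mul]
  have h8 : ∀ k l, 0 ≤ c k * rep cs h x (sr k) l := by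
    intro k l
    by_cases hk : k ∈ K
    · exact mul_nonneg (h3 k) (h4 k hk l)
    · rw [h5 k hk, zero_mul]
  have hc0 : c ≠ 0 := by
    intro e
    rw [e, map_zero] at h6
    have := congrFun h6 i
    rw [sr_self] at this
    exact zero_ne_one this
  obtain ⟨k, hk⟩ := Function.ne_iff.1 hc0
  have hkK : k ∈ K := by
    by_contra hkK
    exact hk (h5 k hkK)
  refine ⟨k, hkK, ?_⟩
  refine ((isRoot_sr cs h k).act x).eq_sr (h4 k hkK) i fun l hl => ?_
  have h9 := h7 l
  rw [sr_ne hl] at h9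
  have h10 := (Finset.sum_eq_zero_iff_of_nonneg fun k _ => h8 k l).1 h9 k (Finset.mem_univ k)
  exact (mul_eq_zero.1 h10).resolve_left hk

/-- the converse -/
theorem Into.supp {J K : Set I} {w : W} (hw : Into cs h J K w) : ∀ j ∈ J, ∀ t, t ∉ K → rep cs h w⁻¹ (sr j) t = 0 := by
  intro j hj t ht
  obtain ⟨k, hk, e⟩ := hw j hj
  rw [← e, rep_inv_apply]
  exact sr_ne fun e => ht (e ▸ hk)

/-- a set of representatives for the classes of `DC` from one for the classes of the elements with the support condition -/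
theorem card_quot_DC_of {JA JT K : Set I} {γ : Type*}
    (f : {w : W // ∀ j ∈ JA, ∀ t, t ∉ K → rep cs h w⁻¹ (sr j) t = 0} → γ) (hf : Function.Surjective f)
    (hk : ∀ x y, f x = f y ↔ ∃ u ∈ WJ cs (JA ∪ JT), ∃ v ∈ WJ cs K, y.1 = u * x.1 * v) :
    Nat.card (Quot (DC cs h JA JT K)) = Nat.card γ := by
  let g : {w : W // Into cs h JA K w} → {w : W // ∀ j ∈ JA, ∀ t, t ∉ K → rep cs h w⁻¹ (sr j) t = 0} :=
    fun w => ⟨w.1, Into.supp cs h w.2⟩
  have hfg : Function.Surjective (f ∘ g) := by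
    intro c
    obtain ⟨w, rfl⟩ := hf c
    obtain ⟨a, ha, b, hb, hi⟩ := exists_into cs h w.2
    refine ⟨⟨a * w.1 * b, hi⟩, ((hk _ _).2 ?_).symm⟩
    exact ⟨a, Subgroup.closure_mono (Set.image_mono Set.subset_union_left) ha, b, hb, rfl⟩
  exact card_quot_of hfg fun x y => hk _ _

end general

section typeB

open Cfsg.Agent.Nodes.TypeC

variable {n : ℕ} {W : Type*} [Group W] (cs : CoxeterSystem (CoxeterMatrix.B n) W)

/-- **(L-b), final form**: type `B_n`, `n = v + e w`. -/
theorem card_quot_DC {e w v : ℕ} (he : 0 < e) (hn : v + e * w = n) (U : Finset (Fin n)) :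
    (Nat.card (Quot (DC cs (isCartan n) (JA n e w) (JT n e w) ((Uᶜ : Finset (Fin n)) : Set (Fin n)))) : ℤ) =
      nch (dm (v := v) fun _ : Fin w => e) U := by
  have hU : ((Uᶜ : Finset (Fin n)) : Set (Fin n)) = (U : Set (Fin n))ᶜ := Finset.coe_compl U
  rw [hU]
  have hJA : JA n e w = {k : Fin n | (k : ℕ) < e * w ∧ ¬ e ∣ (k : ℕ) + 1} := by
    ext k
    constructor
    · rintro ⟨h1, h2⟩
      exact ⟨by omega, h2⟩
    · rintro ⟨h1, h2⟩
      have h4 : (k : ℕ) + 1 ≠ e * w := fun h5 => h2 (h5 ▸ Dvd.intro w rfl)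
      exact ⟨by omega, h2⟩
  have hJ : JA n e w ∪ JT n e w = {k : Fin n | e * w ≤ (k : ℕ) ∨ ¬ e ∣ (k : ℕ) + 1} := by
    rw [hJA]
    ext k
    constructor
    · rintro (⟨h1, h2⟩ | h1)
      · exact Or.inr h2
      · exact Or.inl h1
    · rintro (h1 | h1)
      · exact Or.inr h1
      · rcases le_or_gt (e * w) (k : ℕ) with h2 | h2
        · exact Or.inr h2
        · exact Or.inl ⟨h2, h1⟩
  -- the quotient by double cosets of the elements with the support condition
  let α := {x : W // ∀ j ∈ JA n e w, ∀ t, t ∉ (U : Set (Fin n))ᶜ → rep cs (isCartan n) x⁻¹ (sr j) t = 0}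
  let r : α → α → Prop := fun x y => ∃ u ∈ WJ cs (JA n e w ∪ JT n e w), ∃ v ∈ WJ cs (U : Set (Fin n))ᶜ, y.1 = u * x.1 * v
  have hr : Equivalence r :=
    { refl := fun x => ⟨1, one_mem _, 1, one_mem _, by rw [one_mul, mul_one]⟩
      symm := by
        rintro x y ⟨u, hu, v, hv, e⟩
        exact ⟨u⁻¹, inv_mem hu, v⁻¹, inv_mem hv, by rw [e]; group⟩
      trans := by
        rintro x y z ⟨u, hu, v, hv, e⟩ ⟨u', hu', v', hv', e'⟩
        exact ⟨u' * u, mul_mem hu' hu, v * v', mul_mem hv hv', by rw [e', e]; group⟩ }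
  let st : Setoid α := ⟨r, hr⟩
  have hq : ∀ x y : α, (Quotient.mk st x = Quotient.mk st y) ↔ r x y := fun x y => Quotient.eq
  rw [card_quot_DC_of cs (isCartan n) (JA := JA n e w) (JT := JT n e w) (K := (U : Set (Fin n))ᶜ) (Quotient.mk st)
    Quotient.mk_surjective hq]
  -- the cells
  have h1 : ∀ x : W, (∀ j : Fin n, (j : ℕ) < e * w → ¬ e ∣ (j : ℕ) + 1 → ∀ t ∈ U, rep cs (isCartan n) x⁻¹ (sr j) t = 0) ↔
      ∀ j ∈ JA n e w, ∀ t, t ∉ (U : Set (Fin n))ᶜ → rep cs (isCartan n) x⁻¹ (sr j) t = 0 := by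
    intro x
    rw [hJA]
    constructor
    · intro h j hj t ht
      exact h j hj.1 hj.2 t (not_not.1 ht)
    · intro h j h1 h2 t ht
      exact h j ⟨h1, h2⟩ t (not_not.2 ht)
  let E := Equiv.subtypeEquivRight h1
  refine card_cells cs he hn U (fun x => Quotient.mk st (E x)) (Quotient.mk_surjective.comp E.surjective) fun x y => ?_
  rw [hq, ← hJ]
  rfl

end typeB

end Cfsg.Agent.H236.XZ
end
end

-- part: H636/LIN/BPerm_mg
section
prune_inst 0x4200008401062020000000580110022004a0004200000000098000f040e8656230000212170101c000a0aa08d00310008130800d00010000000000600011904a1888812003110ac0414001f809082000000000000000000000000000000041004200000000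
set_option linter.all false
open scoped Cfsg.Agent.FastGrp

-- part: H636/LIN/BPerm
section
/-!
# Block permutations in `W(B_m)` (helper636, for S4791 / S4927, (D3'))

`e w ≤ m`: `w` blocks of size `e` in `{0, …, m - 1}`.

* `bp hm π` : the permutation `(b, i) ↦ (π b, i)` of the coordinates;
* `phi cs hm : Equiv.Perm (Fin w) →* W`;
* `phi_mem_WJ` : the image lies in the standard parabolic subgroup of the nodes `k + 1 < e w`;
* `eq_one_of_phi_mem` : it meets the parabolic subgroup of `JA m e w` only in `1`;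
* `phi_conj` : `φ π s_j (φ π)⁻¹` is a simple reflection of `JA m e w`, for `j` in `JA m e w`.
-/

set_option autoImplicit false
set_option linter.unusedSectionVars false

namespace Cfsg.Agent.H636.LIN

open Cfsg CoxeterSystem Cfsg.Agent.ChevalleyStructure.CoxeterGeom Cfsg.Agent.Tits.Roots Cfsg.Agent.Tits.Core
  Cfsg.Agent.H215.WB Cfsg.Agent.H236.XZ Cfsg.Agent.Nodes.StabComb Cfsg.Agent.Nodes.TypeC
open Cfsg.Agent.H796.XZ (JA JT)

section perm

variable {m e w : ℕ}

/-- the block permutation -/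
def bpf (hm : e * w ≤ m) (π : Equiv.Perm (Fin w)) (i : Fin m) : Fin m :=
  if h : (i : ℕ) < e * w then ⟨e * (π ⟨i / e, Nat.div_lt_of_lt_mul h⟩ : ℕ) + i % e, by
    have he : 0 < e := Nat.pos_of_ne_zero (by rintro rfl; omega)
    have h1 := (π ⟨i / e, Nat.div_lt_of_lt_mul h⟩).2
    have h2 := Nat.mod_lt (i : ℕ) he
    have h3 := Nat.mul_le_mul_left e h1
    rw [Nat.mul_succ] at h3
    omega⟩
  else i

theorem bpf_of_lt (hm : e * w ≤ m) (π : Equiv.Perm (Fin w)) {i : Fin m} (h : (i : ℕ) < e * w) :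
    (bpf hm π i : ℕ) = e * (π ⟨i / e, Nat.div_lt_of_lt_mul h⟩ : ℕ) + i % e := by
  unfold bpf
  rw [dif_pos h]

theorem bpf_of_ge (hm : e * w ≤ m) (π : Equiv.Perm (Fin w)) {i : Fin m} (h : e * w ≤ (i : ℕ)) : bpf hm π i = i := by
  unfold bpf
  rw [dif_neg (by omega)]

theorem bpf_lt (hm : e * w ≤ m) (π : Equiv.Perm (Fin w)) {i : Fin m} (h : (i : ℕ) < e * w) :
    (bpf hm π i : ℕ) < e * w := by
  have he : 0 < e := Nat.pos_of_ne_zero (by rintro rfl; omega)
  rw [bpf_of_lt hm π h]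
  have h1 := (π ⟨i / e, Nat.div_lt_of_lt_mul h⟩).2
  have h2 := Nat.mod_lt (i : ℕ) he
  have h3 := Nat.mul_le_mul_left e h1
  rw [Nat.mul_succ] at h3
  omega

theorem bpf_div (hm : e * w ≤ m) (π : Equiv.Perm (Fin w)) {i : Fin m} (h : (i : ℕ) < e * w) :
    (bpf hm π i : ℕ) / e = π ⟨i / e, Nat.div_lt_of_lt_mul h⟩ := by
  have he : 0 < e := Nat.pos_of_ne_zero (by rintro rfl; omega)
  rw [bpf_of_lt hm π h, Nat.mul_add_div he, Nat.div_eq_of_lt (Nat.mod_lt _ he), add_zero]

theorem bpf_mod (hm : e * w ≤ m) (π : Equiv.Perm (Fin w)) {i : Fin m} (h : (i : ℕ) < e * w) :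
    (bpf hm π i : ℕ) % e = i % e := by
  rw [bpf_of_lt hm π h, Nat.mul_add_mod, Nat.mod_mod]

theorem bpf_mul (hm : e * w ≤ m) (π ρ : Equiv.Perm (Fin w)) (i : Fin m) : bpf hm (π * ρ) i = bpf hm π (bpf hm ρ i) := by
  rcases lt_or_ge (i : ℕ) (e * w) with h | h
  · apply Fin.ext
    rw [bpf_of_lt hm (π * ρ) h, bpf_of_lt hm π (bpf_lt hm ρ h), bpf_mod hm ρ h]
    congr 3
    rw [Equiv.Perm.mul_apply]
    congr 1
    exact Fin.ext (bpf_div hm ρ h).symm
  · rw [bpf_of_ge hm _ h, bpf_of_ge hm ρ h, bpf_of_ge hm π h]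

theorem bpf_one (hm : e * w ≤ m) (i : Fin m) : bpf hm 1 i = i := by
  rcases lt_or_ge (i : ℕ) (e * w) with h | h
  · apply Fin.ext
    rw [bpf_of_lt hm 1 h]
    exact Nat.div_add_mod _ _
  · exact bpf_of_ge hm 1 h

/-- the block permutation -/
def bp (hm : e * w ≤ m) (π : Equiv.Perm (Fin w)) : Equiv.Perm (Fin m) where
  toFun := bpf hm π
  invFun := bpf hm π⁻¹
  left_inv i := by rw [← bpf_mul, inv_mul_cancel, bpf_one]
  right_inv i := by rw [← bpf_mul, mul_inv_cancel, bpf_one]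

/-- consecutive coordinates of the same block -/
theorem bpf_succ (hm : e * w ≤ m) (π : Equiv.Perm (Fin w)) {j k : Fin m} (hjk : (k : ℕ) = j + 1) (hk : (k : ℕ) < e * w)
    (hd : ¬ e ∣ (k : ℕ)) : (bpf hm π k : ℕ) = bpf hm π j + 1 := by
  have he : 0 < e := Nat.pos_of_ne_zero (by rintro rfl; omega)
  have hj : (j : ℕ) < e * w := by omega
  have h1 : (k : ℕ) / e = (j : ℕ) / e := by
    rw [hjk, Nat.succ_div, if_neg (by rw [← hjk]; exact hd), add_zero]
  have h2 : (k : ℕ) % e = (j : ℕ) % e + 1 := by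
    have h3 := Nat.div_add_mod (k : ℕ) e
    have h4 := Nat.div_add_mod (j : ℕ) e
    rw [h1] at h3
    omega
  rw [bpf_of_lt hm π hk, bpf_of_lt hm π hj, h2]
  have h5 : (⟨(k : ℕ) / e, Nat.div_lt_of_lt_mul hk⟩ : Fin w) = ⟨(j : ℕ) / e, Nat.div_lt_of_lt_mul hj⟩ := Fin.ext h1
  rw [h5]
  omega

theorem bpf_mem_JA (hm : e * w ≤ m) (π : Equiv.Perm (Fin w)) {j : Fin m} (hj : j ∈ JA m e w) : bpf hm π j ∈ JA m e w := by
  obtain ⟨h1, h2⟩ := hj
  have he : 0 < e := Nat.pos_of_ne_zero (by rintro rfl; omega)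
  have hk : (j : ℕ) + 1 < m := by omega
  have h3 := bpf_succ hm π (j := j) (k := ⟨j + 1, hk⟩) rfl h1 h2
  have h4 := bpf_lt hm π (i := ⟨j + 1, hk⟩) h1
  refine ⟨by omega, ?_⟩
  rw [← h3]
  intro h5
  apply h2
  have h6 := bpf_mod hm π (i := ⟨j + 1, hk⟩) h1
  rw [Nat.mod_eq_zero_of_dvd h5] at h6
  exact Nat.dvd_of_mod_eq_zero h6.symm

end perm

section W

variable {m e w : ℕ} {W : Type*} [Group W] (cs : CoxeterSystem (CoxeterMatrix.B m) W)

theorem ext_W {u v : W} (h1 : ta cs u = ta cs v) (h2 : de cs u = de cs v) : u = v := by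
  have h3 := (yv_eq_iff cs (T := Set.univ) (w := u) (w' := v)).1 fun t _ i => by
    unfold yv
    rw [h1, h2]
  rw [Set.compl_univ, Set.image_empty, Subgroup.closure_empty, Subgroup.mem_bot] at h3
  exact (inv_mul_eq_one.1 h3)

/-- the block permutation in `W` -/
noncomputable def phf (hm : e * w ≤ m) (π : Equiv.Perm (Fin w)) : W :=
  (exists_of_perm cs (bp hm π⁻¹) fun _ => true).choose

theorem ta_phf (hm : e * w ≤ m) (π : Equiv.Perm (Fin w)) (i : Fin m) : ta cs (phf cs hm π) i = bpf hm π⁻¹ i := by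
  rw [phf, (exists_of_perm cs (bp hm π⁻¹) fun _ => true).choose_spec.1]
  rfl

theorem de_phf (hm : e * w ≤ m) (π : Equiv.Perm (Fin w)) (i : Fin m) : de cs (phf cs hm π) i = true := by
  rw [phf, (exists_of_perm cs (bp hm π⁻¹) fun _ => true).choose_spec.2]

/-- **the block permutations** -/
noncomputable def phi (hm : e * w ≤ m) : Equiv.Perm (Fin w) →* W :=
  MonoidHom.mk' (phf cs hm) fun π ρ => by
    refine ext_W cs (funext fun i => ?_) (funext fun i => ?_)
    · rw [ta_mul, ta_phf, ta_phf, ta_phf, mul_inv_rev, bpf_mul]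
    · rw [de_mul, de_phf, de_phf, de_phf]
      rfl

theorem ta_phi (hm : e * w ≤ m) (π : Equiv.Perm (Fin w)) (i : Fin m) : ta cs (phi cs hm π) i = bpf hm π⁻¹ i := ta_phf cs hm π i

theorem de_phi (hm : e * w ≤ m) (π : Equiv.Perm (Fin w)) (i : Fin m) : de cs (phi cs hm π) i = true := de_phf cs hm π i

/-- the image lies in the parabolic subgroup of type `A_{e w - 1}` -/
theorem phi_mem_WJ (hm : e * w ≤ m) (π : Equiv.Perm (Fin w)) : phi cs hm π ∈ WJ cs {k : Fin m | (k : ℕ) + 1 < e * w} := by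
  have h1 : phi cs hm π ∈ stb cs {k : Fin m | (k : ℕ) + 1 < e * w}ᶜ := by
    intro t ht i
    have ht' : ¬ (t : ℕ) + 1 < e * w := ht
    rw [yv_one, yv, ta_phi, de_phi]
    congr 1
    rw [Fin.le_def, Fin.le_def]
    rcases lt_or_ge (i : ℕ) (e * w) with h | h
    · have := bpf_lt hm π⁻¹ h
      exact propext ⟨fun _ => by omega, fun _ => by omega⟩
    · rw [bpf_of_ge hm π⁻¹ h]
  rw [stb_eq, compl_compl] at h1
  exact h1

/-- the image meets the parabolic subgroup of the blocks only in `1` -/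
theorem eq_one_of_phi_mem (hm : e * w ≤ m) (he : 0 < e) {π : Equiv.Perm (Fin w)} (h : phi cs hm π ∈ WJ cs (JA m e w)) :
    π = 1 := by
  have h0 : phi cs hm π ∈ Subgroup.closure (cs.simple '' JJ (blE e w : Fin m → Option (Fin w))) := by
    refine Subgroup.closure_mono (Set.image_mono ?_) h
    rw [JJ_blE hm]
    exact fun k hk => Or.inr hk.2
  have h1 : ∀ b : Fin w, π⁻¹ b = b := by
    intro b
    have hb : e * (b : ℕ) < e * w := Nat.mul_lt_mul_of_pos_left b.2 he
    have h2 := (bl_ta cs (blk_blE he hm) h0 ⟨e * b, by omega⟩).1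
    rw [ta_phi] at h2
    have h3 : blE e w (⟨e * b, by omega⟩ : Fin m) = some b := blE_some.2 ⟨hb, Nat.mul_div_cancel_left _ he⟩
    rw [h3] at h2
    have h4 := (blE_some.1 h2).2
    rw [bpf_div hm π⁻¹ (i := ⟨e * b, by omega⟩) hb] at h4
    have h5 : (⟨(e * (b : ℕ)) / e, Nat.div_lt_of_lt_mul hb⟩ : Fin w) = b := Fin.ext (Nat.mul_div_cancel_left _ he)
    have h6 := Fin.ext h4
    rwa [h5] at h6
  rw [← inv_inv π]
  rw [inv_eq_one]
  exact Equiv.ext h1

theorem ta_simple {k : Fin m} (hk : (k : ℕ) + 1 < m) (i : Fin m) : ta cs (cs.simple k) i = Equiv.swap k ⟨k + 1, hk⟩ i := by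
  have h1 : sp cs (cs.simple k)⁻¹ (i, true) = sg k (i, true) := by
    rw [cs.inv_simple, sp_simple]
  have h2 : ta cs (cs.simple k) i = (sg k (i, true)).1 := congrArg Prod.fst h1
  rw [h2, Equiv.swap_apply_def]
  unfold sg
  rw [dif_pos hk]
  dsimp only
  split_ifs <;> rfl

theorem de_simple {k : Fin m} (hk : (k : ℕ) + 1 < m) (i : Fin m) : de cs (cs.simple k) i = true := by
  have h1 : sp cs (cs.simple k)⁻¹ (i, true) = sg k (i, true) := by
    rw [cs.inv_simple, sp_simple]
  have h2 : de cs (cs.simple k) i = (sg k (i, true)).2 := congrArg Prod.snd h1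
  rw [h2]
  unfold sg
  rw [dif_pos hk]
  dsimp only
  split_ifs <;> rfl

/-- **the conjugates of the simple reflections of the blocks** -/
theorem phi_conj (hm : e * w ≤ m) (π : Equiv.Perm (Fin w)) {j : Fin m} (hj : j ∈ JA m e w) :
    phi cs hm π * cs.simple j = cs.simple (bpf hm π j) * phi cs hm π := by
  have hj1 : (j : ℕ) + 1 < m := by have := hj.1; omega
  have hk := bpf_mem_JA hm π hj
  have hk1 : (bpf hm π j : ℕ) + 1 < m := by have := hk.1; omega
  refine ext_W cs (funext fun i => ?_) (funext fun i => ?_)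
  · rw [ta_mul, ta_mul, ta_phi, ta_phi, ta_simple cs hj1, ta_simple cs hk1]
    have h1 : (⟨(bpf hm π j : ℕ) + 1, hk1⟩ : Fin m) = bpf hm π ⟨j + 1, hj1⟩ :=
      Fin.ext (bpf_succ hm π (j := j) (k := ⟨j + 1, hj1⟩) rfl hj.1 hj.2).symm
    rw [h1]
    change (Equiv.swap j ⟨j + 1, hj1⟩) ((bp hm π).symm i) = (bp hm π).symm (Equiv.swap (bp hm π j) (bp hm π ⟨j + 1, hj1⟩) i)
    rw [Equiv.eq_symm_apply]
    have h2 := Equiv.swap_apply_apply (bp hm π) j ⟨j + 1, hj1⟩
    rw [h2]
    rfl
  · rw [de_mul, de_mul, de_phi, de_phi, de_simple cs hj1, de_simple cs hk1]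

variable {A : Fin m → Fin m → ℤ} (h : IsCartan (CoxeterMatrix.B m) A)

/-- the root `φ π α_j` is a multiple of `α_k`, `k = bp π j`. -/
theorem rep_phi (hm : e * w ≤ m) (π : Equiv.Perm (Fin w)) {j : Fin m} (hj : j ∈ JA m e w) {t : Fin m} (ht : t ≠ bpf hm π j) :
    rep cs h (phi cs hm π) (sr j) t = 0 := by
  have h1 : rep cs h (phi cs hm π * cs.simple j) (sr j) t = rep cs h (cs.simple (bpf hm π j) * phi cs hm π) (sr j) t := by
    rw [phi_conj cs hm π hj]
  rw [rep_mul_apply, rep_mul_apply, rep_simple_sr, map_neg, rep_simple_apply cs h _ _ _ ht, Pi.neg_apply] at h1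
  omega

/-- `φ π` preserves the roots of the blocks -/
theorem phi_act [Finite W] (hm : e * w ≤ m) (π : Equiv.Perm (Fin w)) {x : Fin m → ℤ} (hx : x ∈ RootsJ cs h (JA m e w)) :
    rep cs h (phi cs hm π) x ∈ RootsJ cs h (JA m e w) := by
  refine ⟨hx.1.act _, fun k hk => ?_⟩
  have h1 : x = ∑ j, x j • (sr j : Fin m → ℤ) := by
    funext i
    rw [Finset.sum_apply, Finset.sum_eq_single i]
    · simp [sr]
    · intro j _ hj
      simp [sr, Ne.symm hj]
    · simp
  rw [h1, map_sum, Finset.sum_apply]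
  refine Finset.sum_eq_zero fun j _ => ?_
  rw [map_smul, Pi.smul_apply, smul_eq_mul]
  by_cases hj : j ∈ JA m e w
  · rw [rep_phi cs h hm π hj, mul_zero]
    rintro rfl
    exact hk (bpf_mem_JA hm π hj)
  · rw [hx.2 j hj, zero_mul]

end W

end Cfsg.Agent.H636.LIN
end

-- part: H636/LIN/NorL
section
/-!
# Extensions of Levi subgroups by subgroups of the Weyl group and Sylow subgroups (helper636, for S4791 / S4927, (D3'))

Any root group datum, `φ : Γ →* W` with image in `W_{JL}`, preserving the roots of `JA ⊆ JL`, meeting `W_{JA}` trivially.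

* `HG R JA φ = L_{JA} N_φ`, a subgroup of `L_{JL}`, `|HG| = |L_{JA}| |Γ|` (`card_HG`), normalising `L_{JA}`;
* `exists_sylow` : `v_p |Y| = v_p |L_{JA}| + v_p |Γ|`: a Sylow subgroup `P ≤ HG` of `Y` and `P₀ = P ⊓ L_{JA}`, a Sylow subgroup
  of `L_{JA}`;
* `comm_of_cop` : `p ∤ |T|`, `JT` orthogonal to `JL`: `P` centralises the root subgroups of `JT`.
-/

set_option autoImplicit false
set_option linter.unusedSectionVars false

namespace Cfsg.Agent.H636.LIN

open Cfsg CoxeterSystem Cfsg.Agent.ChevalleyStructure.CoxeterGeom Cfsg.Agent.Tits.Roots Cfsg.Agent.Tits.Core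
  Cfsg.Agent.Tits.Exchange Cfsg.Agent.Nodes.Reps Cfsg.Agent.Nodes.BNOf Cfsg.Agent.Nodes.StabComb
  Cfsg.Agent.Nodes.Bruhat Cfsg.Agent.Nodes.OppDec Cfsg.Agent.Nodes.LeviDec Cfsg.Agent.H53.HC

variable {I W Y : Type*} [Fintype I] [DecidableEq I] [Group W] [Finite W] [Group Y] [Finite Y] {M : CoxeterMatrix I}
  {cs : CoxeterSystem M W} {A : I → I → ℤ} {h : IsCartan M A} {r : ℕ} {T : Subgroup Y} {n : I → Y}
  {X : (I → ℤ) → Subgroup Y} (R : RGD cs h r T n X) {Γ : Type*} [Group Γ] (φ : Γ →* W)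

/-- the elements of `N` over the image of `φ` -/
def NG : Subgroup Y where
  carrier := {g | ∃ π, Rp cs R.nsys (φ π) g}
  one_mem' := ⟨1, by rw [map_one]; exact rp_one⟩
  mul_mem' := by
    rintro a b ⟨π, ha⟩ ⟨ρ, hb⟩
    exact ⟨π * ρ, by rw [map_mul]; exact ha.mul hb⟩
  inv_mem' := by
    rintro a ⟨π, ha⟩
    exact ⟨π⁻¹, by rw [map_inv]; exact ha.inv⟩

variable {JA JL JT : Set I}

theorem cj_LJ_le {g : Y} {w : W} (hg : Rp cs R.nsys w g) (hw : ∀ x ∈ RootsJ cs h JA, rep cs h w x ∈ RootsJ cs h JA) :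
    cj g (LJ cs h T X JA) ≤ LJ cs h T X JA := by
  change cj g (T ⊔ RGD.Sup X (RootsJ cs h JA)) ≤ _
  rw [cj_sup, RGD.cj_Sup]
  refine sup_le ?_ (iSup_le ?_)
  · rw [(mem_normalizer_iff_cj).1 hg.mem_normalizer]
    exact T_le_LJ
  · rintro ⟨x, hx⟩
    rw [R.conj_rp hg hx.1]
    exact X_le_LJ (hw x hx)

/-- the subgroup -/
def HG (JA : Set I) : Subgroup Y := LJ cs h T X JA ⊔ NG R φ

variable (h2 : ∀ π, ∀ x ∈ RootsJ cs h JA, rep cs h (φ π) x ∈ RootsJ cs h JA)

include h2 in
theorem NG_le_normalizer : NG R φ ≤ Subgroup.normalizer (LJ cs h T X JA : Set Y) := by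
  rintro g ⟨π, hg⟩
  rw [mem_normalizer_iff_cj]
  refine le_antisymm (cj_LJ_le R hg (h2 π)) ?_
  have h3 := cj_LJ_le R (JA := JA) hg.inv (by rw [← map_inv]; exact h2 π⁻¹)
  have h4 := cj_mono g h3
  rwa [cj_cj_inv] at h4

include h2 in
theorem HG_le_normalizer : HG R φ JA ≤ Subgroup.normalizer (LJ cs h T X JA : Set Y) :=
  sup_le Subgroup.le_normalizer (NG_le_normalizer R φ h2)

theorem HG_le (hJ : JA ⊆ JL) (h1 : ∀ π, φ π ∈ WJ cs JL) : HG R φ JA ≤ LJ cs h T X JL := by
  refine sup_le (LJ_mono hJ) ?_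
  rintro g ⟨π, hg⟩
  exact rp_mem_LJ R (h1 π) hg

include h2 in
theorem card_HG (h3 : ∀ π, φ π ∈ WJ cs JA → π = 1) : Nat.card ↥(HG R φ JA) = Nat.card ↥(LJ cs h T X JA) * Nat.card Γ := by
  choose k hk using fun π : Γ => exists_rp cs R.nsys (φ π)
  have hle : LJ cs h T X JA ≤ HG R φ JA := le_sup_left
  have hle' : NG R φ ≤ HG R φ JA := le_sup_right
  let f : ↥(LJ cs h T X JA) × Γ → ↥(HG R φ JA) := fun x =>
    ⟨x.1 * k x.2, mul_mem (hle x.1.2) (hle' ⟨x.2, hk x.2⟩)⟩
  have hf : Function.Bijective f := by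
    constructor
    · rintro ⟨l, π⟩ ⟨l', ρ⟩ e
      have e1 : (l : Y) * k π = l' * k ρ := congrArg Subtype.val e
      have e2 : k ρ * (k π)⁻¹ = (l' : Y)⁻¹ * l := by
        have : k ρ = (l' : Y)⁻¹ * (l * k π) := by rw [e1, inv_mul_cancel_left]
        rw [this]
        group
      have e3 : Rp cs R.nsys (φ (ρ * π⁻¹)) (k ρ * (k π)⁻¹) := by
        rw [map_mul, map_inv]
        exact (hk ρ).mul (hk π).inv
      have e4 : k ρ * (k π)⁻¹ ∈ LJ cs h T X JA := by
        rw [e2]
        exact mul_mem (inv_mem l'.2) l.2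
      have e5 := h3 _ ((cell_mem_PJ_iff R (cell_of_rp e3)).1 (LJ_le_PJ e4))
      have e6 : ρ = π := mul_inv_eq_one.1 e5
      subst e6
      have e7 : (l : Y) = l' := mul_right_cancel e1
      rw [Subtype.ext e7]
    · rintro ⟨g, hg⟩
      have h5 : g ∈ ((LJ cs h T X JA ⊔ NG R φ : Subgroup Y) : Set Y) := hg
      rw [Subgroup.coe_mul_of_right_le_normalizer_left _ _ (NG_le_normalizer R φ h2)] at h5
      obtain ⟨l, hl, u, ⟨π, hu⟩, rfl⟩ := h5
      have h6 : u * (k π)⁻¹ ∈ T := by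
        have h7 : Rp cs R.nsys 1 (u * (k π)⁻¹) := by
          have h8 := hu.mul (hk π).inv
          rwa [mul_inv_cancel] at h8
        exact h7.mem_of_one
      refine ⟨(⟨l * (u * (k π)⁻¹), mul_mem hl (T_le_LJ h6)⟩, π), Subtype.ext ?_⟩
      change l * (u * (k π)⁻¹) * k π = l * u
      group
  rw [← Nat.card_congr (Equiv.ofBijective f hf), Nat.card_prod]

variable {p : ℕ} [hp : Fact p.Prime]

include h2 in
/-- **The Sylow subgroups.** -/
theorem exists_sylow [Finite Γ] (h3 : ∀ π, φ π ∈ WJ cs JA → π = 1)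
    (hY : (Nat.card Y).factorization p = (Nat.card ↥(LJ cs h T X JA) * Nat.card Γ).factorization p) :
    ∃ P : Sylow p Y, (P : Subgroup Y) ≤ HG R φ JA ∧
      (∀ g ∈ (P : Subgroup Y), ∀ x ∈ (P : Subgroup Y) ⊓ LJ cs h T X JA, g⁻¹ * x * g ∈ (P : Subgroup Y) ⊓ LJ cs h T X JA) ∧
      Nat.card ↥((P : Subgroup Y) ⊓ LJ cs h T X JA) = p ^ (Nat.card ↥(LJ cs h T X JA)).factorization p := by
  obtain ⟨Q⟩ : Nonempty (Sylow p ↥(HG R φ JA)) := inferInstance
  have hQ : Nat.card ↥((Q : Subgroup ↥(HG R φ JA)).map (HG R φ JA).subtype) = p ^ (Nat.card Y).factorization p := by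
    rw [Subgroup.card_map_of_injective (Subgroup.subtype_injective _), Q.card_eq_multiplicity, card_HG R φ h2 h3, hY]
  let P : Sylow p Y := Sylow.ofCard _ hQ
  have hPle : (P : Subgroup Y) ≤ HG R φ JA := by
    rintro g ⟨x, -, rfl⟩
    exact x.2
  have hnorm := HG_le_normalizer R φ h2
  have hconj : ∀ g ∈ (P : Subgroup Y), ∀ x ∈ (P : Subgroup Y) ⊓ LJ cs h T X JA,
      g⁻¹ * x * g ∈ (P : Subgroup Y) ⊓ LJ cs h T X JA := by
    intro g hg x hx
    refine ⟨(P : Subgroup Y).mul_mem ((P : Subgroup Y).mul_mem ((P : Subgroup Y).inv_mem hg) hx.1) hg, ?_⟩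
    have hg' : g⁻¹ ∈ HG R φ JA := (HG R φ JA).inv_mem (hPle hg)
    have h5 := (Subgroup.mem_normalizer_iff.1 (hnorm hg') x).1 hx.2
    rwa [inv_inv] at h5
  refine ⟨P, hPle, hconj, ?_⟩
  -- `|P : P ⊓ L|` divides `|Γ|`
  have hLle : LJ cs h T X JA ≤ HG R φ JA := le_sup_left
  have hN : ((LJ cs h T X JA).subgroupOf (HG R φ JA)).Normal :=
    (Subgroup.normal_subgroupOf_iff_le_normalizer hLle).2 hnorm
  have h5 : (LJ cs h T X JA).relIndex (P : Subgroup Y) ∣ Nat.card Γ := by
    have h6 : (LJ cs h T X JA).relIndex (P : Subgroup Y) =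
        ((LJ cs h T X JA).subgroupOf (HG R φ JA)).relIndex ((P : Subgroup Y).subgroupOf (HG R φ JA)) :=
      (Subgroup.relIndex_subgroupOf hPle).symm
    have h7 := Subgroup.relIndex_dvd_index_of_normal ((LJ cs h T X JA).subgroupOf (HG R φ JA))
      ((P : Subgroup Y).subgroupOf (HG R φ JA))
    rw [h6]
    refine h7.trans (dvd_of_eq ?_)
    have h8 := ((LJ cs h T X JA).subgroupOf (HG R φ JA)).index_mul_card
    rw [card_HG R φ h2 h3, Nat.card_congr (Subgroup.subgroupOfEquivOfLe hLle).toEquiv, mul_comm] at h8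
    exact Nat.eq_of_mul_eq_mul_left Nat.card_pos h8
  have h9 : Nat.card ↥((P : Subgroup Y) ⊓ LJ cs h T X JA) * (LJ cs h T X JA).relIndex (P : Subgroup Y) =
      Nat.card ↥(P : Subgroup Y) := by
    have h10 := ((LJ cs h T X JA).subgroupOf (P : Subgroup Y)).card_mul_index
    have h11 : Nat.card ↥((LJ cs h T X JA).subgroupOf (P : Subgroup Y)) = Nat.card ↥((P : Subgroup Y) ⊓ LJ cs h T X JA) := by
      rw [← Subgroup.card_map_of_injective (Subgroup.subtype_injective (P : Subgroup Y)), Subgroup.subgroupOf_map_subtype, inf_comm]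
    rw [h11] at h10
    exact h10
  -- the `p`-parts
  have hPc : Nat.card ↥(P : Subgroup Y) = p ^ (Nat.card Y).factorization p := hQ
  obtain ⟨a, ha⟩ := (Nat.dvd_prime_pow hp.out).1 (show Nat.card ↥((P : Subgroup Y) ⊓ LJ cs h T X JA) ∣
    p ^ (Nat.card Y).factorization p by rw [← hPc, ← h9]; exact dvd_mul_right _ _)
  obtain ⟨b, hb⟩ := (Nat.dvd_prime_pow hp.out).1 (show (LJ cs h T X JA).relIndex (P : Subgroup Y) ∣
    p ^ (Nat.card Y).factorization p by rw [← hPc, ← h9]; exact dvd_mul_left _ _)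
  have h12 : a ≤ (Nat.card ↥(LJ cs h T X JA)).factorization p := by
    refine (hp.out.pow_dvd_iff_le_factorization Nat.card_pos.ne').1 ?_
    rw [← ha.2]
    exact Subgroup.card_dvd_of_le inf_le_right
  have h13 : b ≤ (Nat.card Γ).factorization p := by
    refine (hp.out.pow_dvd_iff_le_factorization Nat.card_pos.ne').1 ?_
    rw [← hb.2]
    exact h5
  rw [hPc, ha.2, hb.2, ← pow_add] at h9
  have h14 := Nat.pow_right_injective hp.out.two_le h9
  rw [hY, Nat.factorization_mul Nat.card_pos.ne' Nat.card_pos.ne', Finsupp.add_apply] at h14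
  rw [ha.2]
  congr 1
  omega

include R in
/-- **`P` centralises the orthogonal root subgroups.** -/
theorem comm_of_cop (ho : Orth A JL JT) (hT : ¬ p ∣ Nat.card ↥T) {g : Y} {k : ℕ} (hk : g ^ p ^ k = 1)
    (hg : g ∈ LJ cs h T X JL) {b : Y} (hb : b ∈ RGD.Sup X (RootsJ cs h JT)) : g * b = b * g := by
  refine ho.comm R g ?_ b hb
  -- `L = T M`, `M` normal
  let N : Subgroup Y := RGD.Sup X (RootsJ cs h JL)
  change g ∈ N
  have hTN : T ≤ Subgroup.normalizer (N : Set Y) := R.T_le_normalizer fun x hx => hx.1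
  have hLN : LJ cs h T X JL ≤ Subgroup.normalizer (N : Set Y) := sup_le hTN Subgroup.le_normalizer
  have hNL : N ≤ LJ cs h T X JL := le_sup_right
  have h1 : g ∈ ((T ⊔ N : Subgroup Y) : Set Y) := hg
  rw [Subgroup.coe_mul_of_left_le_normalizer_right _ _ hTN] at h1
  obtain ⟨t, ht, s, hs, e⟩ := h1
  have hNn : (N.subgroupOf (LJ cs h T X JL)).Normal := (Subgroup.normal_subgroupOf_iff_le_normalizer hNL).2 hLN
  let q := QuotientGroup.mk' (N.subgroupOf (LJ cs h T X JL))
  have h2 : q ⟨g, hg⟩ = q ⟨t, T_le_LJ ht⟩ := by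
    refine (QuotientGroup.eq.2 ?_).symm
    change t⁻¹ * g ∈ N
    rw [← e, inv_mul_cancel_left]
    exact hs
  have h3 : q ⟨g, hg⟩ ^ p ^ k = 1 := by
    rw [← map_pow]
    have : (⟨g, hg⟩ : ↥(LJ cs h T X JL)) ^ p ^ k = 1 := Subtype.ext hk
    rw [this, map_one]
  have h4 : q ⟨g, hg⟩ ^ Nat.card ↥T = 1 := by
    rw [h2, ← map_pow]
    have : (⟨t, T_le_LJ ht⟩ : ↥(LJ cs h T X JL)) ^ Nat.card ↥T = 1 := by
      apply Subtype.ext
      have h5 := congrArg Subtype.val (pow_card_eq_one' (x := (⟨t, ht⟩ : ↥T)))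
      exact h5
    rw [this, map_one]
  have h5 : Nat.Coprime (p ^ k) (Nat.card ↥T) := Nat.Coprime.pow_left k ((hp.out.coprime_iff_not_dvd).2 hT)
  have h6 : q ⟨g, hg⟩ = 1 := by
    rw [← orderOf_eq_one_iff]
    exact Nat.eq_one_of_dvd_coprimes h5 (orderOf_dvd_of_pow_eq_one h3) (orderOf_dvd_of_pow_eq_one h4)
  have h7 : (⟨g, hg⟩ : ↥(LJ cs h T X JL)) ∈ N.subgroupOf (LJ cs h T X JL) := (QuotientGroup.eq_one_iff _).1 h6
  exact h7

end Cfsg.Agent.H636.LIN
end

-- part: H636/LIN/LinA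
section
/-!
# `LinData`, any type, from orders (helper636, for S4791 / S4927, (D3'))
-/

set_option autoImplicit false
set_option linter.unusedSectionVars false

namespace Cfsg.Agent.H636.LIN

open Cfsg CoxeterSystem Cfsg.Agent.ChevalleyStructure.CoxeterGeom Cfsg.Agent.Tits.Roots Cfsg.Agent.Tits.Core
  Cfsg.Agent.Tits.Exchange Cfsg.Agent.Nodes.Reps Cfsg.Agent.Nodes.BNOf Cfsg.Agent.Nodes.StabComb
  Cfsg.Agent.Nodes.Bruhat Cfsg.Agent.Nodes.OppDec Cfsg.Agent.Nodes.LeviDec Cfsg.Agent.H53.HC Cfsg.Agent.H796.XZ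

variable {I W Y : Type*} [Fintype I] [DecidableEq I] [Group W] [Finite W] [Group Y] [Finite Y] {M : CoxeterMatrix I}
  {cs : CoxeterSystem M W} {A : I → I → ℤ} {h : IsCartan M A} {r : ℕ} {T : Subgroup Y} {n : I → Y}
  {X : (I → ℤ) → Subgroup Y} (R : RGD cs h r T n X)

include R

/-- the order of a parabolic subgroup -/
theorem card_PJ_mul (J : Set I) : Nat.card ↥(PJ cs h T X J) = Nat.card ↥(LJ cs h T X J) * Nat.card ↥(VJ cs h X J) := by
  have hle := LJ_le_normalizer_VJ R J
  let f : ↥(LJ cs h T X J) × ↥(VJ cs h X J) → ↥(PJ cs h T X J) := fun x =>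
    ⟨x.1 * x.2, (mem_PJ R).2 ⟨_, x.1.2, _, x.2.2, rfl⟩⟩
  have hf : Function.Bijective f := by
    constructor
    · rintro ⟨l, v⟩ ⟨l', v'⟩ e
      have e1 : (l : Y) * v = l' * v' := congrArg Subtype.val e
      have e2 : (l' : Y)⁻¹ * l = v' * (v : Y)⁻¹ := by
        have : (v' : Y) = (l' : Y)⁻¹ * (l * v) := by rw [e1, inv_mul_cancel_left]
        rw [this]
        group
      have e3 : (l' : Y)⁻¹ * l = 1 := eq_one_of_mem_LJ_of_mem_VJ R (J := J) (mul_mem (inv_mem l'.2) l.2) (by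
        rw [e2]
        exact mul_mem v'.2 (inv_mem v.2))
      have e4 : (l' : Y) = l := inv_mul_eq_one.1 e3
      rw [e4] at e1
      rw [Subtype.ext e4, Subtype.ext (mul_left_cancel e1)]
    · rintro ⟨g, hg⟩
      obtain ⟨l, hl, v, hv, rfl⟩ := (mem_PJ R).1 hg
      exact ⟨(⟨l, hl⟩, ⟨v, hv⟩), rfl⟩
  rw [← Nat.card_congr (Equiv.ofBijective f hf), Nat.card_prod]

variable {p : ℕ} [hp : Fact p.Prime] [hr : Fact r.Prime]

theorem not_dvd_VJ (hpr : p ≠ r) (J : Set I) : ¬ p ∣ Nat.card ↥(VJ cs h X J) := by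
  have h1 : IsPGroup r ↥(VJ cs h X J) := R.isPGroup_of_pos fun x hx => ⟨hx.1, hx.2.1⟩
  obtain ⟨k, hk⟩ := IsPGroup.iff_card.1 h1
  rw [hk]
  intro h2
  exact hpr ((Nat.prime_dvd_prime_iff_eq hp.out hr.out).1 (hp.out.dvd_of_dvd_pow h2))

theorem fac_LJ (hpr : p ≠ r) (J : Set I) :
    (Nat.card ↥(PJ cs h T X J)).factorization p = (Nat.card ↥(LJ cs h T X J)).factorization p := by
  rw [card_PJ_mul R J, Nat.factorization_mul Nat.card_pos.ne' Nat.card_pos.ne', Finsupp.add_apply,
    Nat.factorization_eq_zero_of_not_dvd (not_dvd_VJ R hpr J), add_zero]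

theorem PJ_mono' {K J : Set I} (hK : K ⊆ J) : PJ cs h T X K ≤ PJ cs h T X J := Cfsg.Agent.H554.RG.PJ_mono R hK

/-- **the Sylow subgroup lies in no smaller parabolic subgroup** -/
theorem ell_of (hpr : p ≠ r) {JA : Set I} (hd : ∀ K ⊆ JA, K ≠ JA → p ∣ (PJ cs h T X K).relIndex (PJ cs h T X JA))
    {P₀ : Subgroup Y} (hP₀ : Nat.card ↥P₀ = p ^ (Nat.card ↥(LJ cs h T X JA)).factorization p) :
    ∀ K ⊆ JA, (∃ a ∈ PJ cs h T X JA, ∀ x ∈ P₀, a⁻¹ * x * a ∈ PJ cs h T X K) → K = JA := by
  rintro K hK ⟨a, ha, h1⟩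
  by_contra hne
  have h2 := hd K hK hne
  have h3 := (((PJ cs h T X K).subgroupOf (PJ cs h T X JA)).card_mul_index)
  rw [Nat.card_congr (Subgroup.subgroupOfEquivOfLe (PJ_mono' R hK)).toEquiv] at h3
  change Nat.card ↥(PJ cs h T X K) * (PJ cs h T X K).relIndex (PJ cs h T X JA) = _ at h3
  have h4 : P₀.map (MulAut.conj a⁻¹).toMonoidHom ≤ PJ cs h T X K := by
    rintro _ ⟨x, hx, rfl⟩
    have h5 := h1 x hx
    have e : (MulAut.conj a⁻¹).toMonoidHom x = a⁻¹ * x * a := by simp
    rw [e]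
    exact h5
  have h5 := Subgroup.card_dvd_of_le h4
  rw [Subgroup.card_map_of_injective (MulAut.conj a⁻¹).injective, hP₀, ← fac_LJ R hpr JA] at h5
  have h6 : p ^ ((Nat.card ↥(PJ cs h T X JA)).factorization p + 1) ∣ Nat.card ↥(PJ cs h T X JA) := by
    rw [pow_succ, ← h3]
    refine mul_dvd_mul ?_ h2
    rw [h3]
    exact h5
  exact Nat.pow_succ_factorization_not_dvd Nat.card_pos.ne' hp.out h6

/-- **`LinData`, any type** -/
theorem exists_linData {Γ : Type*} [Group Γ] [Finite Γ] (φ : Γ →* W) {JA JL JT : Set I} (hJ : JA ⊆ JL)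
    (h1 : ∀ π, φ π ∈ WJ cs JL) (h2 : ∀ π, ∀ x ∈ RootsJ cs h JA, rep cs h (φ π) x ∈ RootsJ cs h JA)
    (h3 : ∀ π, φ π ∈ WJ cs JA → π = 1) (hpr : p ≠ r)
    (hY : (Nat.card Y).factorization p = (Nat.card ↥(PJ cs h T X JA) * Nat.card Γ).factorization p)
    (hd : ∀ K ⊆ JA, K ≠ JA → p ∣ (PJ cs h T X K).relIndex (PJ cs h T X JA))
    (hcop : ¬ p ∣ Nat.card ↥(RGD.Sup X (RootsJ cs h JT)))
    (hcomm : (Orth A JL JT ∧ ¬ p ∣ Nat.card ↥T) ∨ JT = ∅)
    (hcen : ∀ P₀ : Subgroup Y, IsPGroup p ↥P₀ → P₀ ≤ LJ cs h T X JA → ¬ p ∣ P₀.relIndex (LJ cs h T X JA) →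
      Subgroup.centralizer (P₀ : Set Y) ≤ LJ cs h T X (JA ∪ JT)) :
    ∃ (P : Sylow p Y) (P₀ : Subgroup Y), LinData cs h T X p JA JT P P₀ := by
  have hY' : (Nat.card Y).factorization p = (Nat.card ↥(LJ cs h T X JA) * Nat.card Γ).factorization p := by
    rw [hY, Nat.factorization_mul Nat.card_pos.ne' Nat.card_pos.ne', Nat.factorization_mul Nat.card_pos.ne' Nat.card_pos.ne',
      Finsupp.add_apply, Finsupp.add_apply, fac_LJ R hpr]
  obtain ⟨P, hP, hconj, hcard⟩ := exists_sylow R φ h2 h3 hY'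
  refine ⟨P, (P : Subgroup Y) ⊓ LJ cs h T X JA, ?_⟩
  refine { le := inf_le_left, conj := hconj, le_LJ := inf_le_right, ell := ell_of R hpr hd hcard, comm := ?_, cop := hcop, cen := ?_ }
  · intro x hx g hg
    rcases hcomm with ⟨ho, hT⟩ | hJT
    · obtain ⟨k, hk⟩ := P.isPGroup' ⟨x, hx⟩
      exact comm_of_cop R ho hT (k := k) (congrArg Subtype.val hk) (HG_le R φ hJ h1 (hP hx)) hg
    · subst hJT
      have h4 : RGD.Sup X (RootsJ cs h ∅) = ⊥ := by
        refine le_bot_iff.1 (RGD.Sup_le fun z hz => ?_)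
        exfalso
        exact hz.1.ne_zero (funext fun k => hz.2 k (Set.notMem_empty k))
      rw [h4, Subgroup.mem_bot] at hg
      rw [hg, mul_one, one_mul]
  · refine hcen _ (P.isPGroup'.to_le inf_le_left) inf_le_right ?_
    intro h5
    have h6 := (((P : Subgroup Y) ⊓ LJ cs h T X JA).subgroupOf (LJ cs h T X JA)).card_mul_index
    rw [Nat.card_congr (Subgroup.subgroupOfEquivOfLe (inf_le_right : (P : Subgroup Y) ⊓ LJ cs h T X JA ≤ LJ cs h T X JA)).toEquiv,
      hcard] at h6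
    change p ^ _ * ((P : Subgroup Y) ⊓ LJ cs h T X JA).relIndex (LJ cs h T X JA) = _ at h6
    have h7 : p ^ ((Nat.card ↥(LJ cs h T X JA)).factorization p + 1) ∣ Nat.card ↥(LJ cs h T X JA) := by
      rw [pow_succ]
      nth_rw 2 [← h6]
      exact mul_dvd_mul_left _ h5
    exact Nat.pow_succ_factorization_not_dvd Nat.card_pos.ne' hp.out h7

end Cfsg.Agent.H636.LIN
end

-- part: H965/XZ/D3A
section
/-!
# The orders of the parabolic subgroups of blocks of size `e` in type `B_m` (helper965, for S4791 / S4927)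

`y` of order `e > 1` modulo `p`.
* `exists_fac` : `[1][2]…[k] = [e]^(k/e) u`, `p ∤ u`, if `k < e p`;
* `card_seg` : a component of type `A` of a parabolic subgroup of type `B_m`;
* `card_JA` : `|P_J| = ([1]…[e])^w |B|` for `w` blocks;
* `card_JA_sub` : `|P_J| [1]…[b] [1]…[e-b] = |P_{J - j}| [1]…[e]`.
-/

set_option autoImplicit false
set_option linter.unusedSectionVars false

namespace Cfsg.Agent.H965.XZ

open CoxeterSystem Cfsg.Agent.ChevalleyStructure.CoxeterGeom Cfsg.Agent.Tits.Roots Cfsg.Agent.Tits.Core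
  Cfsg.Agent.Tits.RootComb Cfsg.Agent.Tits.Exchange Cfsg.Agent.Nodes.Comb Cfsg.Agent.Nodes.Reps
  Cfsg.Agent.Nodes.BNOf Cfsg.Agent.Nodes.StabComb Cfsg.Agent.Nodes.Bruhat Cfsg.Agent.Nodes.OppDec
  Cfsg.Agent.Nodes.LeviDec Cfsg.Agent.Nodes.NormalForm Cfsg.Agent.ChevalleyStructure.WeylAbstract
  Cfsg.Agent.H35.Poin

/-- `[1][2]…[k]` -/
def fac (y k : ℕ) : ℕ := ∏ i ∈ Finset.range k, gs y (i + 1)

theorem fac_succ (y k : ℕ) : fac y (k + 1) = fac y k * gs y (k + 1) := Finset.prod_range_succ _ _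

theorem fac_zero (y : ℕ) : fac y 0 = 1 := rfl

theorem fac_eq (y k : ℕ) : fac y (k + 1) = ∏ i ∈ Finset.range k, ∑ t ∈ Finset.range (i + 2), y ^ t := by
  unfold fac
  rw [Finset.prod_range_succ']
  have h2 : gs y (0 + 1) = 1 := by simp [gs]
  rw [h2, mul_one]
  rfl

theorem gs_mul (y e : ℕ) : ∀ j : ℕ, gs y (e * j) = gs y e * gs (y ^ e) j := by
  intro j
  induction j with
  | zero => simp [gs]
  | succ j ih =>
    rw [Nat.mul_succ, gs_add, ih, show gs (y ^ e) (j + 1) = gs (y ^ e) j + (y ^ e) ^ j from Finset.sum_range_succ _ _,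
      mul_add, ← pow_mul]
    ring

section arith

variable {p : ℕ} [hp : Fact p.Prime] {y e : ℕ}

theorem not_dvd_gs (ho : orderOf (y : ZMod p) = e) {j : ℕ} (hj : ¬ e ∣ j) : ¬ p ∣ gs y j := by
  intro h1
  refine hj ?_
  rw [← ho]
  exact orderOf_dvd_of_pow_eq_one (pow_eq_one_of_dvd_gs h1)

theorem dvd_gs_e (ho : orderOf (y : ZMod p) = e) (he : 1 < e) : p ∣ gs y e := by
  refine dvd_gs_of ?_ ?_
  · intro h1
    rw [h1, orderOf_one] at ho
    omega
  · rw [← ho]
    exact pow_orderOf_eq_one _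

theorem not_dvd_gs_pow (ho : orderOf (y : ZMod p) = e) {j : ℕ} (h0 : 0 < j) (hj : j < p) : ¬ p ∣ gs (y ^ e) j := by
  intro h1
  rw [← ZMod.natCast_eq_zero_iff] at h1
  unfold gs at h1
  push_cast at h1
  rw [← ho, pow_orderOf_eq_one] at h1
  simp only [one_pow, Finset.sum_const, Finset.card_range, nsmul_eq_mul, mul_one] at h1
  rw [ZMod.natCast_eq_zero_iff] at h1
  exact absurd (Nat.le_of_dvd h0 h1) (by omega)

theorem exists_fac (ho : orderOf (y : ZMod p) = e) : ∀ k : ℕ, k < e * p →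
    ∃ u, ¬ p ∣ u ∧ fac y k = gs y e ^ (k / e) * u := by
  intro k
  induction k with
  | zero =>
    intro _
    refine ⟨1, fun h => ?_, by rw [fac_zero, Nat.zero_div, pow_zero, one_mul]⟩
    exact hp.out.one_lt.ne' (Nat.dvd_one.1 h)
  | succ k ih =>
    intro hk
    obtain ⟨u, hu, h1⟩ := ih (by omega)
    rw [fac_succ, h1, Nat.succ_div]
    by_cases hd : e ∣ k + 1
    · obtain ⟨j, hj⟩ := hd
      have hj0 : 0 < j := by
        rcases Nat.eq_zero_or_pos j with rfl | h2
        · omega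
        · exact h2
      have hjp : j < p := by
        by_contra hcon
        have := Nat.mul_le_mul_left e (not_lt.1 hcon)
        omega
      refine ⟨u * gs (y ^ e) j, fun h2 => ?_, ?_⟩
      · rcases (hp.out.dvd_mul).1 h2 with h3 | h3
        · exact hu h3
        · exact not_dvd_gs_pow ho hj0 hjp h3
      · rw [if_pos ⟨j, hj⟩, hj, gs_mul, pow_add, pow_one]
        ring
    · refine ⟨u * gs y (k + 1), fun h2 => ?_, ?_⟩
      · rcases (hp.out.dvd_mul).1 h2 with h3 | h3
        · exact hu h3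
        · exact not_dvd_gs ho hd h3
      · rw [if_neg hd, add_zero]
        ring

theorem not_dvd_fac (ho : orderOf (y : ZMod p) = e) {k : ℕ} (hk : k < e) : ¬ p ∣ fac y k := by
  obtain ⟨u, hu, h1⟩ := exists_fac (p := p) ho k (lt_of_lt_of_le hk (Nat.le_mul_of_pos_right _ hp.out.pos))
  rw [h1, Nat.div_eq_of_lt hk, pow_zero, one_mul]
  exact hu

end arith

section seg

variable {m : ℕ} {A : Fin m → Fin m → ℤ} (h : IsCartan (CoxeterMatrix.B m) A)

include h

/-- a segment of the diagram, `a, a+1, …, a+k-1`, `a + k < m` -/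
theorem apath_seg (hm : 0 < m) {J : Set (Fin m)} {a k : ℕ} (hak : a + k < m)
    (hJ : ∀ j : Fin m, a ≤ (j : ℕ) → (j : ℕ) < a + k → j ∈ J) (hl : ∀ j ∈ J, (j : ℕ) + 1 ≠ a)
    (hr : ∀ j ∈ J, (j : ℕ) ≠ a + k) : APath A J (fun t => nd hm (a + t)) k where
  mem t ht := hJ _ (by rw [nd_val hm (by omega)]; omega) (by rw [nd_val hm (by omega)]; omega)
  adj t ht := cart_adj h (by rw [nd_val hm (by omega), nd_val hm (by omega)]; omega)
    (by rw [nd_val hm (by omega)]; omega)
  far s t hs ht := cart_far h (by rw [nd_val hm (by omega), nd_val hm (by omega)]; omega)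
  out j hj hc t ht := by
    have h1 : (j : ℕ) < a ∨ a + k ≤ (j : ℕ) := by
      by_contra hcon
      push Not at hcon
      refine hc ((j : ℕ) - a) (by omega) (Fin.ext ?_)
      rw [nd_val hm (by omega)]
      omega
    have h2 := hl j hj
    have h3 := hr j hj
    rcases h1 with h1 | h1
    · exact (cart_far h (i := j) (j := nd hm (a + t)) (by rw [nd_val hm (by omega)]; omega)).2
    · exact (cart_far h (i := nd hm (a + t)) (j := j) (by rw [nd_val hm (by omega)]; omega)).1
  inj s hs t ht e := by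
    have h1 := congrArg Fin.val e
    rw [nd_val hm (by omega), nd_val hm (by omega)] at h1
    omega

end seg

section card

variable {m : ℕ} {W Y : Type*} [Group W] [Finite W] [Group Y] [Finite Y]
  {cs : CoxeterSystem (CoxeterMatrix.B m) W} {A : Fin m → Fin m → ℤ} {h : IsCartan (CoxeterMatrix.B m) A} {r : ℕ}
  {T : Subgroup Y} {n : Fin m → Y} {X : (Fin m → ℤ) → Subgroup Y} (R : RGD cs h r T n X)

include R

/-- **A component of type `A_k`.** -/
theorem card_seg {y : ℕ} (hy : ∀ i : Fin m, (i : ℕ) + 1 < m → Nat.card (X (sr i)) = y) {J : Set (Fin m)} {a k : ℕ}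
    (hak : a + k < m) (hJ : ∀ j : Fin m, a ≤ (j : ℕ) → (j : ℕ) < a + k → j ∈ J) (hl : ∀ j ∈ J, (j : ℕ) + 1 ≠ a)
    (hr : ∀ j ∈ J, (j : ℕ) ≠ a + k) :
    Nat.card ↥(PJ cs h T X J) = fac y (k + 1) *
      Nat.card ↥(PJ cs h T X (J \ {j | a ≤ (j : ℕ) ∧ (j : ℕ) < a + k})) := by
  have hm : 0 < m := by omega
  rw [card_PJ_path R (apath_seg h hm hak hJ hl hr) (y := y) (fun t ht => hy _ (by rw [nd_val hm (by omega)]; omega)),
    fac_eq]
  have h1 : {j : Fin m | ∃ t < k, nd hm (a + t) = j} = {j : Fin m | a ≤ (j : ℕ) ∧ (j : ℕ) < a + k} := by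
    ext j
    constructor
    · rintro ⟨t, ht, rfl⟩
      show a ≤ (nd hm (a + t) : ℕ) ∧ (nd hm (a + t) : ℕ) < a + k
      rw [nd_val hm (by omega)]
      omega
    · rintro ⟨h1, h2⟩
      exact ⟨(j : ℕ) - a, by omega, Fin.ext (by rw [nd_val hm (by omega)]; omega)⟩
  rw [h1]

theorem not_dvd_of_block {e t j : ℕ} (h1 : e * t ≤ j) (h2 : j + 1 < e * t + e) : ¬ e ∣ j + 1 := by
  rintro ⟨k, hk⟩
  have h3 : e * t < e * k := by omega
  have h4 : e * k < e * (t + 1) := by rw [Nat.mul_succ]; omega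
  have h5 := Nat.lt_of_mul_lt_mul_left h3
  have h6 := Nat.lt_of_mul_lt_mul_left h4
  omega

/-- **`w` blocks of size `e`** -/
theorem card_JA {y : ℕ} (hy : ∀ i : Fin m, (i : ℕ) + 1 < m → Nat.card (X (sr i)) = y) {e : ℕ} (he : 0 < e) :
    ∀ w : ℕ, e * w ≤ m → Nat.card ↥(PJ cs h T X {k : Fin m | (k : ℕ) + 1 < e * w ∧ ¬ e ∣ (k : ℕ) + 1}) =
      fac y e ^ w * Nat.card ↥(RGD.B cs h T X) := by
  intro w
  induction w with
  | zero =>
    intro _
    have h1 : {k : Fin m | (k : ℕ) + 1 < e * 0 ∧ ¬ e ∣ (k : ℕ) + 1} = ∅ := by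
      rw [Set.eq_empty_iff_forall_notMem]
      rintro k ⟨h2, -⟩
      rw [mul_zero] at h2
      omega
    rw [h1, PJ_empty, pow_zero, one_mul]
  | succ w ih =>
    intro hw
    rw [Nat.mul_succ] at hw
    have hee : e = (e - 1) + 1 := by omega
    rw [card_seg R hy (a := e * w) (k := e - 1) (by omega) ?_ ?_ ?_]
    · have h1 : ({k : Fin m | (k : ℕ) + 1 < e * (w + 1) ∧ ¬ e ∣ (k : ℕ) + 1} \
          {j | e * w ≤ (j : ℕ) ∧ (j : ℕ) < e * w + (e - 1)}) = {k : Fin m | (k : ℕ) + 1 < e * w ∧ ¬ e ∣ (k : ℕ) + 1} := by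
        ext k
        simp only [Set.mem_sdiff, Set.mem_ofPred_eq, Nat.mul_succ]
        constructor
        · rintro ⟨⟨h2, h3⟩, h4⟩
          refine ⟨?_, h3⟩
          by_contra h5
          have h6 : (k : ℕ) + 1 ≠ e * w := fun h7 => h3 ⟨w, h7⟩
          exact h4 ⟨by omega, by omega⟩
        · rintro ⟨h2, h3⟩
          exact ⟨⟨by omega, h3⟩, fun h4 => by omega⟩
      rw [h1, ih (by omega), pow_succ, ← hee]
      ring
    · intro j h1 h2
      refine ⟨by rw [Nat.mul_succ]; omega, not_dvd_of_block R (t := w) h1 (by omega)⟩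
    · rintro j ⟨-, h2⟩ h3
      exact h2 ⟨w, h3⟩
    · rintro j ⟨h1, h2⟩ h3
      refine h2 ⟨w + 1, ?_⟩
      rw [Nat.mul_succ]
      omega

/-- **one node less** -/
theorem card_JA_sub {y : ℕ} (hy : ∀ i : Fin m, (i : ℕ) + 1 < m → Nat.card (X (sr i)) = y) {e w : ℕ} (he : 0 < e)
    (hw : e * w ≤ m) {j : Fin m} (hj1 : (j : ℕ) + 1 < e * w) (hj2 : ¬ e ∣ (j : ℕ) + 1) :
    ∃ b c, 0 < b ∧ b < e ∧ 0 < c ∧ c < e ∧ b + c = e ∧
      Nat.card ↥(PJ cs h T X {k : Fin m | (k : ℕ) + 1 < e * w ∧ ¬ e ∣ (k : ℕ) + 1}) * (fac y b * fac y c) =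
        fac y e * Nat.card ↥(PJ cs h T X ({k : Fin m | (k : ℕ) + 1 < e * w ∧ ¬ e ∣ (k : ℕ) + 1} \ {j})) := by
  -- `j = e t + s`
  set t := (j : ℕ) / e with ht
  set s := (j : ℕ) % e with hs
  have hjts : e * t + s = j := Nat.div_add_mod _ _
  have hse : s < e := Nat.mod_lt _ he
  have hs1 : s + 1 < e := by
    rcases Nat.lt_or_ge (s + 1) e with h1 | h1
    · exact h1
    · exfalso
      refine hj2 ⟨t + 1, ?_⟩
      rw [Nat.mul_succ]
      omega
  have htw : t < w := by
    by_contra hcon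
    have := Nat.mul_le_mul_left e (not_lt.1 hcon)
    omega
  have htw' : e * t + e ≤ e * w := by
    have := Nat.mul_le_mul_left e (Nat.succ_le_of_lt htw)
    rwa [Nat.mul_succ] at this
  set J : Set (Fin m) := {k : Fin m | (k : ℕ) + 1 < e * w ∧ ¬ e ∣ (k : ℕ) + 1} with hJ
  have hmem : ∀ k : Fin m, e * t ≤ (k : ℕ) → (k : ℕ) + 1 < e * t + e → k ∈ J := fun k h1 h2 =>
    ⟨by omega, not_dvd_of_block R h1 h2⟩
  have hout1 : ∀ k ∈ J, (k : ℕ) + 1 ≠ e * t := fun k hk h1 => hk.2 ⟨t, h1⟩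
  have hout2 : ∀ k ∈ J, (k : ℕ) + 1 ≠ e * t + e := fun k hk h1 => hk.2 ⟨t + 1, by rw [Nat.mul_succ]; exact h1⟩
  refine ⟨s + 1, e - 1 - s, by omega, by omega, by omega, by omega, by omega, ?_⟩
  have h1 := card_seg R hy (J := J) (a := e * t) (k := e - 1) (by omega) (fun k hk1 hk2 => hmem k hk1 (by omega)) hout1
    (fun k hk h2 => hout2 k hk (by omega))
  have h2 := card_seg R hy (J := J \ {j}) (a := e * t) (k := s) (by omega)
    (fun k hk1 hk2 => ⟨hmem k hk1 (by omega), fun h3 => by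
      have h4 := congrArg Fin.val (Set.mem_singleton_iff.1 h3)
      omega⟩) (fun k hk => hout1 k hk.1) (fun k hk h3 => hk.2 (Fin.ext (by omega)))
  have h3 := card_seg R hy (J := (J \ {j}) \ {k | e * t ≤ (k : ℕ) ∧ (k : ℕ) < e * t + s}) (a := e * t + s + 1)
    (k := e - 2 - s) (by omega)
    (fun k hk1 hk2 => ⟨⟨hmem k (by omega) (by omega), fun h3 => by
      have h4 := congrArg Fin.val (Set.mem_singleton_iff.1 h3)
      omega⟩, fun h3 => by
        have := h3.2
        omega⟩)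
    (fun k hk h3 => hk.1.2 (Fin.ext (by omega))) (fun k hk h3 => hout2 k hk.1.1 (by omega))
  have h4 : ((J \ {j}) \ {k | e * t ≤ (k : ℕ) ∧ (k : ℕ) < e * t + s}) \
      {k | e * t + s + 1 ≤ (k : ℕ) ∧ (k : ℕ) < e * t + s + 1 + (e - 2 - s)} =
      J \ {k | e * t ≤ (k : ℕ) ∧ (k : ℕ) < e * t + (e - 1)} := by
    ext k
    simp only [Set.mem_sdiff, Set.mem_ofPred_eq, Set.mem_singleton_iff]
    constructor
    · rintro ⟨⟨⟨h5, h6⟩, h7⟩, h8⟩
      refine ⟨h5, fun h9 => ?_⟩
      have h10 : (k : ℕ) ≠ j := fun h11 => h6 (Fin.ext h11)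
      rcases Nat.lt_or_ge (k : ℕ) (e * t + s) with h11 | h11
      · exact h7 ⟨h9.1, h11⟩
      · exact h8 ⟨by omega, by omega⟩
    · rintro ⟨h5, h6⟩
      refine ⟨⟨⟨h5, ?_⟩, ?_⟩, ?_⟩
      · rintro rfl
        exact h6 ⟨by omega, by omega⟩
      · intro h7
        exact h6 ⟨by omega, by omega⟩
      · intro h7
        exact h6 ⟨by omega, by omega⟩
  rw [h4] at h3
  rw [h3] at h2
  rw [h1, h2]
  have e1 : e - 2 - s + 1 = e - 1 - s := by omega
  have e2 : e - 1 + 1 = e := by omega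
  rw [e1, e2]
  ring

end card

end Cfsg.Agent.H965.XZ
end

-- part: H886/XZ/LTE
section
/-!
# The `p`-part of the order of a group of type `B_m` at a linear prime (helper886, for S4791 / S4927)

* `fac_gs` : `v_p([e k]) = v_p([e]) + v_p(k)`, `v_p([n]) = 0` if `e` does not divide `n`;
* `fac_prod` : the `p`-part of `∏_{i < m} [i+1] (1 + y^i z)`, `m = v + e w`.
-/

set_option autoImplicit false

namespace Cfsg.Agent.H886.XZ

open Cfsg.Agent.H965.XZ (gs)

section

variable {p y e : ℕ} [hp : Fact p.Prime]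

theorem gs_ne_zero {n : ℕ} (hn : n ≠ 0) : gs y n ≠ 0 := by
  obtain ⟨n, rfl⟩ := Nat.exists_eq_succ_of_ne_zero hn
  unfold gs
  rw [Finset.sum_range_succ']
  simp

theorem gs_mul (hy : 1 < y) (n : ℕ) : gs y n * (y - 1) = y ^ n - 1 := by
  have h1 : ((gs y n : ℕ) : ℤ) * ((y : ℤ) - 1) = (y : ℤ) ^ n - 1 := by
    unfold gs
    push_cast
    exact geom_sum_mul _ _
  have h2 : 1 ≤ y ^ n := Nat.one_le_pow _ _ (by omega)
  zify [h2, hy.le]
  exact h1

variable (he0 : 0 < e) (he : e = orderOf (y : ZMod p))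

include he

theorem not_dvd_gs {n : ℕ} (hn : ¬ e ∣ n) : ¬ p ∣ gs y n := by
  intro h
  apply hn
  rw [he]
  apply orderOf_dvd_of_pow_eq_one
  have h1 : ((gs y n : ℕ) : ZMod p) * ((y : ZMod p) - 1) = (y : ZMod p) ^ n - 1 := by
    unfold gs
    push_cast
    exact geom_sum_mul _ _
  rw [(ZMod.natCast_eq_zero_iff _ _).2 h, zero_mul] at h1
  exact (sub_eq_zero.1 h1.symm)

include he0

theorem not_dvd_y : ¬ p ∣ y := by
  intro h
  have h1 : (y : ZMod p) = 0 := (ZMod.natCast_eq_zero_iff _ _).2 h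
  have h2 := pow_orderOf_eq_one (y : ZMod p)
  rw [← he, h1, zero_pow (by omega)] at h2
  exact zero_ne_one h2

/-- **the valuation of `[e k]`** -/
theorem fac_gs (hp2 : p ≠ 2) (hy : 1 < y) {k : ℕ} (hk : k ≠ 0) :
    (gs y (e * k)).factorization p = (gs y e).factorization p + k.factorization p := by
  have hodd : Odd p := hp.out.odd_of_ne_two hp2
  have h1 := gs_mul hy (e * k)
  have h2 := gs_mul hy e
  have hye : 1 < y ^ e := Nat.one_lt_pow (by omega) hy
  have hd : p ∣ y ^ e - 1 := by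
    rw [← ZMod.natCast_eq_zero_iff, Nat.cast_sub (by omega)]
    push_cast
    rw [he, pow_orderOf_eq_one, sub_self]
  have h3 : padicValNat p ((y ^ e) ^ k - 1 ^ k) = padicValNat p (y ^ e - 1) + padicValNat p k :=
    padicValNat.pow_sub_pow hodd hye hd (fun h => not_dvd_y he0 he (hp.out.dvd_of_dvd_pow h)) hk
  rw [one_pow, ← pow_mul, ← h1, ← h2, padicValNat.mul (gs_ne_zero (by positivity)) (by omega),
    padicValNat.mul (gs_ne_zero (by omega)) (by omega)] at h3
  rw [Nat.factorization_def _ hp.out, Nat.factorization_def _ hp.out, Nat.factorization_def _ hp.out]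
  omega

/-- the valuation of the product of a full period -/
theorem sum_period (hp2 : p ≠ 2) (hy : 1 < y) (w : ℕ) :
    ∑ i ∈ Finset.range e, (gs y (e * w + i + 1)).factorization p =
      (gs y e).factorization p + (w + 1).factorization p := by
  obtain ⟨e', rfl⟩ := Nat.exists_eq_succ_of_ne_zero (show e ≠ 0 by omega)
  rw [Finset.sum_range_succ, Finset.sum_eq_zero, zero_add,
    show (e' + 1) * w + e' + 1 = (e' + 1) * (w + 1) by ring, fac_gs he0 he hp2 hy (by omega)]
  intro i hi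
  apply Nat.factorization_eq_zero_of_not_dvd
  apply not_dvd_gs he
  intro h
  have h1 : (e' + 1) ∣ i + 1 := by
    rw [add_assoc] at h
    exact (Nat.dvd_add_right (Dvd.intro _ rfl)).1 h
  have h2 := Nat.le_of_dvd (by omega) h1
  rw [Finset.mem_range] at hi
  omega

theorem sum_all (hp2 : p ≠ 2) (hy : 1 < y) {v : ℕ} (hv : v < e) (w : ℕ) :
    ∑ i ∈ Finset.range (v + e * w), (gs y (i + 1)).factorization p =
      w * (gs y e).factorization p + w.factorial.factorization p := by
  have h1 : ∀ w : ℕ, ∑ i ∈ Finset.range (e * w), (gs y (i + 1)).factorization p =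
      w * (gs y e).factorization p + w.factorial.factorization p := by
    intro w
    induction w with
    | zero => simp
    | succ w ih =>
      rw [Nat.mul_succ, Finset.sum_range_add, ih, sum_period he0 he hp2 hy, Nat.factorial_succ,
        Nat.factorization_mul (by omega) (Nat.factorial_ne_zero w), Finsupp.add_apply]
      ring
  rw [add_comm v, Finset.sum_range_add, h1, Finset.sum_eq_zero, add_zero]
  intro i hi
  apply Nat.factorization_eq_zero_of_not_dvd
  apply not_dvd_gs he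
  intro h
  have h1 : e ∣ i + 1 := by
    rw [add_assoc] at h
    exact (Nat.dvd_add_right (Dvd.intro _ rfl)).1 h
  have h2 := Nat.le_of_dvd (by omega) h1
  rw [Finset.mem_range] at hi
  omega

end

/-- **the `p`-part of `∏_{i < m} [i+1] (1 + y^i z)`** -/
theorem fac_prod {p y z m v e w : ℕ} [hp : Fact p.Prime] (hp2 : p ≠ 2) (hy : 1 < y) (hm : v + e * w = m)
    (hv : v < e) (he0 : 0 < e) (he : e = orderOf (y : ZMod p)) (hlin : ∀ i, ¬ p ∣ 1 + y ^ i * z) :
    (∏ i ∈ Finset.range m, gs y (i + 1) * (1 + y ^ i * z)).factorization p =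
      ((∏ i ∈ Finset.range e, gs y (i + 1)) ^ w * w.factorial).factorization p := by
  have h1 : ∀ n : ℕ, (∏ i ∈ Finset.range n, gs y (i + 1)).factorization p =
      ∑ i ∈ Finset.range n, (gs y (i + 1)).factorization p := by
    intro n
    rw [Nat.factorization_prod fun i _ => gs_ne_zero (Nat.succ_ne_zero i), Finsupp.finsetSum_apply]
  have h2 : (∏ i ∈ Finset.range m, (1 + y ^ i * z)).factorization p = 0 := by
    rw [Nat.factorization_prod fun i _ => by positivity, Finsupp.finsetSum_apply]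
    exact Finset.sum_eq_zero fun i _ => Nat.factorization_eq_zero_of_not_dvd (hlin i)
  have hne : ∀ n : ℕ, ∏ i ∈ Finset.range n, gs y (i + 1) ≠ 0 := fun n =>
    Finset.prod_ne_zero_iff.2 fun i _ => gs_ne_zero (Nat.succ_ne_zero i)
  have h3 := sum_period he0 he hp2 hy 0
  simp only [mul_zero, zero_add, Nat.factorization_one, Finsupp.coe_zero, Pi.zero_apply, add_zero] at h3
  rw [Finset.prod_mul_distrib, Nat.factorization_mul (hne m) (Finset.prod_ne_zero_iff.2 fun i _ => by positivity),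
    Finsupp.add_apply, h2, add_zero, h1, ← hm, sum_all he0 he hp2 hy hv,
    Nat.factorization_mul (pow_ne_zero _ (hne e)) (Nat.factorial_ne_zero w), Finsupp.add_apply,
    Nat.factorization_pow, Finsupp.smul_apply, smul_eq_mul, h1, h3]

/-- **the `p`-part of `∏_{i < m} [i+1] ∏_{i < m-1} (1 + y^(i+1))`** (`TD y m` of helper965) -/
theorem fac_prod_D {p y m v e w : ℕ} [hp : Fact p.Prime] (hp2 : p ≠ 2) (hy : 1 < y) (hm : v + e * w = m)
    (hv : v < e) (he0 : 0 < e) (he : e = orderOf (y : ZMod p)) (hlin : ∀ i, ¬ p ∣ 1 + y ^ i) :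
    ((∏ i ∈ Finset.range m, gs y (i + 1)) * ∏ i ∈ Finset.range (m - 1), (1 + y ^ (i + 1))).factorization p =
      ((∏ i ∈ Finset.range e, gs y (i + 1)) ^ w * w.factorial).factorization p := by
  have h0 := fac_prod (z := 1) hp2 hy hm hv he0 he (by simpa using hlin)
  have hne : ∀ n : ℕ, ∏ i ∈ Finset.range n, gs y (i + 1) ≠ 0 := fun n =>
    Finset.prod_ne_zero_iff.2 fun i _ => gs_ne_zero (Nat.succ_ne_zero i)
  have h2 : ∀ n (f : ℕ → ℕ), (∏ i ∈ Finset.range n, (1 + y ^ (f i))).factorization p = 0 := by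
    intro n f
    rw [Nat.factorization_prod fun i _ => by positivity, Finsupp.finsetSum_apply]
    exact Finset.sum_eq_zero fun i _ => Nat.factorization_eq_zero_of_not_dvd (hlin _)
  rw [← h0, Nat.factorization_mul (hne m) (Finset.prod_ne_zero_iff.2 fun i _ => by positivity), Finsupp.add_apply,
    h2, add_zero, Finset.prod_mul_distrib, Nat.factorization_mul (hne m)
    (Finset.prod_ne_zero_iff.2 fun i _ => by positivity), Finsupp.add_apply]
  simp only [mul_one]
  rw [h2, add_zero]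

end Cfsg.Agent.H886.XZ
end

private theorem dce_63b1ff837d89 : _root_.True := by
  try have : _root_.True := by simp only [_root_.Cfsg.Agent.H636.LIN.phf.eq_1]
  exact _root_.True.intro
end

-- part: H614/XZ/Stp
section
set_option linter.all false
open scoped Cfsg.Agent.FastGrp

/-!
# S4791 + S4927, row `PSL_n`: hooks of length `e p` off one long row (helper614)

`stp e V β = ∑_i V (β - e e_i)` : one step of the Murnaghan-Nakayama rule with values modulo `p`.
* `stp_iterate_char` : `(stp e)^p = stp (e p)` modulo `p`;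
* `stp_bt` : the value at `bt n s (m Q) k`;
* `BB_bt` : the result for an abstract recursion.
-/

set_option autoImplicit false

namespace Cfsg.Agent.H614.XZ

open Finset Cfsg.Agent.H614 Cfsg.Agent.H963.XZ

variable {n p : ℕ}

/-- the operator which lowers the entry `i` by `e` -/
def xop (p : ℕ) {n : ℕ} (i : Fin n) (e : ℕ) : Module.End (ZMod p) ((Fin n → ℕ) → ZMod p) where
  toFun V β := if e ≤ β i then V (dn β i e) else 0
  map_add' V W := by
    funext β
    simp only [Pi.add_apply]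
    split_ifs
    · rfl
    · rw [add_zero]
  map_smul' c V := by
    funext β
    simp only [Pi.smul_apply, RingHom.id_apply]
    split_ifs
    · rfl
    · rw [smul_zero]

theorem xop_apply (i : Fin n) (e : ℕ) (V : (Fin n → ℕ) → ZMod p) (β : Fin n → ℕ) :
    xop p i e V β = if e ≤ β i then V (dn β i e) else 0 := rfl

theorem xop_zero (i : Fin n) : xop p i 0 = 1 := by
  apply LinearMap.ext
  intro V
  funext β
  rw [xop_apply, if_pos (Nat.zero_le _)]
  have h : dn β i 0 = β := by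
    funext k
    by_cases hk : k = i
    · subst hk
      rw [dn_self, Nat.sub_zero]
    · rw [dn_ne _ _ hk]
  rw [h]
  rfl

theorem xop_mul (i : Fin n) (a b : ℕ) : xop p i a * xop p i b = xop p i (a + b) := by
  apply LinearMap.ext
  intro V
  funext β
  change xop p i a (xop p i b V) β = _
  rw [xop_apply, xop_apply, xop_apply, dn_self, dn_dn]
  by_cases h1 : a ≤ β i
  · rw [if_pos h1]
    by_cases h2 : a + b ≤ β i
    · rw [if_pos h2, if_pos (by omega)]
    · rw [if_neg h2, if_neg (by omega)]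
  · rw [if_neg h1, if_neg (by omega)]

theorem xop_pow (i : Fin n) (e m : ℕ) : xop p i e ^ m = xop p i (e * m) := by
  induction m with
  | zero => rw [pow_zero, mul_zero, xop_zero]
  | succ m ih => rw [pow_succ, ih, xop_mul, mul_add, mul_one]

theorem dn_dn_comm (β : Fin n → ℕ) {i j : Fin n} (h : i ≠ j) (a b : ℕ) :
    dn (dn β i a) j b = dn (dn β j b) i a := by
  funext k
  by_cases hi : k = i
  · subst hi
    rw [dn_ne _ _ h, dn_self, dn_self, dn_ne _ _ h]
  · by_cases hj : k = j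
    · subst hj
      rw [dn_self, dn_ne _ _ hi, dn_ne _ _ hi, dn_self]
    · rw [dn_ne _ _ hj, dn_ne _ _ hi, dn_ne _ _ hi, dn_ne _ _ hj]

theorem xop_commute (i j : Fin n) (a b : ℕ) : Commute (xop p i a) (xop p j b) := by
  by_cases hij : i = j
  · subst hij
    change xop p i a * xop p i b = xop p i b * xop p i a
    rw [xop_mul, xop_mul, add_comm]
  · apply LinearMap.ext
    intro V
    funext β
    change xop p i a (xop p j b V) β = xop p j b (xop p i a V) β
    rw [xop_apply, xop_apply, xop_apply, xop_apply, dn_ne _ _ (Ne.symm hij), dn_ne _ _ hij, dn_dn_comm β hij]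
    split_ifs <;> rfl

/-- the sum of the operators -/
def stp (p : ℕ) {n : ℕ} (e : ℕ) : Module.End (ZMod p) ((Fin n → ℕ) → ZMod p) := ∑ i : Fin n, xop p i e

theorem stp_apply (e : ℕ) (V : (Fin n → ℕ) → ZMod p) (β : Fin n → ℕ) :
    stp p e V β = ∑ i, if e ≤ β i then V (dn β i e) else 0 := by
  rw [stp, LinearMap.sum_apply, Finset.sum_apply]
  rfl

theorem natCast_end : ((p : ℕ) : Module.End (ZMod p) ((Fin n → ℕ) → ZMod p)) = 0 := by
  apply LinearMap.ext
  intro V
  funext β
  rw [Module.End.natCast_apply]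
  rw [Pi.smul_apply, nsmul_eq_mul, CharP.cast_eq_zero, zero_mul]
  rfl

theorem sum_pow_p [hp : Fact p.Prime] (s : Finset (Fin n)) (e : ℕ) :
    (∑ i ∈ s, xop p i e) ^ p = ∑ i ∈ s, xop p i (e * p) := by
  classical
  induction s using Finset.induction_on with
  | empty => rw [Finset.sum_empty, Finset.sum_empty, zero_pow hp.out.ne_zero]
  | insert i s hi ih =>
    rw [Finset.sum_insert hi, Finset.sum_insert hi, Commute.add_pow_prime_eq hp.out, ih, xop_pow, natCast_end, zero_mul, zero_mul,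
      zero_mul, add_zero]
    exact Commute.sum_right _ _ _ fun j _ => xop_commute i j e e

theorem stp_pow_char [hp : Fact p.Prime] (e : ℕ) : (stp p e : Module.End (ZMod p) ((Fin n → ℕ) → ZMod p)) ^ p = stp p (e * p) :=
  sum_pow_p univ e

theorem stp_alt (e : ℕ) {V : (Fin n → ℕ) → ZMod p} (hV : Alt V) : Alt (stp p e V) := by
  intro σ β
  rw [stp_apply, stp_apply, Finset.smul_sum, ← Equiv.sum_comp σ (fun i => sg σ • if e ≤ β i then V (dn β i e) else 0)]
  refine Finset.sum_congr rfl fun i _ => ?_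
  rw [Function.comp_apply, dn_comp, hV]
  split_ifs
  · rfl
  · rw [smul_zero]

theorem pow_stp_alt (e m : ℕ) {V : (Fin n → ℕ) → ZMod p} (hV : Alt V) : Alt ((stp p e ^ m) V) := by
  induction m with
  | zero => exact hV
  | succ m ih =>
    rw [pow_succ']
    exact stp_alt e ih

theorem two_zmod [hp : Fact p.Prime] (h2 : p ≠ 2) (w : ZMod p) (h : w + w = 0) : w = 0 := by
  have h1 : (2 : ZMod p) * w = 0 := by rw [two_mul, h]
  refine (mul_eq_zero.1 h1).resolve_left fun h3 => ?_
  have h4 : ((2 : ℕ) : ZMod p) = 0 := by exact_mod_cast h3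
  rw [ZMod.natCast_eq_zero_iff] at h4
  exact h2 ((Nat.prime_dvd_prime_iff_eq hp.out Nat.prime_two).1 h4)

/-- the row -/
theorem stp_kp [hp : Fact p.Prime] (h2 : p ≠ 2) (hn : 0 < n) {e : ℕ} (he : 0 < e) {V : (Fin n → ℕ) → ZMod p} (hV : Alt V)
    (r s : ℕ) : (stp p e ^ r) V (kp n (e * r + s)) = V (kp n s) := by
  induction r with
  | zero => rw [mul_zero, zero_add]; rfl
  | succ r ih =>
    rw [pow_succ']
    change stp p e ((stp p e ^ r) V) _ = _
    rw [stp_apply, Finset.sum_eq_single (⟨n - 1, by omega⟩ : Fin n)]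
    · have h1 : kp n (e * (r + 1) + s) ⟨n - 1, by omega⟩ = (e * (r + 1) + s) + (n - 1) :=
        kp_last _ (by change n - 1 + 1 = n; omega)
      rw [if_pos (by rw [h1, mul_add]; omega), ← ih]
      refine congrArg ((stp p e ^ r) V) ?_
      funext i
      by_cases hi : i = ⟨n - 1, by omega⟩
      · subst hi
        rw [dn_self, h1, kp_last _ (by change n - 1 + 1 = n; omega), mul_add]
        change _ = _ + (n - 1)
        omega
      · have hi' : (i : ℕ) + 1 ≠ n := by
          intro h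
          apply hi
          apply Fin.ext
          change (i : ℕ) = n - 1
          omega
        rw [dn_ne _ _ hi, kp_lt i hi', kp_lt i hi']
    · intro i _ hi
      have hi' : (i : ℕ) + 1 ≠ n := by
        intro h
        apply hi
        apply Fin.ext
        change (i : ℕ) = n - 1
        omega
      split_ifs with h1
      · apply (pow_stp_alt e r hV).eq_zero_of_not_injective (two_zmod h2)
        intro hinj
        rw [kp_lt i hi'] at h1
        have hi2 := i.2
        let i' : Fin n := ⟨i - e, by omega⟩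
        have hne : i' ≠ i := by
          intro h
          have := congrArg Fin.val h
          change (i : ℕ) - e = i at this
          omega
        apply hne
        apply hinj
        rw [dn_self, dn_ne _ _ hne, kp_lt i hi', kp_lt i' (by change (i : ℕ) - e + 1 ≠ n; omega)]
      · rfl
    · intro h
      exact absurd (mem_univ _) h

/-- all hooks of length `Q` come off the long one -/
theorem stp_bt [hp : Fact p.Prime] (h2 : p ≠ 2) {s Q k : ℕ} (hs : s < Q) (hk : k < Q) (hQn : Q ≤ n) (hsk : s + k ≠ Q) (h : k < n)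
    {V : (Fin n → ℕ) → ZMod p} (hV : Alt V) (m : ℕ) :
    (stp p Q ^ m) V (bt n s (m * Q) k h) = V (kp n s) := by
  induction m with
  | zero =>
    change V _ = _
    congr 1
    funext i
    by_cases hi : i = jx n k h
    · subst hi
      rw [bt_self, zero_mul, add_zero]
    · rw [bt_ne _ _ _ _ _ hi]
  | succ m ih =>
    rw [pow_succ']
    change stp p Q ((stp p Q ^ m) V) _ = _
    rw [stp_apply, Finset.sum_eq_single (jx n k h)]
    · rw [if_pos (by rw [bt_self, add_mul]; omega), ← ih]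
      refine congrArg ((stp p Q ^ m) V) ?_
      funext i
      by_cases hi : i = jx n k h
      · subst hi
        rw [dn_self, bt_self, bt_self, add_mul]
        omega
      · rw [dn_ne _ _ hi, bt_ne _ _ _ _ _ hi, bt_ne _ _ _ _ _ hi]
    · intro i _ hi
      split_ifs with h1
      · apply (pow_stp_alt Q m hV).eq_zero_of_not_injective (two_zmod h2)
        intro hinj
        rw [bt_ne _ _ _ _ _ hi] at h1
        have hi2 := i.2
        have hj : (i : ℕ) ≠ n - 1 - k := fun h' => hi (Fin.ext h')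
        obtain ⟨i', h2, h3, h4⟩ : ∃ i' : Fin n, i' ≠ i ∧ i' ≠ jx n k h ∧ kp n s i' = kp n s i - Q := by
          by_cases hl : (i : ℕ) + 1 = n
          · rw [kp_last i hl] at h1 ⊢
            refine ⟨⟨s + i - Q, by omega⟩, ?_, ?_, ?_⟩
            · intro h'
              have := congrArg Fin.val h'
              change s + (i : ℕ) - Q = i at this
              omega
            · intro h'
              have := congrArg Fin.val h'
              change s + (i : ℕ) - Q = n - 1 - k at this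
              omega
            · rw [kp_lt]
              change s + (i : ℕ) - Q + 1 ≠ n
              omega
          · rw [kp_lt i hl] at h1 ⊢
            refine ⟨⟨i - Q, by omega⟩, ?_, ?_, ?_⟩
            · intro h'
              have := congrArg Fin.val h'
              change (i : ℕ) - Q = i at this
              omega
            · intro h'
              have := congrArg Fin.val h'
              change (i : ℕ) - Q = n - 1 - k at this
              omega
            · rw [kp_lt]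
              change (i : ℕ) - Q + 1 ≠ n
              omega
        apply h2
        apply hinj
        rw [dn_self, dn_ne _ _ h2, bt_ne _ _ _ _ _ h3, bt_ne _ _ _ _ _ hi, h4]
      · rfl
    · intro h'
      exact absurd (mem_univ _) h'

/-- the labels are injective -/
theorem bt_inj {s Q N k : ℕ} (hn : n = s + N) (hs : s < Q) (hN : Q ∣ N) (hN0 : 0 < N) (hk : k < Q) (hsk : s + k ≠ Q)
    (h : k < n) : Function.Injective (bt n s N k h) := by
  obtain ⟨m, rfl⟩ := hN
  have hm : m = 1 ∨ 2 ≤ m := by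
    rcases Nat.eq_zero_or_pos m with h0 | h0
    · rw [h0, mul_zero] at hN0
      omega
    · omega
  have hNQ : Q ≤ Q * m ∧ (Q * m = Q ∨ 2 * Q ≤ Q * m) := by
    rcases hm with hm | hm
    · subst hm
      rw [mul_one]
      exact ⟨le_refl _, Or.inl rfl⟩
    · have h1 : Q * 2 ≤ Q * m := Nat.mul_le_mul_left _ hm
      omega
  obtain ⟨N, hNN⟩ : ∃ N, N = Q * m := ⟨_, rfl⟩
  rw [← hNN] at hNQ hn ⊢
  have h0 : ∀ i : Fin n, i ≠ jx n k h → kp n s i ≠ kp n s (jx n k h) + N := by
    intro i hi he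
    have hi2 := i.2
    have hi3 : (i : ℕ) ≠ n - 1 - k := fun h => hi (Fin.ext h)
    unfold kp at he
    rw [jx_val] at he
    split_ifs at he <;> omega
  intro a b hab
  by_cases ha : a = jx n k h
  · by_cases hb : b = jx n k h
    · rw [ha, hb]
    · rw [ha, bt_self, bt_ne _ _ _ _ _ hb] at hab
      exact absurd hab.symm (h0 b hb)
  · by_cases hb : b = jx n k h
    · rw [hb, bt_self, bt_ne _ _ _ _ _ ha] at hab
      exact absurd hab (h0 a ha)
    · rw [bt_ne _ _ _ _ _ ha, bt_ne _ _ _ _ _ hb] at hab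
      exact kp_injective _ _ hab

end Cfsg.Agent.H614.XZ

private theorem dce_be7d80fe6865 : _root_.True := by
  try have : _root_.True := by simp only [_root_.Cfsg.Agent.H614.XZ.stp.eq_1]
  exact _root_.True.intro
end

-- part: H79/XZ/OrthTor
section
prune_inst 0x430106d4474e2000000180000620002607a0005220040000028000d0005c9ee60a0452821b2b005121a928c5d60310068135c0030422000000a000c000119048108801202a108a008000016000080400000000000000000000000000000000000200000000
set_option linter.all false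
open scoped Cfsg.Agent.FastGrp

/-!
# S4791 + S4927, own characteristic: torus elements of orthogonal groups (helper79)

`W` a Witt frame of `(V, Q)`, `TDiag W c t` : `t (e i) = c i • e i`, `t (f i) = (c i)⁻¹ • f i`, `t = 1` on `V0`.

* `tdiag_sup` : `t` is diagonalizable; `coef` : the coefficients of an eigenvector;
* `mem_of_siegel` : siegel elements give members of `Lam`;
* `exists_two` : `c = a` on two indices; `exists_sq` : `c = b ^ 2` on one index, both in `E Q`.
-/

set_option autoImplicit false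
set_option linter.unusedSectionVars false

namespace Cfsg.Agent.H79.XZ

open QuadraticMap Module
open Cfsg.Agent.LieClassical.OrthCore Cfsg.Agent.LieClassical.OrthTrans
open Cfsg.Agent.TitsThree Cfsg.Agent.TitsThree.Siegel Cfsg.Agent.TitsThree.SiegelGen Cfsg.Agent.TitsThree.KSideO

variable {F V : Type*} [Field F] [AddCommGroup V] [Module F V] {Q : QuadraticForm F V} {m : ℕ} {W : WFrame (PO Q) m}

section frame

theorem W_ee (i j : Fin m) : polar Q (W.e i) (W.e j) = 0 := W.ee i j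
theorem W_ff (i j : Fin m) : polar Q (W.f i) (W.f j) = 0 := W.ff i j
theorem W_ef (i j : Fin m) : polar Q (W.e i) (W.f j) = if i = j then 1 else 0 := W.ef i j
theorem W_fe (i j : Fin m) : polar Q (W.f i) (W.e j) = if i = j then 1 else 0 := by
  rw [polar_comm, W_ef]
  simp only [eq_comm]
theorem W_e (i : Fin m) : Q (W.e i) = 0 := (sing_iff Q).1 (W.e_sing i)
theorem W_f (i : Fin m) : Q (W.f i) = 0 := (sing_iff Q).1 (W.f_sing i)
theorem W_V0e {w : V} (hw : w ∈ W.V0) (i : Fin m) : polar Q w (W.e i) = 0 := W.V0e w hw i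
theorem W_V0f {w : V} (hw : w ∈ W.V0) (i : Fin m) : polar Q w (W.f i) = 0 := W.V0f w hw i

theorem hyp (i : Fin m) : Hyp Q (W.e i) (W.f i) := ⟨W_e i, W_f i, by rw [W_ef, if_pos rfl]⟩

theorem polar_f (a b : Fin m → F) {w : V} (hw : w ∈ W.V0) (l : Fin m) :
    polar Q (∑ i, a i • W.e i + ∑ i, b i • W.f i + w) (W.f l) = a l := by
  have h1 : ∀ x y : V, polar Q (x + y) (W.f l) = polar Q x (W.f l) + polar Q y (W.f l) := fun x y => polar_add_left Q x y _
  have h2 : ∀ (s : Finset (Fin m)) (g : Fin m → V), polar Q (∑ i ∈ s, g i) (W.f l) = ∑ i ∈ s, polar Q (g i) (W.f l) := by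
    intro s g
    exact map_sum ((polarBilin Q).flip (W.f l)) g s
  rw [h1, h1, h2, h2, W_V0f hw, add_zero, Finset.sum_eq_single l, Finset.sum_eq_zero, add_zero, polar_smul_left, W_ef,
    if_pos rfl, smul_eq_mul, mul_one]
  · intro i _
    rw [polar_smul_left, W_ff, smul_zero]
  · intro i _ hi
    rw [polar_smul_left, W_ef, if_neg hi, smul_zero]
  · intro h
    exact absurd (Finset.mem_univ l) h

theorem polar_e (a b : Fin m → F) {w : V} (hw : w ∈ W.V0) (l : Fin m) :
    polar Q (∑ i, a i • W.e i + ∑ i, b i • W.f i + w) (W.e l) = b l := by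
  have h1 : ∀ x y : V, polar Q (x + y) (W.e l) = polar Q x (W.e l) + polar Q y (W.e l) := fun x y => polar_add_left Q x y _
  have h2 : ∀ (s : Finset (Fin m)) (g : Fin m → V), polar Q (∑ i ∈ s, g i) (W.e l) = ∑ i ∈ s, polar Q (g i) (W.e l) := by
    intro s g
    exact map_sum ((polarBilin Q).flip (W.e l)) g s
  rw [h1, h1, h2, h2, W_V0e hw, add_zero, Finset.sum_eq_zero, zero_add, Finset.sum_eq_single l, polar_smul_left, W_fe,
    if_pos rfl, smul_eq_mul, mul_one]
  · intro i _ hi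
    rw [polar_smul_left, W_fe, if_neg hi, smul_zero]
  · intro h
    exact absurd (Finset.mem_univ l) h
  · intro i _
    rw [polar_smul_left, W_ee, smul_zero]

end frame

/-- a torus element -/
structure TDiag (W : WFrame (PO Q) m) (c : Fin m → F) (t : V ≃ₗ[F] V) : Prop where
  ne : ∀ i, c i ≠ 0
  e : ∀ i, t (W.e i) = c i • W.e i
  f : ∀ i, t (W.f i) = (c i)⁻¹ • W.f i
  z : ∀ w ∈ W.V0, t w = w

namespace TDiag

variable {c c' : Fin m → F} {t t' : V ≃ₗ[F] V}

theorem mul (h : TDiag W c t) (h' : TDiag W c' t') : TDiag W (fun i => c i * c' i) (t * t') := by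
  refine ⟨fun i => mul_ne_zero (h.ne i) (h'.ne i), fun i => ?_, fun i => ?_, fun w hw => ?_⟩
  · show t (t' _) = _
    rw [h'.e, map_smul, h.e, smul_smul, mul_comm]
  · show t (t' _) = _
    rw [h'.f, map_smul, h.f, smul_smul, mul_inv, mul_comm]
  · show t (t' _) = _
    rw [h'.z w hw, h.z w hw]

theorem sup (h : TDiag W c t) : ⨆ μ, Module.End.eigenspace (t : Module.End F V) μ = ⊤ := by
  rw [eq_top_iff]
  intro v _
  obtain ⟨a, b, w, hw, rfl⟩ := W.span v
  have hmem : ∀ (μ : F) (x : V), t x = μ • x → x ∈ ⨆ μ, Module.End.eigenspace (t : Module.End F V) μ := by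
    intro μ x hx
    exact Submodule.mem_iSup_of_mem μ (Module.End.mem_eigenspace_iff.2 hx)
  refine Submodule.add_mem _ (Submodule.add_mem _ ?_ ?_) ?_
  · exact Submodule.sum_mem _ fun i _ => Submodule.smul_mem _ _ (hmem _ _ (h.e i))
  · exact Submodule.sum_mem _ fun i _ => Submodule.smul_mem _ _ (hmem _ _ (h.f i))
  · exact hmem 1 w (by rw [h.z w hw, one_smul])

/-- the coefficients of an eigenvector -/
theorem coef (h : TDiag W c t) {μ : F} {a b : Fin m → F} {w : V} (hw : w ∈ W.V0)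
    (hv : t (∑ i, a i • W.e i + ∑ i, b i • W.f i + w) = μ • (∑ i, a i • W.e i + ∑ i, b i • W.f i + w)) :
    (∀ i, a i * (c i - μ) = 0) ∧ (∀ i, b i * ((c i)⁻¹ - μ) = 0) ∧ (1 - μ) • w = 0 := by
  have e1 : t (∑ i, a i • W.e i + ∑ i, b i • W.f i + w) - μ • (∑ i, a i • W.e i + ∑ i, b i • W.f i + w) =
      ∑ i, (a i * (c i - μ)) • W.e i + ∑ i, (b i * ((c i)⁻¹ - μ)) • W.f i + (1 - μ) • w := by
    rw [map_add, map_add, map_sum, map_sum, h.z w hw, smul_add, smul_add, Finset.smul_sum, Finset.smul_sum]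
    have e2 : ∑ i, t (a i • W.e i) = ∑ i, (a i * c i) • W.e i := by
      refine Finset.sum_congr rfl fun i _ => ?_
      rw [map_smul, h.e, smul_smul]
    have e3 : ∑ i, t (b i • W.f i) = ∑ i, (b i * (c i)⁻¹) • W.f i := by
      refine Finset.sum_congr rfl fun i _ => ?_
      rw [map_smul, h.f, smul_smul]
    have e4 : ∑ i, (a i * (c i - μ)) • W.e i = ∑ i, (a i * c i) • W.e i - ∑ i, μ • a i • W.e i := by
      rw [← Finset.sum_sub_distrib]
      refine Finset.sum_congr rfl fun i _ => ?_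
      rw [mul_sub, sub_smul, smul_smul, mul_comm μ]
    have e5 : ∑ i, (b i * ((c i)⁻¹ - μ)) • W.f i = ∑ i, (b i * (c i)⁻¹) • W.f i - ∑ i, μ • b i • W.f i := by
      rw [← Finset.sum_sub_distrib]
      refine Finset.sum_congr rfl fun i _ => ?_
      rw [mul_sub, sub_smul, smul_smul, mul_comm μ]
    rw [e2, e3, e4, e5, sub_smul, one_smul]
    abel
  rw [hv, sub_self] at e1
  have hw' : (1 - μ) • w ∈ W.V0 := W.V0.smul_mem _ hw
  have h1 : ∀ i, a i * (c i - μ) = 0 := by
    intro i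
    have := polar_f (fun i => a i * (c i - μ)) (fun i => b i * ((c i)⁻¹ - μ)) hw' i
    rw [← e1, polar_zero_left] at this
    exact this.symm
  have h2 : ∀ i, b i * ((c i)⁻¹ - μ) = 0 := by
    intro i
    have := polar_e (fun i => a i * (c i - μ)) (fun i => b i * ((c i)⁻¹ - μ)) hw' i
    rw [← e1, polar_zero_left] at this
    exact this.symm
  refine ⟨h1, h2, ?_⟩
  simp only [h1, h2, zero_smul, Finset.sum_const_zero, zero_add] at e1
  exact e1.symm

/-- the eigenvalues -/
theorem eig (h : TDiag W c t) {μ : F} {v : V} (hv : t v = μ • v) (h0 : v ≠ 0) :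
    μ = 1 ∨ ∃ i, μ = c i ∨ μ = (c i)⁻¹ := by
  obtain ⟨a, b, w, hw, rfl⟩ := W.span v
  obtain ⟨h1, h2, h3⟩ := h.coef hw hv
  by_contra hcon
  push Not at hcon
  obtain ⟨h4, h5⟩ := hcon
  apply h0
  have e1 : ∀ i, a i = 0 := fun i => (mul_eq_zero.1 (h1 i)).resolve_right fun h => (h5 i).1 (sub_eq_zero.1 h).symm
  have e2 : ∀ i, b i = 0 := fun i => (mul_eq_zero.1 (h2 i)).resolve_right fun h => (h5 i).2 (sub_eq_zero.1 h).symm
  have e3 : w = 0 := (smul_eq_zero.1 h3).resolve_left fun h => h4 (sub_eq_zero.1 h).symm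
  simp only [e1, e2, e3, zero_smul, Finset.sum_const_zero, add_zero]

end TDiag

section siegel

theorem siegel_pow {x y : V} (hx : Q x = 0) (hxy : polar Q x y = 0) (k : ℕ) (h : polar Q x ((k : F) • y) = 0) :
    siegel Q x y hx hxy ^ k = siegel Q x ((k : F) • y) hx h := by
  induction k with
  | zero =>
    ext v
    rw [siegel_apply]
    simp
  | succ k ih =>
    have h1 : polar Q x ((k : F) • y) = 0 := by rw [polar_smul_right, hxy, smul_zero]
    have h2 : polar Q x ((k : F) • y + y) = 0 := by rw [polar_add_right, h1, hxy, add_zero]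
    rw [pow_succ, ih h1, siegel_mul hx h1 hxy h2]
    congr 1
    rw [Nat.cast_succ, add_smul, one_smul]

/-- **siegel elements** -/
theorem mem_of_siegel {p : ℕ} [CharP F p] {t : ↥(E Q)} {x y x' : V} {α β : F} (hx : Q x = 0) (hy : Q y = 0)
    (hxy : polar Q x y = 0) (hx' : polar Q x x' = 1) (hyx' : polar Q y x' = 0) (hy0 : y ≠ 0)
    (htx : (t : V ≃ₗ[F] V) x = α • x) (hty : (t : V ≃ₗ[F] V) y = β • y) {k : ℕ} (hk : (k : F) = α * β) :
    k ∈ Lam p t := by
  have hk' : polar Q x ((k : F) • y) = 0 := by rw [polar_smul_right, hxy, smul_zero]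
  have hp' : polar Q x ((p : F) • y) = 0 := by rw [polar_smul_right, hxy, smul_zero]
  refine ⟨⟨siegel Q x y hx hxy, siegel_mem_E hx hxy⟩, ?_, ?_, ?_⟩
  · intro h
    have h1 : siegel Q x y hx hxy x' = x' := by
      have := congrArg (fun g : ↥(E Q) => (g : V ≃ₗ[F] V) x') h
      exact this
    rw [siegel_apply, hx', hyx', one_smul, zero_smul, sub_zero, hy, zero_mul, zero_smul, sub_zero] at h1
    exact hy0 (by simpa using h1)
  · apply Subtype.ext
    show siegel Q x y hx hxy ^ p = 1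
    rw [siegel_pow hx hxy p hp']
    ext v
    rw [siegel_apply, CharP.cast_eq_zero, zero_smul]
    simp
  · apply Subtype.ext
    have hx1 : Q ((t : V ≃ₗ[F] V) x) = 0 := by rw [mem_O.1 (E_le_O t.2), hx]
    have hxy1 : polar Q ((t : V ≃ₗ[F] V) x) ((t : V ≃ₗ[F] V) y) = 0 := by rw [polar_map (E_le_O t.2), hxy]
    show (t : V ≃ₗ[F] V) * siegel Q x y hx hxy * (t : V ≃ₗ[F] V)⁻¹ = siegel Q x y hx hxy ^ k
    rw [siegel_conj (E_le_O t.2) hx hxy hx1 hxy1, siegel_pow hx hxy k hk']
    ext v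
    rw [siegel_apply, siegel_apply, htx, hty, hk, QuadraticMap.map_smul, QuadraticMap.map_smul, hy]
    simp only [polar_smul_left, smul_eq_mul, smul_smul, mul_zero, zero_mul, zero_smul, sub_zero]
    congr 1
    · congr 1
      congr 1
      ring
    · congr 1
      ring

end siegel

section exist

theorem refl_hyp {x y : V} (h : Hyp Q x y) {c : F} (hc : c ≠ 0) (hv : Q (x - c • y) ≠ 0) :
    refl Q (x - c • y) hv x = c • y ∧ refl Q (x - c • y) hv y = c⁻¹ • x ∧
      ∀ z, polar Q x z = 0 → polar Q y z = 0 → refl Q (x - c • y) hv z = z := by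
  have hQ : Q (x - c • y) = -c := by
    rw [sub_eq_add_neg, ← neg_smul, Q_add, QuadraticMap.map_smul, h.left, h.right, polar_smul_right, h.pair,
      smul_zero, smul_eq_mul]
    ring
  have hx : polar Q (x - c • y) x = -c := by
    rw [polar_sub_left, polar_smul_left, polar_self_of_sing h.left, h.pair', smul_eq_mul]
    ring
  have hy : polar Q (x - c • y) y = 1 := by
    rw [polar_sub_left, polar_smul_left, polar_self_of_sing h.right, h.pair, smul_zero, sub_zero]
  refine ⟨?_, ?_, ?_⟩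
  · rw [refl_apply, hQ, hx, inv_neg, neg_mul_neg, inv_mul_cancel₀ hc, one_smul]
    abel
  · rw [refl_apply, hQ, hy, mul_one, inv_neg, neg_smul, smul_sub, smul_smul, inv_mul_cancel₀ hc, one_smul]
    abel
  · intro z hz1 hz2
    rw [refl_apply, polar_sub_left, polar_smul_left, hz1, hz2, smul_zero, sub_zero, mul_zero, zero_smul, sub_zero]

theorem Q_sub {x y : V} (h : Hyp Q x y) (c : F) : Q (x - c • y) = -c := by
  rw [sub_eq_add_neg, ← neg_smul, Q_add, QuadraticMap.map_smul, h.left, h.right, polar_smul_right, h.pair,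
    smul_zero, smul_eq_mul]
  ring

/-- the reflection swapping `e i` and `c • f i` -/
noncomputable def rr (W : WFrame (PO Q) m) (i : Fin m) (c : F) (hc : c ≠ 0) : V ≃ₗ[F] V :=
  refl Q (W.e i - c • W.f i) (by rw [Q_sub (hyp i)]; exact neg_ne_zero.2 hc)

theorem rr_e (i : Fin m) {c : F} (hc : c ≠ 0) : rr W i c hc (W.e i) = c • W.f i := (refl_hyp (hyp i) hc _).1
theorem rr_f (i : Fin m) {c : F} (hc : c ≠ 0) : rr W i c hc (W.f i) = c⁻¹ • W.e i := (refl_hyp (hyp i) hc _).2.1
theorem rr_z (i : Fin m) {c : F} (hc : c ≠ 0) {z : V} (h1 : polar Q (W.e i) z = 0) (h2 : polar Q (W.f i) z = 0) :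
    rr W i c hc z = z := (refl_hyp (hyp i) hc _).2.2 z h1 h2

theorem rr_e' {i j : Fin m} (hij : i ≠ j) {c : F} (hc : c ≠ 0) : rr W i c hc (W.e j) = W.e j :=
  rr_z i hc (W_ee i j) (by rw [W_fe, if_neg hij])
theorem rr_f' {i j : Fin m} (hij : i ≠ j) {c : F} (hc : c ≠ 0) : rr W i c hc (W.f j) = W.f j :=
  rr_z i hc (by rw [W_ef, if_neg hij]) (W_ff i j)
theorem rr_V0 (i : Fin m) {c : F} (hc : c ≠ 0) {w : V} (hw : w ∈ W.V0) : rr W i c hc w = w :=
  rr_z i hc (by rw [polar_comm, W_V0e hw]) (by rw [polar_comm, W_V0f hw])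

/-- one index -/
theorem tdiag_one (i : Fin m) {a : F} (ha : a ≠ 0) :
    TDiag W (fun k => if k = i then a else 1) (rr W i 1 one_ne_zero * rr W i a ha) := by
  refine ⟨fun k => ?_, fun k => ?_, fun k => ?_, fun w hw => ?_⟩
  · show (if k = i then a else 1) ≠ 0
    split_ifs
    · exact ha
    · exact one_ne_zero
  · show rr W i 1 one_ne_zero (rr W i a ha _) = (if k = i then a else 1) • W.e k
    split_ifs with h
    · rw [h, rr_e, map_smul, rr_f, inv_one, one_smul]
    · rw [rr_e' (Ne.symm h), rr_e' (Ne.symm h), one_smul]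
  · show rr W i 1 one_ne_zero (rr W i a ha _) = (if k = i then a else 1)⁻¹ • W.f k
    split_ifs with h
    · rw [h, rr_f, map_smul, rr_e, one_smul]
    · rw [rr_f' (Ne.symm h), rr_f' (Ne.symm h), inv_one, one_smul]
  · show rr W i 1 one_ne_zero (rr W i a ha _) = w
    rw [rr_V0 i _ hw, rr_V0 i _ hw]

theorem rr_comm {i j : Fin m} (hij : i ≠ j) {c d : F} (hc : c ≠ 0) (hd : d ≠ 0) :
    rr W j d hd * rr W i c hc = rr W i c hc * rr W j d hd := by
  have h1 : rr W j d hd (W.e i - c • W.f i) = W.e i - c • W.f i := by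
    rw [map_sub, map_smul, rr_e' (Ne.symm hij), rr_f' (Ne.symm hij)]
  have h2 : rr W j d hd * rr W i c hc * (rr W j d hd)⁻¹ = rr W i c hc := by
    unfold rr at h1 ⊢
    have := refl_conj (refl_mem_O (Q := Q) (v := W.e j - d • W.f j) (by rw [Q_sub (hyp j)]; exact neg_ne_zero.2 hd))
      (v := W.e i - c • W.f i) (by rw [Q_sub (hyp i)]; exact neg_ne_zero.2 hc) (by
        rw [h1, Q_sub (hyp i)]
        exact neg_ne_zero.2 hc)
    rw [this]
    congr 1
  exact mul_inv_eq_iff_eq_mul.1 h2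

/-- **two indices** -/
theorem exists_two (hG : Good Q) {i j : Fin m} (hij : i ≠ j) {a : F} (ha : a ≠ 0) :
    ∃ t : ↥(E Q), TDiag W (fun k => (if k = i then a else 1) * (if k = j then a else 1)) t := by
  refine ⟨⟨(rr W i 1 one_ne_zero * rr W i a ha) * (rr W j 1 one_ne_zero * rr W j a ha), ?_⟩,
    (tdiag_one i ha).mul (tdiag_one j ha)⟩
  have e1 : (rr W i 1 one_ne_zero * rr W i a ha) * (rr W j 1 one_ne_zero * rr W j a ha) =
      (rr W i 1 one_ne_zero * rr W j 1 one_ne_zero) * (rr W i a ha * rr W j a ha) := by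
    rw [mul_assoc, mul_assoc, ← mul_assoc (rr W i a ha), ← rr_comm hij ha one_ne_zero, mul_assoc]
  rw [e1]
  refine (E Q).mul_mem ?_ ?_
  · exact hG.refl_mul_refl_mem _ _ (by rw [Q_sub (hyp i), Q_sub (hyp j)])
  · exact hG.refl_mul_refl_mem _ _ (by rw [Q_sub (hyp i), Q_sub (hyp j)])

/-- **a square on one index** -/
theorem exists_sq (hG : Good Q) (i : Fin m) {b : F} (hb : b ≠ 0) :
    ∃ t : ↥(E Q), TDiag W (fun k => if k = i then b ^ 2 else 1) t := by
  have hb2 : b ^ 2 ≠ 0 := pow_ne_zero 2 hb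
  refine ⟨⟨rr W i 1 one_ne_zero * rr W i (b ^ 2) hb2, ?_⟩, tdiag_one i hb2⟩
  have h1 : Hyp Q (b⁻¹ • W.e i) (b • W.f i) := by
    refine ⟨?_, ?_, ?_⟩
    · rw [QuadraticMap.map_smul, W_e, smul_zero]
    · rw [QuadraticMap.map_smul, W_f, smul_zero]
    · rw [polar_smul_left, polar_smul_right, (hyp i).pair, smul_eq_mul, smul_eq_mul, mul_one, inv_mul_cancel₀ hb]
  have h2 : Q (b⁻¹ • W.e i - (1 : F) • (b • W.f i)) ≠ 0 := by
    rw [Q_sub h1]
    exact neg_ne_zero.2 one_ne_zero
  have h3 : rr W i (b ^ 2) hb2 = refl Q (b⁻¹ • W.e i - (1 : F) • (b • W.f i)) h2 := by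
    ext v
    unfold rr
    rw [refl_apply, refl_apply, Q_sub (hyp i), Q_sub h1]
    have e1 : b⁻¹ • W.e i - (1 : F) • (b • W.f i) = b⁻¹ • (W.e i - b ^ 2 • W.f i) := by
      rw [smul_sub, one_smul, smul_smul]
      congr 2
      field_simp
    rw [e1, polar_smul_left, smul_smul, smul_eq_mul]
    congr 2
    field_simp
  rw [h3]
  unfold rr
  exact hG.refl_mul_refl_mem h2 _ (by rw [Q_sub (hyp i), Q_sub h1])

end exist

end Cfsg.Agent.H79.XZ

private theorem dce_e383dc337520 : _root_.True := by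
  try have : _root_.True := by simp only [_root_.Cfsg.Agent.H79.XZ.rr.congr_simp]
  exact _root_.True.intro
end
end
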